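import Cfsg.Agent.Lib.Char.OddDegreeSum
import Cfsg.Agent.Lib.Char.ExtendChar

/-!
# Degrees avoiding a product of two primes
-/

set_option autoImplicit false
set_option linter.style.haveILetI false
set_option linter.unusedSectionVars false

namespace CfsgLib.ThreePrimes

open Cfsg CfsgLib.Char
open scoped CfsgLib.Char

variable {G : Type*} [Group G] [Finite G]

/-- No degree of an irreducible character is divisible by both `p` and `r`. -/
def NoPair (G : Type*) [Group G] (p r : ℕ) : Prop :=
  ∀ χ : IrrCharacter G, p ∣ charDegree (χ : G → ℂ) → r ∣ charDegree (χ : G → ℂ) → False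

/-- Some irreducible degree is divisible by `p`. -/
def HasDeg (G : Type*) [Group G] (p : ℕ) : Prop :=
  ∃ χ : IrrCharacter G, p ∣ charDegree (χ : G → ℂ)

theorem NoPair.symm {p r : ℕ} (h : NoPair G p r) : NoPair G r p := fun χ h1 h2 => h χ h2 h1

theorem NoPair.of_surjective {H : Type*} [Group H] [Finite H] {p r : ℕ} (h : NoPair G p r)
    (f : G →* H) (hf : Function.Surjective f) : NoPair H p r := by
  intro χ hp hr
  obtain ⟨d, -, hd⟩ := exists_nat_degree_irr χ.2
  rw [Extraspecial.charDegree_eq hd] at hp hr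
  have h1 : (fun g => (χ : H → ℂ) (f g)) 1 = (d : ℂ) := by simpa using hd
  exact h ⟨_, isIrrCharacter_comp hf χ.2⟩ (by rwa [Extraspecial.charDegree_eq h1])
    (by rwa [Extraspecial.charDegree_eq h1])

theorem HasDeg.of_surjective {H : Type*} [Group H] [Finite H] {p : ℕ} (h : HasDeg H p)
    (f : G →* H) (hf : Function.Surjective f) : HasDeg G p := by
  obtain ⟨χ, hp⟩ := h
  obtain ⟨d, -, hd⟩ := exists_nat_degree_irr χ.2
  rw [Extraspecial.charDegree_eq hd] at hp
  have h1 : (fun g => (χ : H → ℂ) (f g)) 1 = (d : ℂ) := by simpa using hd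
  exact ⟨⟨_, isIrrCharacter_comp hf χ.2⟩, by rwa [Extraspecial.charDegree_eq h1]⟩

/-- The degree of a character above a normal subgroup is a multiple of the orbit length times
the degree below. -/
theorem exists_degree_orbit (N : Subgroup G) [N.Normal] [Fintype G] (θ : IrrCharacter N) (d : ℕ)
    (hd : (θ : N → ℂ) 1 = d) :
    ∃ χ : IrrCharacter G, (inertia N (θ : N → ℂ)).index * d ∣ charDegree (χ : G → ℂ) := by
  classical
  haveI : Fintype N := Fintype.ofFinite N
  obtain ⟨χ, hχ⟩ := OddDegreeSum.exists_over N θ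
  obtain ⟨e, he⟩ := exists_nat_classInner (isCharacter_restrict N (isCharacter_of_isIrr χ.2))
    (isCharacter_of_isIrr θ.2)
  have h := clifford_degree N χ.2 θ.2 hχ
  rw [he, card_orbit_eq_index, hd, ← Nat.cast_mul, ← Nat.cast_mul] at h
  exact ⟨χ, by rw [Extraspecial.charDegree_eq h]; exact Dvd.intro_left _ rfl⟩

/-- A cyclic normal subgroup gives a degree divisible by the index of its centralizer. -/
theorem exists_degree_centralizer (C : Subgroup G) [C.Normal] [IsCyclic C] :
    ∃ χ : IrrCharacter G, (Subgroup.centralizer (C : Set G)).index ∣ charDegree (χ : G → ℂ) := by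
  classical
  haveI : Fintype G := Fintype.ofFinite G
  haveI : Fintype C := Fintype.ofFinite C
  haveI : NeZero (Nat.card C) := ⟨Nat.card_pos.ne'⟩
  let eC : C ≃* rootsOfUnity (Nat.card C) ℂ :=
    mulEquivOfCyclicCardEq (by rw [HasEnoughRootsOfUnity.natCard_rootsOfUnity ℂ (Nat.card C)])
  let j : C →* ℂˣ := (rootsOfUnity (Nat.card C) ℂ).subtype.comp eC.toMonoidHom
  have hj : Function.Injective j := Subtype.val_injective.comp eC.injective
  let θ : IrrCharacter C := ⟨fun c => (j c : ℂ),
    isIrrCharacter_of_degree_one (isCharacter_monoidHom j) (by simp)⟩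
  obtain ⟨χ, hχ⟩ := exists_degree_orbit C θ 1 (by show (j 1 : ℂ) = _; simp)
  refine ⟨χ, ?_⟩
  rw [mul_one] at hχ
  have hI : inertia C (θ : C → ℂ) = Subgroup.centralizer (C : Set G) := by
    ext g
    rw [mem_inertia, Subgroup.mem_centralizer_iff]
    constructor
    · intro h c hc
      have h1 : j ⟨g * c * g⁻¹, (inferInstance : C.Normal).conj_mem c hc g⟩ = j ⟨c, hc⟩ :=
        Units.ext (congrFun h ⟨c, hc⟩)
      have h2 : g * c * g⁻¹ = c := congrArg Subtype.val (hj h1)
      calc c * g = (g * c * g⁻¹) * g := by rw [h2]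
        _ = g * c := by group
    · intro h
      funext c
      show (j ⟨g * c * g⁻¹, _⟩ : ℂ) = (j c : ℂ)
      congr 2
      refine Subtype.ext ?_
      show g * (c : G) * g⁻¹ = c
      rw [← h c c.2, mul_inv_cancel_right]
  rwa [hI] at hχ

theorem not_both_dvd_index {p r : ℕ} (h : NoPair G p r) (C : Subgroup G) [C.Normal] [IsCyclic C]
    (hp : p ∣ (Subgroup.centralizer (C : Set G)).index)
    (hr : r ∣ (Subgroup.centralizer (C : Set G)).index) : False := by
  obtain ⟨χ, hχ⟩ := exists_degree_centralizer C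
  exact h χ (hp.trans hχ) (hr.trans hχ)

end CfsgLib.ThreePrimes
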