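import Cfsg.Agent.Lib.ThreePrimes.Tools

/-!
# The minimal normal subgroup is prime to the missing prime
-/

set_option autoImplicit false
set_option linter.style.haveILetI false
set_option linter.unusedSectionVars false

open scoped commutatorElement

namespace CfsgLib.ThreePrimes

open Cfsg CfsgLib.Char
open scoped CfsgLib.Char

variable {G : Type*} [Group G] [Finite G]

theorem mem_sylow_conj_eq {l : ℕ} [Fact l.Prime] (S : Sylow l G) (Y : Subgroup G) [Y.Normal]
    (hSY : (S : Subgroup G) ≤ Y) (hY : Y ≤ Subgroup.normalizer ((S : Subgroup G) : Set G)) :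
    (S : Subgroup G).Normal := by
  refine ⟨fun s hs g => ?_⟩
  have hle : ((g • S : Sylow l G) : Subgroup G) ≤ Subgroup.normalizer ((S : Subgroup G) : Set G) := by
    refine le_trans ?_ hY
    rw [Sylow.coe_subgroup_smul]
    intro x hx
    rw [Subgroup.mem_pointwise_smul_iff_inv_smul_mem, ← map_inv, MulAut.smul_def,
      MulAut.conj_apply] at hx
    have h := Subgroup.Normal.conj_mem ‹Y.Normal› _ (hSY hx) g
    simpa [mul_assoc] using h
  have hsup : IsPGroup l (((g • S : Sylow l G) : Subgroup G) ⊔ (S : Subgroup G) : Subgroup G) :=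
    (g • S : Sylow l G).2.to_sup_of_normal_right' S.2 hle
  rw [← S.3 hsup le_sup_right]
  refine Subgroup.mem_sup_left ?_
  rw [Sylow.coe_subgroup_smul, Subgroup.mem_pointwise_smul_iff_inv_smul_mem, ← map_inv,
    MulAut.smul_def, MulAut.conj_apply]
  simpa [mul_assoc] using hs

set_option maxHeartbeats 800000 in
theorem caseA [Group.IsSolvable G] {p q r u : ℕ} (hp : p.Prime) (hq : q.Prime) (hr : r.Prime)
    (hu : u.Prime) (hpr : p ≠ r) (huq : u ≠ q)
    (M : Subgroup G) [M.Normal] (hM0 : M ≠ ⊥) (hMu : IsPGroup u M)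
    (hab : ∀ a ∈ M, ∀ b ∈ M, a * b = b * a) (hexp : ∀ a ∈ M, a ^ u = 1)
    (hmin : ∀ K : Subgroup G, K.Normal → K ≤ M → K = ⊥ ∨ K = M)
    (hMq : ¬ HasDeg (G ⧸ M) q) (hdp : HasDeg G p) (hdq : HasDeg G q) (hdr : HasDeg G r)
    (hqp : NoPair G q p) (hqr : NoPair G q r) (hpr' : NoPair G p r)
    (hIH : ∀ (K : Subgroup G) [K.Normal], K ≠ ⊥ →
      ¬ HasDeg (G ⧸ K) p ∨ ¬ HasDeg (G ⧸ K) q ∨ ¬ HasDeg (G ⧸ K) r) : False := by
  classical
  haveI := Fact.mk hp; haveI := Fact.mk hq; haveI := Fact.mk hr; haveI := Fact.mk hu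
  haveI : Fintype G := Fintype.ofFinite G
  obtain ⟨Pq, hPqn, hPqp, hPqi, hPqab⟩ := exists_normal_abelian_sylow hMq
  haveI := hPqn
  obtain ⟨Q⟩ : Nonempty (Sylow q G) := inferInstance
  obtain ⟨hX, hQX⟩ := comap_eq_sup M Pq hPqp hPqi Q
  set X := Pq.comap (QuotientGroup.mk' M) with hXdef
  haveI : X.Normal := inferInstance
  have hMQ : M ⊓ (Q : Subgroup G) = ⊥ :=
    (Subgroup.disjoint_of_coprime_natCard
      (IsPGroup.coprime_card_of_ne u q huq M (Q : Subgroup G) hMu Q.2)).eq_bot
  have hQab : ∀ a ∈ (Q : Subgroup G), ∀ b ∈ (Q : Subgroup G), a * b = b * a := by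
    intro a ha b hb
    have h1 : ⁅a, b⁆ ∈ M ⊓ (Q : Subgroup G) := by
      refine Subgroup.mem_inf.mpr ⟨?_, mul_mem (mul_mem (mul_mem ha hb) (inv_mem ha)) (inv_mem hb)⟩
      rw [← QuotientGroup.eq_one_iff, ← QuotientGroup.mk'_apply, map_commutatorElement,
        commutatorElement_eq_one_iff_mul_comm]
      exact hPqab _ (hQX ha) _ (hQX hb)
    rw [hMQ, Subgroup.mem_bot] at h1
    exact commutatorElement_eq_one_iff_mul_comm.mp h1
  have hQnn : ¬ (Q : Subgroup G).Normal := fun h =>
    not_hasDeg (Q : Subgroup G) hQab Q.not_dvd_index hdq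
  set H := Subgroup.normalizer ((Q : Subgroup G) : Set G) with hH
  have hQH : (Q : Subgroup G) ≤ H := Subgroup.le_normalizer
  have hsup : M ⊔ H = ⊤ := by
    have h : H ⊔ X = ⊤ := Sylow.normalizer_sup_eq_top' Q hQX
    rw [hX, ← sup_assoc, sup_comm H M, sup_assoc, sup_eq_left.mpr hQH] at h
    exact h
  have hinf : M ⊓ H = ⊥ := by
    have hn : (M ⊓ H).Normal := by
      refine ⟨fun x hx g => ?_⟩
      obtain ⟨m, hm, h, hh, rfl⟩ :=
        Subgroup.mem_sup_of_normal_left.mp (show g ∈ M ⊔ H by rw [hsup]; trivial)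
      have h1 : h * x * h⁻¹ ∈ M ⊓ H :=
        Subgroup.mem_inf.mpr ⟨Subgroup.Normal.conj_mem ‹M.Normal› x hx.1 h, mul_mem (mul_mem hh hx.2) (inv_mem hh)⟩
      have h2 : m * (h * x * h⁻¹) * m⁻¹ = h * x * h⁻¹ := by
        rw [hab m hm _ h1.1, mul_inv_cancel_right]
      rw [show m * h * x * (m * h)⁻¹ = m * (h * x * h⁻¹) * m⁻¹ by group, h2]
      exact h1
    refine (hmin _ hn inf_le_left).resolve_right fun h => hQnn ?_
    have hMH : M ≤ H := inf_eq_left.mp h
    rw [← Subgroup.normalizer_eq_top_iff, ← hH, ← top_le_iff, ← hsup]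
    exact sup_le hMH le_rfl
  -- the projection onto the complement
  let e0 : H →* G ⧸ M := (QuotientGroup.mk' M).comp H.subtype
  have he0 : Function.Bijective e0 := by
    refine ⟨(injective_iff_map_eq_one e0).mpr fun h h1 => ?_, fun x => ?_⟩
    · have : (h : G) ∈ M ⊓ H := ⟨(QuotientGroup.eq_one_iff _).mp h1, h.2⟩
      rw [hinf, Subgroup.mem_bot] at this
      exact Subtype.ext this
    · obtain ⟨g, rfl⟩ := QuotientGroup.mk_surjective x
      obtain ⟨m, hm, h, hh, rfl⟩ :=
        Subgroup.mem_sup_of_normal_left.mp (show g ∈ M ⊔ H by rw [hsup]; trivial)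
      refine ⟨⟨h, hh⟩, ?_⟩
      show (h : G ⧸ M) = ((m * h : G) : G ⧸ M)
      rw [QuotientGroup.mk_mul, (QuotientGroup.eq_one_iff m).mpr hm, one_mul]
  let e : H ≃* G ⧸ M := MulEquiv.ofBijective e0 he0
  let f : G →* H := e.symm.toMonoidHom.comp (QuotientGroup.mk' M)
  have hf : Function.Surjective f := e.symm.surjective.comp (QuotientGroup.mk'_surjective M)
  have hfker : ∀ g : G, g * ((f g : H) : G)⁻¹ ∈ M := by
    intro g
    rw [← QuotientGroup.eq_one_iff, QuotientGroup.mk_mul, QuotientGroup.mk_inv, mul_inv_eq_one]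
    exact (e.apply_symm_apply _).symm
  have hfH : ∀ h : H, f (h : G) = h := fun h => e.symm_apply_apply h
  haveI : Group.IsSolvable H := Group.isSolvable_of_isSolvable_injective H.subtype_injective
  have hHpr : NoPair H p r := hpr'.of_surjective f hf
  have hidxH : M.index = Nat.card H := (Nat.card_congr e.toEquiv).symm
  have hdvd : ∀ l, HasDeg G l → l ∣ Nat.card H := fun l h => hidxH ▸ h.dvd_index M hab
  -- the module
  haveI := finite_hom M hab
  haveI := nontrivial_dual M hab hM0 hexp
  set ρ := kernelRep M H u hexp with hρdef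
  set Qh := (Q : Subgroup G).subgroupOf H with hQh
  haveI : Qh.Normal := ⟨fun x hx g => by
    rw [hQh, Subgroup.mem_subgroupOf] at hx ⊢
    exact ((Subgroup.mem_normalizer_iff.mp g.2) _).mp hx⟩
  have hQhp : IsPGroup q Qh :=
    Q.2.of_injective ((Subgroup.subgroupOfEquivOfLe hQH).toMonoidHom) (MulEquiv.injective _)
  have key : ∀ v : LinDual (⊤ : Subgroup (M →* ℂˣ)) (hom_pow_eq_one hexp), v ≠ 0 →
      ∀ l : ℕ, l.Prime → NoPair G q l → ∃ S : Sylow l H, (∀ g ∈ (S : Subgroup H), ρ g v = v) ∧
        (∀ g : H, ρ g v = v → ∀ s ∈ (S : Subgroup H), g * s * g⁻¹ ∈ (S : Subgroup H)) ∧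
        ∀ a ∈ (S : Subgroup H), ∀ b ∈ (S : Subgroup H), a * b = b * a := by
    intro v hv l hl hpair
    haveI := Fact.mk hl
    let Hs : Subgroup H :=
      { carrier := {h | ρ h v = v}
        one_mem' := by show ρ 1 v = v; rw [map_one]; rfl
        mul_mem' := fun {a b} ha hb => by
          show ρ (a * b) v = v
          rw [map_mul, LinearEquiv.mul_apply, show ρ b v = v from hb, show ρ a v = v from ha]
        inv_mem' := fun {a} ha => by
          show ρ a⁻¹ v = v
          conv_lhs => rw [← show ρ a v = v from ha]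
          rw [← LinearEquiv.mul_apply, ← map_mul, inv_mul_cancel, map_one]; rfl }
    let θ : IrrCharacter M := ⟨fun n => (v.char n : ℂ),
      isIrrCharacter_of_degree_one (isCharacter_monoidHom v.char) (by simp)⟩
    have hHs : ∀ h : H, h ∈ Hs ↔ conjBy M (θ : M → ℂ) (h : G) = θ := fun h =>
      (kernelRep_fix M H u hexp h v).trans (conjBy_eq_iff M H v.char h).symm
    have hdeg : ∀ ψ : IrrCharacter Hs, ∃ χ : IrrCharacter G,
        charDegree (χ : G → ℂ) = Hs.index * charDegree (ψ : Hs → ℂ) := by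
      intro ψ
      obtain ⟨χ, hχ⟩ := semidirect_degree M H hsup hinf θ Hs hHs
        (linear_extends M H hsup hinf v.char Hs hHs) ψ
      refine ⟨χ, ?_⟩
      rw [hχ, Extraspecial.charDegree_eq (d := 1) (χ := (θ : M → ℂ)) (by
        show (v.char 1 : ℂ) = _; simp), mul_one]
    have hqidx : q ∣ Hs.index := by
      by_contra hnq
      have hQs : Qh ≤ Hs := le_of_not_dvd_index Qh Hs hQhp hnq
      have hD : ⁅M, (Q : Subgroup G)⁆ ≤ M := Subgroup.commutator_le.mpr fun a ha b _ => by
        rw [commutatorElement_def, show a * b * a⁻¹ * b⁻¹ = a * (b * a⁻¹ * b⁻¹) by group]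
        exact mul_mem ha (Subgroup.Normal.conj_mem ‹M.Normal› _ (inv_mem ha) b)
      have hDn : (⁅M, (Q : Subgroup G)⁆).Normal := by
        rw [← Subgroup.normalizer_eq_top_iff, ← top_le_iff, ← hsup, sup_le_iff]
        refine ⟨fun m hm => Subgroup.mem_normalizer_iff.mpr fun x => ⟨fun hx => ?_, fun hx => ?_⟩,
          Coprime.le_normalizer_commutator (by rw [Subgroup.normalizer_eq_top (H := M)]; exact le_top)
            le_rfl⟩
        · rwa [hab m hm x (hD hx), mul_inv_cancel_right]
        · have hxM : x ∈ M := by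
            have := mul_mem (mul_mem (inv_mem hm) (hD hx)) hm
            simpa [mul_assoc] using this
          rwa [hab m hm x hxM, mul_inv_cancel_right] at hx
      rcases hmin _ hDn hD with h0 | h0
      · -- then `Q` centralises `M`
        refine hM0 ?_
        rw [← hinf, eq_comm, inf_eq_left]
        intro m hm
        rw [hH, Subgroup.mem_normalizer_iff]
        intro x
        have hc : ∀ y ∈ (Q : Subgroup G), m * y = y * m := fun y hy => by
          have h1 : ⁅m, y⁆ ∈ ⁅M, (Q : Subgroup G)⁆ := Subgroup.commutator_mem_commutator hm hy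
          rw [h0, Subgroup.mem_bot] at h1
          exact commutatorElement_eq_one_iff_mul_comm.mp h1
        constructor
        · intro hx; rwa [hc x hx, mul_inv_cancel_right]
        · intro hx
          have h1 := hc _ hx
          have : x = m * x * m⁻¹ := by
            have h2 : m⁻¹ * (m * x * m⁻¹) * m = m * x * m⁻¹ := by rw [mul_assoc m⁻¹, ← h1]; group
            rw [← h2]; group
          rwa [← this] at hx
      · refine hv (LinDual.char_eq_one_iff.mp (MonoidHom.ext fun n => ?_))
        have hle : ⁅M, (Q : Subgroup G)⁆ ≤ v.char.ker.map M.subtype := by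
          refine Subgroup.commutator_le.mpr fun a ha b hb => ?_
          have hfix := (kernelRep_fix M H u hexp ⟨b, hQH hb⟩ v).mp
            (hQs (show (⟨b, hQH hb⟩ : H) ∈ Qh from hb)) ⟨a⁻¹, inv_mem ha⟩
          refine ⟨⟨a, ha⟩ * conjAct M H ⟨b, hQH hb⟩ ⟨a⁻¹, inv_mem ha⟩, ?_, ?_⟩
          · show v.char _ = 1
            rw [map_mul, hfix, ← map_mul]
            rw [show (⟨a, ha⟩ : M) * ⟨a⁻¹, inv_mem ha⟩ = 1 from Subtype.ext (mul_inv_cancel a),
              map_one]
          · rw [Subgroup.coe_subtype, Subgroup.coe_mul, conjAct_coe, commutatorElement_def]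
            show a * (b * a⁻¹ * b⁻¹) = _
            group
        rw [h0] at hle
        obtain ⟨y, hy, he⟩ := hle n.2
        rw [show n = y from (Subtype.ext he).symm]
        exact hy
    have hl' : ¬ l ∣ Hs.index ∧ ¬ HasDeg Hs l := by
      refine ⟨fun hd => ?_, fun ⟨ψ, hd⟩ => ?_⟩
      · obtain ⟨χ, hχ⟩ := hdeg ⟨fun _ => 1, isIrrCharacter_one⟩
        exact hpair χ (hχ ▸ hqidx.mul_right _) (hχ ▸ hd.mul_right _)
      · obtain ⟨χ, hχ⟩ := hdeg ψ
        exact hpair χ (hχ ▸ hqidx.mul_right _) (hχ ▸ hd.mul_left _)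
    obtain ⟨S, hS, hn, ha⟩ := exists_sylow_stab Hs hl'.1 hl'.2
    exact ⟨S, fun g hg => hS hg, fun g hg => hn g hg, ha⟩
  -- a normal Sylow subgroup is impossible
  have hno : ∀ l : ℕ, l.Prime → NoPair G q l → HasDeg G l → ∀ S : Sylow l H,
      ¬ (S : Subgroup H).Normal := by
    intro l hl hpair hdl S hSn
    haveI := Fact.mk hl
    have huni : ∀ T : Sylow l H, T = S := fun T =>
      (Sylow.unique_of_normal S hSn).instSubsingleton.elim T S
    obtain ⟨v₀, hv₀⟩ :=
      exists_ne (0 : LinDual (⊤ : Subgroup (M →* ℂˣ)) (hom_pow_eq_one hexp))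
    have hSab : ∀ a ∈ (S : Subgroup H), ∀ b ∈ (S : Subgroup H), a * b = b * a := by
      obtain ⟨T, -, -, hT⟩ := key v₀ hv₀ l hl hpair
      rwa [huni T] at hT
    have hSM : ∀ s ∈ (S : Subgroup H), ∀ m ∈ M, (s : G) * m = m * s := fun s hs =>
      kernelRep_eq_one M hab H hexp (LinearEquiv.ext fun v => by
        show ρ s v = v
        by_cases hv : v = 0
        · rw [hv, map_zero]
        obtain ⟨T, hT, -, -⟩ := key v hv l hl hpair
        rw [huni T] at hT
        exact hT s hs)
    haveI : ((S : Subgroup H).comap f).Normal := hSn.comap f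
    refine not_hasDeg ((S : Subgroup H).comap f) ?_ ?_ hdl
    · intro a ha b hb
      have da : a = (a * ((f a : H) : G)⁻¹) * (f a : H) := by group
      have db : b = (b * ((f b : H) : G)⁻¹) * (f b : H) := by group
      set m := a * ((f a : H) : G)⁻¹ with hm
      set m' := b * ((f b : H) : G)⁻¹ with hm'
      have c1 : Commute m m' := hab _ (hfker a) _ (hfker b)
      have c2 : Commute m ((f b : H) : G) := (hSM _ hb m (hfker a)).symm
      have c3 : Commute ((f a : H) : G) m' := hSM _ ha m' (hfker b)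
      have c4 : Commute ((f a : H) : G) ((f b : H) : G) :=
        congrArg Subtype.val (hSab _ ha _ hb)
      rw [da, db]
      exact (Commute.mul_left (c1.mul_right c2) (c3.mul_right c4)).eq
    · rw [Subgroup.index_comap_of_surjective _ hf]
      exact S.not_dvd_index
  -- the action is faithful
  have hinj : Function.Injective ρ := by
    by_contra hninj
    let K := Subgroup.centralizer (M : Set G) ⊓ H
    have hKn : K.Normal := by
      refine ⟨fun x hx g => ?_⟩
      obtain ⟨m, hm, h, hh, rfl⟩ :=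
        Subgroup.mem_sup_of_normal_left.mp (show g ∈ M ⊔ H by rw [hsup]; trivial)
      have h1 : h * x * h⁻¹ ∈ K := Subgroup.mem_inf.mpr ⟨Subgroup.Normal.conj_mem Subgroup.normal_centralizer x hx.1 h,
        mul_mem (mul_mem hh hx.2) (inv_mem hh)⟩
      rw [show m * h * x * (m * h)⁻¹ = m * (h * x * h⁻¹) * m⁻¹ by group,
        h1.1 m hm, mul_inv_cancel_right]
      exact h1
    have hK0 : K ≠ ⊥ := by
      rw [injective_iff_map_eq_one] at hninj
      push Not at hninj
      obtain ⟨h, h1, h2⟩ := hninj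
      intro hK
      refine h2 (Subtype.ext ((Subgroup.mem_bot).mp (hK ▸ (show (h : G) ∈ K from ⟨fun m hm =>
        (kernelRep_eq_one M hab H hexp h1 m hm).symm, h.2⟩))))
    haveI := hKn
    obtain ⟨M2, u2, hM2n, hM2K, hM20, hu2, hM2p, hM2ab, -, -⟩ := exists_minimal K hK0
    haveI := hM2n
    haveI := Fact.mk hu2
    -- a normal Sylow subgroup appears
    have hpr2 : ∀ t : ℕ, t.Prime → NoPair G q t → HasDeg G t → ¬ HasDeg (G ⧸ M2) t → False := by
      intro t ht hpair hdt hmiss
      haveI := Fact.mk ht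
      obtain ⟨Pt, hPtn, hPtp, hPti, -⟩ := exists_normal_abelian_sylow hmiss
      haveI := hPtn
      set Y := Pt.comap (QuotientGroup.mk' M2) with hY
      haveI : Y.Normal := inferInstance
      set Yh := Y.subgroupOf H with hYh
      haveI : Yh.Normal := Subgroup.normal_subgroupOf
      set M2h := M2.subgroupOf H with hM2h
      haveI : M2h.Normal := Subgroup.normal_subgroupOf
      obtain ⟨v₀, hv₀⟩ :=
        exists_ne (0 : LinDual (⊤ : Subgroup (M →* ℂˣ)) (hom_pow_eq_one hexp))
      obtain ⟨S, hS, hSn, -⟩ := key v₀ hv₀ t ht hpair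
      have hM2Y : M2 ≤ Y := fun m hm => by
        rw [hY, Subgroup.mem_comap, QuotientGroup.mk'_apply, (QuotientGroup.eq_one_iff m).mpr hm]
        exact one_mem _
      have hYidx : Y.index = Pt.index :=
        Subgroup.index_comap_of_surjective _ (QuotientGroup.mk'_surjective M2)
      have hYhidx : ¬ t ∣ Yh.index := fun h =>
        hPti (hYidx ▸ h.trans (Y.relIndex_dvd_index_of_normal H))
      have hSY : (S : Subgroup H) ≤ Yh := sylow_le_normal Yh hYhidx S
      have hrelY : ∃ k, M2h.relIndex Yh = t ^ k := by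
        obtain ⟨k, hk⟩ := IsPGroup.iff_card.mp hPtp
        have h1 := Subgroup.relIndex_mul_index hM2Y
        rw [hYidx, Subgroup.index_eq_card M2, ← Pt.card_mul_index, hk] at h1
        have h2 : M2.relIndex Y = t ^ k :=
          Nat.eq_of_mul_eq_mul_right (Nat.pos_of_ne_zero Subgroup.index_ne_zero_of_finite) h1
        have h3 : M2h.relIndex Yh ∣ t ^ k := by
          have e1 : M2h.relIndex Yh = M2.relIndex (Y ⊓ H) := by
            rw [hM2h, Subgroup.subgroupOf, Subgroup.relIndex_comap, hYh,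
              Subgroup.subgroupOf_map_subtype]
          rw [e1, ← h2, ← Subgroup.inf_relIndex_right M2 (Y ⊓ H),
            inf_eq_left.mpr (le_inf hM2Y (hM2K.trans inf_le_right)),
            ← Subgroup.relIndex_mul_relIndex M2 (Y ⊓ H) Y
              (le_inf hM2Y (hM2K.trans inf_le_right)) inf_le_left]
          exact dvd_mul_right _ _
        obtain ⟨i, -, hi⟩ := (Nat.dvd_prime_pow ht).mp h3
        exact ⟨i, hi⟩
      have hYeq : Yh = M2h ⊔ (S : Subgroup H) :=
        eq_sup_sylow M2h Yh (Subgroup.comap_mono hM2Y) hrelY S hSY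
      have hnorm : (S : Subgroup H).Normal := by
        refine mem_sylow_conj_eq S Yh hSY ?_
        rw [hYeq, sup_le_iff]
        refine ⟨fun y hy => ?_, Subgroup.le_normalizer⟩
        rw [Subgroup.mem_normalizer_iff]
        have hfix : ∀ z : H, z ∈ M2h → ρ z v₀ = v₀ := fun z hz =>
          kernelRep_of_centralize M hab H hexp
            (fun m hm => (((hM2K hz).1 : (z : G) ∈ Subgroup.centralizer (M : Set G)) m hm).symm) v₀
        intro s
        refine ⟨fun hs => hSn y (hfix y hy) s hs, fun hs => ?_⟩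
        have := hSn y⁻¹ (hfix _ (inv_mem hy)) _ hs
        simpa [mul_assoc] using this
      exact hno t ht hpair hdt S hnorm
    rcases hIH M2 hM20 with h | h | h
    · exact hpr2 p hp hqp hdp h
    · obtain ⟨Pt, hPtn, hPtp, hPti, -⟩ := exists_normal_abelian_sylow h
      haveI := hPtn
      obtain ⟨hY, hQY⟩ := comap_eq_sup M2 Pt hPtp hPti Q
      set Y := Pt.comap (QuotientGroup.mk' M2) with hYdef
      refine hQnn ?_
      have hQeq : (Q : Subgroup G) = X ⊓ Y := by
        refine le_antisymm (le_inf hQX hQY) fun x hx => ?_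
        have hxH : x ∈ H := (hY.le.trans (sup_le (hM2K.trans inf_le_right) hQH)) hx.2
        obtain ⟨m, hm, y, hy, rfl⟩ := Subgroup.mem_sup_of_normal_left.mp (hX.le hx.1)
        have hmH : m ∈ M ⊓ H := ⟨hm, by simpa using mul_mem hxH (inv_mem (hQH hy))⟩
        rw [hinf, Subgroup.mem_bot] at hmH
        rw [hmH, one_mul]
        exact hy
      rw [hQeq]
      exact Subgroup.normal_inf_normal _ _
    · exact hpr2 r hr hqr hdr h
  have hgood : ∀ l : ℕ, l.Prime → NoPair G q l → Good ρ l := fun l hl hpair v hv => by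
    obtain ⟨S, h1, h2, -⟩ := key v hv l hl hpair
    exact ⟨S, h1, h2⟩
  haveI := finite_hom M hab
  exact linear_false hinj hp hr hpr (hdvd p hdp) (hdvd r hdr) (hgood p hp hqp) (hgood r hr hqr) hHpr

end CfsgLib.ThreePrimes
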