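import Cfsg.Agent.Lib.ThreePrimes.Group
import Cfsg.Agent.Lib.Char.InvariantAbove
import Cfsg.Agent.S0187

/-!
# Characters over a central subgroup
-/

set_option autoImplicit false
set_option linter.style.haveILetI false
set_option linter.unusedSectionVars false

open scoped commutatorElement

namespace CfsgLib.ThreePrimes

open Cfsg CfsgLib.Char
open scoped CfsgLib.Char

variable {G : Type*} [Group G] [Finite G]

/-- An irreducible character over a linear character of a central subgroup. -/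
theorem central_res {Q M : Subgroup G} [Fintype Q] [Fintype M] (hMQ : M ≤ Q)
    (hcen : ∀ m ∈ M, ∀ x ∈ Q, m * x = x * m) (θ : IrrCharacter Q) (μ : M →* ℂˣ)
    (h : classInner (Glauberman.res hMQ (θ : Q → ℂ)) (fun m => (μ m : ℂ)) ≠ 0) :
    ∀ m : M, (θ : Q → ℂ) ⟨m, hMQ m.2⟩ = (θ : Q → ℂ) 1 * (μ m : ℂ) := by
  classical
  set N' := M.subgroupOf Q with hN'
  haveI : N'.Normal := ⟨fun x hx g => by
    rw [hN', Subgroup.mem_subgroupOf] at hx ⊢
    simp only [Subgroup.coe_mul, Subgroup.coe_inv]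
    rwa [← hcen _ hx _ g.2, mul_inv_cancel_right]⟩
  haveI := Fintype.ofFinite N'
  set eN : N' ≃* M := Subgroup.subgroupOfEquivOfLe hMQ with heN
  set μ' : N' → ℂ := fun n => (μ (eN n) : ℂ) with hμ'
  have hμi : IsIrrCharacter N' μ' := isIrrCharacter_comp_mulEquiv eN
    (isIrrCharacter_of_degree_one (isCharacter_monoidHom μ) (by simp) : IsIrrCharacter M
      (fun m => (μ m : ℂ)))
  have hinv : ∀ g : Q, conjBy N' μ' g = μ' := by
    intro g
    funext n
    show (μ (eN ⟨g * n * g⁻¹, _⟩) : ℂ) = (μ (eN n) : ℂ)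
    congr 3
    refine Subtype.ext (Subtype.ext ?_)
    simp only [Subgroup.coe_mul, Subgroup.coe_inv]
    rw [← hcen ((n : Q) : G) n.2 (g : G) g.2, mul_inv_cancel_right]
  have hne : classInner (fun n : N' => (θ : Q → ℂ) n) μ' ≠ 0 := by
    rw [show (fun n : N' => (θ : Q → ℂ) n) =
      fun n : N' => Glauberman.res hMQ (θ : Q → ℂ) (eN n) from rfl, hμ',
      classInner_comp_mulEquiv eN (Glauberman.res hMQ (θ : Q → ℂ)) (fun m => (μ m : ℂ))]
    exact h
  have hres := clifford_invariant N' θ.2 hμi hinv hne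
  have h1 : (θ : Q → ℂ) 1 = classInner (fun n : N' => (θ : Q → ℂ) n) μ' := by
    have h1 := congrFun hres 1
    simpa [hμ'] using h1
  intro m
  have h2 := congrFun hres (eN.symm m)
  simp only [Pi.smul_apply, smul_eq_mul, hμ', MulEquiv.apply_symm_apply] at h2
  rw [h1]
  exact h2

/-- A linear character of a central subgroup lies below some irreducible character. -/
theorem exists_above {Q M : Subgroup G} [Fintype Q] [Fintype M] (hMQ : M ≤ Q)
    (hcen : ∀ m ∈ M, ∀ x ∈ Q, m * x = x * m) (μ : M →* ℂˣ) :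
    ∃ θ : IrrCharacter Q, classInner (Glauberman.res hMQ (θ : Q → ℂ)) (fun m => (μ m : ℂ)) ≠ 0 := by
  classical
  set N' := M.subgroupOf Q with hN'
  haveI : N'.Normal := ⟨fun x hx g => by
    rw [hN', Subgroup.mem_subgroupOf] at hx ⊢
    simp only [Subgroup.coe_mul, Subgroup.coe_inv]
    rwa [← hcen _ hx _ g.2, mul_inv_cancel_right]⟩
  haveI := Fintype.ofFinite N'
  set eN : N' ≃* M := Subgroup.subgroupOfEquivOfLe hMQ with heN
  obtain ⟨θ, hθ⟩ := OddDegreeSum.exists_over N' ⟨fun n => (μ (eN n) : ℂ),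
    isIrrCharacter_comp_mulEquiv eN
      (isIrrCharacter_of_degree_one (isCharacter_monoidHom μ) (by simp) : IsIrrCharacter M
        (fun m => (μ m : ℂ)))⟩
  refine ⟨θ, ?_⟩
  rw [← classInner_comp_mulEquiv eN (Glauberman.res hMQ (θ : Q → ℂ)) (fun m => (μ m : ℂ))]
  exact hθ

/-- A character over `μ` does not vanish where commutators lie in the kernel of `μ`. -/
theorem value_ne_zero {Q M : Subgroup G} [Fintype Q] [Fintype M] (hMQ : M ≤ Q)
    (hcen : ∀ m ∈ M, ∀ x ∈ Q, m * x = x * m) (hder : ∀ a ∈ Q, ∀ b ∈ Q, ⁅a, b⁆ ∈ M)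
    (θ : IrrCharacter Q) (μ : M →* ℂˣ)
    (h : classInner (Glauberman.res hMQ (θ : Q → ℂ)) (fun m => (μ m : ℂ)) ≠ 0) (g : Q)
    (hg : ∀ y : Q, μ ⟨⁅(y : G), (g : G)⁆, hder _ y.2 _ g.2⟩ = 1) : (θ : Q → ℂ) g ≠ 0 := by
  classical
  set Z := Subgroup.zpowers g ⊔ M.subgroupOf Q with hZ
  have hMc : M.subgroupOf Q ≤ Subgroup.center Q := fun m hm =>
    Subgroup.mem_center_iff.mpr fun x => Subtype.ext (hcen _ hm _ x.2).symm
  have hZn : Z.Normal := ⟨fun z hz x => by
    have h1 : x * z * x⁻¹ * z⁻¹ ∈ M.subgroupOf Q := by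
      rw [Subgroup.mem_subgroupOf]
      have := hder _ x.2 _ z.2
      rw [commutatorElement_def] at this
      simpa using this
    have := mul_mem (Subgroup.mem_sup_right (S := Subgroup.zpowers g) h1) hz
    simpa [mul_assoc] using this⟩
  haveI := hZn
  haveI := Fintype.ofFinite Z
  have hZle : Z ≤ Subgroup.zpowers g ⊔ Subgroup.center Q := sup_le_sup_left hMc _
  have hZab : ∀ a b : Z, a * b = b * a := by
    intro a b
    obtain ⟨a1, ha1, a2, ha2, ea⟩ := Subgroup.mem_sup_of_normal_right.mp (hZle a.2)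
    obtain ⟨b1, hb1, b2, hb2, eb⟩ := Subgroup.mem_sup_of_normal_right.mp (hZle b.2)
    obtain ⟨i, rfl⟩ := ha1
    obtain ⟨j, rfl⟩ := hb1
    refine Subtype.ext ?_
    show (a : Q) * b = b * a
    rw [← ea, ← eb]
    have ca := Subgroup.mem_center_iff.mp ha2
    have cb := Subgroup.mem_center_iff.mp hb2
    have c1 : Commute (g ^ i) (g ^ j) := Commute.zpow_zpow_self g i j
    have c2 : Commute (g ^ i) b2 := cb _
    have c3 : Commute a2 (g ^ j) := (ca _).symm
    have c4 : Commute a2 b2 := cb _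
    exact (Commute.mul_left (c1.mul_right c2) (c3.mul_right c4)).eq
  obtain ⟨ν, hν⟩ := exists_constituent Z (isCharacter_of_isIrr θ.2) (irr_degree_ne_zero θ.2)
  have hν1 : (ν : Z → ℂ) 1 = 1 := (Cfsg.Agent.S0187.result.mp hZab) ν
  set f := linearHom (isCharacter_of_isIrr ν.2) hν1 with hf
  have hfν : ∀ z : Z, (f z : ℂ) = (ν : Z → ℂ) z :=
    linearHom_apply (isCharacter_of_isIrr ν.2) hν1
  -- the constituent extends `μ`
  have hd := central_res hMQ hcen θ μ h
  obtain ⟨e, he⟩ : ∃ e, classInner (fun z : Z => (θ : Q → ℂ) z) (ν : Z → ℂ) = e := ⟨_, rfl⟩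
  have hcl := clifford Z θ.2 ν.2 hν
  have hmem : ∀ m : M, (⟨(m : G), hMQ m.2⟩ : Q) ∈ Z := fun m =>
    Subgroup.mem_sup_right (Subgroup.mem_subgroupOf.mpr m.2)
  have hνM : ∀ m : M, (ν : Z → ℂ) ⟨_, hmem m⟩ = (μ m : ℂ) := by
    intro m
    have h1 := congrFun hcl 1
    have h2 := congrFun hcl ⟨_, hmem m⟩
    simp only [Pi.smul_apply, Finset.sum_apply, smul_eq_mul] at h1 h2
    have e1 : ∀ φ ∈ orbit Z (ν : Z → ℂ), φ ⟨_, hmem m⟩ = (ν : Z → ℂ) ⟨_, hmem m⟩ := by
      intro φ hφ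
      obtain ⟨x, rfl⟩ := (mem_orbit Z).mp hφ
      rw [conjBy_apply]
      refine congrArg (ν : Z → ℂ) (Subtype.ext (Subtype.ext ?_))
      show (x : G) * m * (x : G)⁻¹ = m
      rw [← hcen _ m.2 _ x.2, mul_inv_cancel_right]
    have e0 : ∀ φ ∈ orbit Z (ν : Z → ℂ), φ 1 = 1 := by
      intro φ hφ
      obtain ⟨x, rfl⟩ := (mem_orbit Z).mp hφ
      rw [conjBy_apply_one, hν1]
    rw [Finset.sum_congr rfl e0, Finset.sum_const, nsmul_eq_mul, mul_one] at h1
    rw [Finset.sum_congr rfl e1, Finset.sum_const, nsmul_eq_mul, ← mul_assoc, ← h1, hd m,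
      OneMemClass.coe_one] at h2
    exact (mul_left_cancel₀ (irr_degree_ne_zero θ.2) h2).symm
  have hinv : ∀ y : Q, conjBy Z (ν : Z → ℂ) y = ν := by
    intro y
    funext z
    rw [conjBy_apply]
    have hc : ⁅(y : G), ((z : Q) : G)⁆ ∈ M := hder _ y.2 _ (z : Q).2
    have hmul : (⟨y * z * y⁻¹, hZn.conj_mem _ z.2 y⟩ : Z) = ⟨_, hmem ⟨_, hc⟩⟩ * z := by
      refine Subtype.ext (Subtype.ext ?_)
      simp [commutatorElement_def]
    rw [← hfν, ← hfν, hmul, map_mul, Units.val_mul, hfν ⟨_, hmem ⟨_, hc⟩⟩, hνM]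
    suffices μ ⟨_, hc⟩ = 1 by rw [this, Units.val_one, one_mul]
    -- the commutator with `z` is killed
    obtain ⟨z1, hz1, z2, hz2, ez⟩ := Subgroup.mem_sup_of_normal_right.mp (hZle z.2)
    obtain ⟨i, hi⟩ := (isOfFinOrder_of_finite g).mem_powers_iff_mem_zpowers.mpr hz1
    subst hi
    have key : ∀ i : ℕ, ∀ hh : ⁅(y : G), (g : G) ^ i⁆ ∈ M, μ ⟨_, hh⟩ = 1 := by
      intro i
      induction i with
      | zero =>
        intro hh
        rw [show (⟨⁅(y : G), (g : G) ^ 0⁆, hh⟩ : M) = 1 from Subtype.ext (by simp), map_one]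
      | succ i ih =>
        intro hh
        have hi' : ⁅(y : G), (g : G) ^ i⁆ ∈ M := hder _ y.2 _ (pow_mem g.2 i)
        have e2 : (⟨⁅(y : G), (g : G) ^ (i + 1)⁆, hh⟩ : M) =
            ⟨_, hder _ y.2 _ g.2⟩ * ⟨_, hi'⟩ := by
          refine Subtype.ext ?_
          show ⁅(y : G), (g : G) ^ (i + 1)⁆ = ⁅(y : G), (g : G)⁆ * ⁅(y : G), (g : G) ^ i⁆
          have hcc := hcen _ hi' _ g.2
          calc ⁅(y : G), (g : G) ^ (i + 1)⁆
              = ⁅(y : G), (g : G)⁆ * ((g : G) * ⁅(y : G), (g : G) ^ i⁆ * (g : G)⁻¹) := by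
                simp only [commutatorElement_def, pow_succ']; group
            _ = _ := by rw [← hcc, mul_inv_cancel_right]
        rw [e2, map_mul, hg y, ih, one_mul]
    have e3 : ⁅(y : G), ((z : Q) : G)⁆ = ⁅(y : G), (g : G) ^ i⁆ := by
      have hz2' := Subgroup.mem_center_iff.mp hz2 y
      have hz2c : (y : G) * (z2 : G) = (z2 : G) * y := congrArg Subtype.val hz2'
      have hzv : ((z : Q) : G) = (g : G) ^ i * (z2 : G) := by
        rw [← ez]; simp
      rw [hzv, commutatorElement_def, commutatorElement_def]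
      calc (y : G) * ((g : G) ^ i * z2) * (y : G)⁻¹ * ((g : G) ^ i * z2)⁻¹
          = y * (g : G) ^ i * ((z2 : G) * (y : G)⁻¹) * (z2 : G)⁻¹ * ((g : G) ^ i)⁻¹ := by group
        _ = y * (g : G) ^ i * ((y : G)⁻¹ * z2) * (z2 : G)⁻¹ * ((g : G) ^ i)⁻¹ := by
            rw [show (z2 : G) * (y : G)⁻¹ = (y : G)⁻¹ * z2 from
              mul_inv_eq_iff_eq_mul.mpr (by rw [mul_assoc, ← hz2c, inv_mul_cancel_left])]
        _ = _ := by group
    rw [show (⟨_, hc⟩ : M) = ⟨⁅(y : G), (g : G) ^ i⁆, e3 ▸ hc⟩ from Subtype.ext e3]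
    exact key i _
  have hres := clifford_invariant Z θ.2 ν.2 hinv hν
  intro h0
  have h1 := congrFun hres ⟨g, Subgroup.mem_sup_left (Subgroup.mem_zpowers g)⟩
  simp only [Pi.smul_apply, smul_eq_mul] at h1
  rw [show (θ : Q → ℂ) g = 0 from h0] at h1
  rcases mul_eq_zero.mp h1.symm with h2 | h2
  · exact hν h2
  · rw [← hfν] at h2
    exact (Units.ne_zero _) h2

/-- An invariant character of a normal subgroup of coprime index extends. -/
theorem det_extends [Fintype G] (Q : Subgroup G) [Q.Normal] (T : Subgroup G) (hQT : Q ≤ T)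
    (θ : IrrCharacter Q) (hT : ∀ t ∈ T, conjBy Q (θ : Q → ℂ) t = θ)
    (hcop : (Q.relIndex T).Coprime (Nat.card Q)) :
    ∃ χ : T → ℂ, IsIrrCharacter T χ ∧
      ∀ (n : Q) (hn : (n : G) ∈ T), χ ⟨n, hn⟩ = (θ : Q → ℂ) n := by
  classical
  haveI := Fintype.ofFinite T
  set N' := Q.subgroupOf T with hN'
  haveI : N'.Normal := Subgroup.normal_subgroupOf
  haveI := Fintype.ofFinite N'
  haveI := Fintype.ofFinite Q
  set eN : N' ≃* Q := Subgroup.subgroupOfEquivOfLe hQT
  set θ' : N' → ℂ := fun n => (θ : Q → ℂ) (eN n) with hθ'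
  have hθi : IsIrrCharacter N' θ' := isIrrCharacter_comp_mulEquiv eN θ.2
  obtain ⟨d, -, hd⟩ := exists_nat_degree_irr θ.2
  obtain ⟨d', hd', -, hdvd⟩ := exists_degree_dvd_card θ.2
  have hdd : d = d' := Nat.cast_injective (hd.symm.trans hd')
  obtain ⟨δ, hδ⟩ := exists_det_hom (isCharacter_of_isIrr hθi)
  obtain ⟨χ, hχ, hres⟩ := extends_of_det N' hθi (fun t => by
      funext n
      exact congrFun (hT _ t.2) (eN n)) d (Nat.card N') (by simpa [hθ'] using hd)
    1 (fun n => by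
      rw [hδ]
      show ((1 : ℂˣ) : ℂ) = (δ n : ℂ) ^ Nat.card N'
      rw [← Units.val_pow_eq_pow_val, ← map_pow, pow_card_eq_one', map_one]) (by
    have hc : Nat.card N' = Nat.card Q := Nat.card_congr eN.toEquiv
    rw [hc]
    refine Nat.Coprime.mul_right ?_ hcop
    exact Nat.Coprime.coprime_dvd_right (hdd ▸ hdvd) hcop)
  exact ⟨χ, hχ, fun n hn => hres ⟨⟨n, hn⟩, n.2⟩⟩

/-- Two counts by the same number. -/
theorem same_count {b N j k m n : ℕ} (hb : b.Prime) (hj : 0 < j) (hjm : j < m) (hk : 0 < k)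
    (hkn : k ≤ n) (h1 : N * (b ^ j - 1) = b ^ m - 1) (h2 : N * (b ^ k - 1) = b ^ n - 1) :
    m = n := by
  have hb1 := hb.one_lt
  have hpos : ∀ i, 1 ≤ b ^ i := fun i => Nat.one_le_pow _ _ hb.pos
  have hstep : ∀ i l, 0 < i → i < l → N * (b ^ i - 1) = b ^ l - 1 →
      b ^ i ∣ N - 1 ∧ ¬ b ^ (i + 1) ∣ N - 1 := by
    intro i l hi hil h
    have he : (N - 1) * (b ^ i - 1) = b ^ i * (b ^ (l - i) - 1) := by
      rw [Nat.sub_mul, one_mul, h, Nat.mul_sub, ← pow_add, show i + (l - i) = l by omega, mul_one]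
      have := hpos i
      omega
    have hcop : (b ^ i).Coprime (b ^ i - 1) := by
      refine (hb.coprime_iff_not_dvd.mpr fun hd => ?_).pow_left i
      have h1 : b ∣ b ^ i := dvd_pow_self b hi.ne'
      have := Nat.dvd_sub h1 hd
      rw [show b ^ i - (b ^ i - 1) = 1 from Nat.sub_sub_self (hpos i)] at this
      exact hb.not_dvd_one this
    refine ⟨hcop.dvd_of_dvd_mul_right (he ▸ dvd_mul_right _ _), fun hd => ?_⟩
    have h3 : b ^ i * b ∣ b ^ i * (b ^ (l - i) - 1) := by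
      rw [← pow_succ, ← he]; exact hd.mul_right _
    have h4 := Nat.dvd_of_mul_dvd_mul_left (pow_pos hb.pos i) h3
    have h5 : b ∣ b ^ (l - i) := dvd_pow_self b (by omega)
    have := Nat.dvd_sub h5 h4
    rw [show b ^ (l - i) - (b ^ (l - i) - 1) = 1 from Nat.sub_sub_self (hpos _)] at this
    exact hb.not_dvd_one this
  rcases hkn.eq_or_lt with rfl | hkn'
  · exfalso
    have hkp : 0 < b ^ k - 1 := Nat.sub_pos_of_lt (Nat.one_lt_pow hk.ne' hb1)
    have hN : N = 1 := Nat.eq_of_mul_eq_mul_right hkp (by rw [h2, one_mul])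
    rw [hN, one_mul] at h1
    have := hpos j
    have := hpos m
    exact hjm.ne (Nat.pow_right_injective hb.two_le (show b ^ j = b ^ m by omega))
  · obtain ⟨a1, a2⟩ := hstep j m hj hjm h1
    obtain ⟨b1, b2⟩ := hstep k n hk hkn' h2
    have hjk : j = k := by
      rcases Nat.lt_trichotomy j k with h | h | h
      · exact absurd ((pow_dvd_pow b h).trans b1) a2
      · exact h
      · exact absurd ((pow_dvd_pow b h).trans a1) b2
    subst hjk
    have := hpos m
    have := hpos n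
    exact Nat.pow_right_injective hb.two_le (show b ^ m = b ^ n by omega)

end CfsgLib.ThreePrimes
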