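import Cfsg.Agent.Lib.ThreePrimes.Tools
import Cfsg.Agent.Lib.ThreePrimes.Central
import Cfsg.Agent.Lib.ThreePrimes.CaseA

/-!
# The minimal normal subgroup is a subgroup for the missing prime
-/

set_option autoImplicit false
set_option linter.style.haveILetI false
set_option linter.unusedSectionVars false

open scoped commutatorElement

namespace CfsgLib.ThreePrimes

open Cfsg CfsgLib.Char
open scoped CfsgLib.Char

variable {G : Type*} [Group G] [Finite G]

/-- The data shared by the steps: a normal Sylow subgroup `Q` with central derived subgroup `M`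
and a complement `H`. -/
structure Setup (q : ℕ) (M Q H : Subgroup G) : Prop where
  isp : IsPGroup q Q
  nidx : ¬ q ∣ Q.index
  le : M ≤ Q
  der : ⁅Q, Q⁆ = M
  cen : ∀ m ∈ M, ∀ x ∈ Q, m * x = x * m
  sup : Q ⊔ H = ⊤
  inf : Q ⊓ H = ⊥
  ne : M ≠ ⊥

variable {q : ℕ} {M Q H : Subgroup G}

theorem Setup.comm (hS : Setup q M Q H) : ∀ a ∈ M, ∀ b ∈ M, a * b = b * a :=
  fun a ha b hb => hS.cen a ha b (hS.le hb)

theorem Setup.mem_der (hS : Setup q M Q H) : ∀ a ∈ Q, ∀ b ∈ Q, ⁅a, b⁆ ∈ M := fun a ha b hb =>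
  hS.der ▸ Subgroup.commutator_mem_commutator ha hb

theorem Setup.hom_M (hS : Setup q M Q H) (μ : Q →* ℂˣ) (m : Q) (hm : (m : G) ∈ M) : μ m = 1 := by
  have hle : ⁅Q, Q⁆ ≤ μ.ker.map Q.subtype := Subgroup.commutator_le.mpr fun a ha b hb =>
    ⟨⁅(⟨a, ha⟩ : Q), ⟨b, hb⟩⁆, by
      show μ _ = 1
      rw [map_commutatorElement]
      exact commutatorElement_eq_one_iff_mul_comm.mpr (mul_comm _ _), rfl⟩
  obtain ⟨y, hy, he⟩ := hle (hS.der.symm ▸ hm)
  rw [show m = y from (Subtype.ext he).symm]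
  exact hy

theorem Setup.eq_of_forall_hom (hS : Setup q M Q H) (x : Q) (h : ∀ μ : Q →* ℂˣ, μ x = 1) :
    (x : G) ∈ M := by
  have h1 : x ∈ _root_.commutator Q := by
    rw [← Abelianization.ker_of, MonoidHom.mem_ker]
    by_contra hne
    obtain ⟨φ, hφ⟩ := CommGroup.exists_apply_ne_one_of_hasEnoughRootsOfUnity (Abelianization Q) ℂ hne
    exact hφ (h (φ.comp Abelianization.of))
  have h2 := Subgroup.mem_map_of_mem Q.subtype h1
  rwa [Subgroup.map_subtype_commutator, hS.der] at h2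

theorem Setup.coprime (hS : Setup q M Q H) [Fact q.Prime] : (Nat.card Q).Coprime Q.index := by
  obtain ⟨k, hk⟩ := IsPGroup.iff_card.mp hS.isp
  rw [hk]
  exact ((Fact.out : q.Prime).coprime_iff_not_dvd.mpr hS.nidx).pow_left k

theorem Setup.index_eq [Q.Normal] (hS : Setup q M Q H) : Q.index = Nat.card H ∧
    ∃ f : G →* H, Function.Surjective f ∧ ∀ g, g * ((f g : H) : G)⁻¹ ∈ Q := by
  let e0 : H →* G ⧸ Q := (QuotientGroup.mk' Q).comp H.subtype
  have he0 : Function.Bijective e0 := by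
    refine ⟨(injective_iff_map_eq_one e0).mpr fun h h1 => ?_, fun x => ?_⟩
    · have : (h : G) ∈ Q ⊓ H := Subgroup.mem_inf.mpr ⟨(QuotientGroup.eq_one_iff _).mp h1, h.2⟩
      rw [hS.inf, Subgroup.mem_bot] at this
      exact Subtype.ext this
    · obtain ⟨g, rfl⟩ := QuotientGroup.mk_surjective x
      obtain ⟨m, hm, h, hh, rfl⟩ :=
        Subgroup.mem_sup_of_normal_left.mp (show g ∈ Q ⊔ H by rw [hS.sup]; trivial)
      refine ⟨⟨h, hh⟩, ?_⟩
      show (h : G ⧸ Q) = ((m * h : G) : G ⧸ Q)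
      rw [QuotientGroup.mk_mul, (QuotientGroup.eq_one_iff m).mpr hm, one_mul]
  let e : H ≃* G ⧸ Q := MulEquiv.ofBijective e0 he0
  refine ⟨(Nat.card_congr e.toEquiv).symm, e.symm.toMonoidHom.comp (QuotientGroup.mk' Q),
    e.symm.surjective.comp (QuotientGroup.mk'_surjective Q), fun g => ?_⟩
  rw [← QuotientGroup.eq_one_iff, QuotientGroup.mk_mul, QuotientGroup.mk_inv, mul_inv_eq_one]
  exact (e.apply_symm_apply _).symm

/-- A normal Sylow subgroup of `H` centralising `Q` gives a normal abelian Sylow subgroup of `G`. -/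
theorem Setup.sylow_false [Q.Normal] [Fact q.Prime] (hS : Setup q M Q H) {l : ℕ} [Fact l.Prime]
    (hlq : l ≠ q) (hdl : HasDeg G l) (S : Sylow l H) (hn : (S : Subgroup H).Normal)
    (hab : ∀ a ∈ (S : Subgroup H), ∀ b ∈ (S : Subgroup H), a * b = b * a)
    (hc : ∀ s ∈ (S : Subgroup H), ∀ x ∈ Q, (s : G) * x = x * s) : False := by
  haveI : ((S : Subgroup H).map H.subtype).Normal := by
    refine ⟨?_⟩
    rintro _ ⟨s, hs, rfl⟩ g
    obtain ⟨x, hx, h, hh, rfl⟩ :=
      Subgroup.mem_sup_of_normal_left.mp (show g ∈ Q ⊔ H by rw [hS.sup]; trivial)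
    refine ⟨⟨h, hh⟩ * s * ⟨h, hh⟩⁻¹, hn.conj_mem s hs _, ?_⟩
    have h1 := hc _ (hn.conj_mem s hs ⟨h, hh⟩) x hx
    simp only [Subgroup.coe_mul, Subgroup.coe_inv] at h1
    show h * (s : G) * h⁻¹ = x * h * (s : G) * (x * h)⁻¹
    calc h * (s : G) * h⁻¹ = (h * (s : G) * h⁻¹ * x) * x⁻¹ := by group
      _ = x * (h * (s : G) * h⁻¹) * x⁻¹ := by rw [h1]
      _ = _ := by group
  refine not_hasDeg ((S : Subgroup H).map H.subtype) ?_ ?_ hdl
  · rintro _ ⟨a, ha, rfl⟩ _ ⟨b, hb, rfl⟩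
    exact congrArg Subtype.val (hab a ha b hb)
  · rw [Subgroup.index_map, H.subtype.ker_eq_bot_iff.mpr H.subtype_injective, sup_bot_eq,
      Subgroup.range_subtype]
    intro h
    rcases (Fact.out : l.Prime).dvd_mul.mp h with h1 | h1
    · exact S.not_dvd_index h1
    · have hHQ : H.index = Nat.card Q := by
        have h2 := H.card_mul_index
        rw [← hS.index_eq.1, ← Q.card_mul_index, mul_comm (Nat.card Q)] at h2
        exact Nat.eq_of_mul_eq_mul_left (Nat.pos_of_ne_zero Subgroup.index_ne_zero_of_finite) h2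
      rw [hHQ] at h1
      obtain ⟨k, hk⟩ := IsPGroup.iff_card.mp hS.isp
      rw [hk] at h1
      exact hlq ((Nat.prime_dvd_prime_iff_eq Fact.out Fact.out).mp
        ((Fact.out : l.Prime).dvd_of_dvd_pow h1))

/-- The stabiliser of a linear character of `M` gives normal abelian Sylow subgroups. -/
theorem Setup.key [M.Normal] [Q.Normal] [Fintype G] [Fact q.Prime] [Group.IsSolvable G]
    (hS : Setup q M Q H) (hexp : ∀ a ∈ M, a ^ q = 1)
    (v : LinDual (⊤ : Subgroup (M →* ℂˣ)) (hom_pow_eq_one hexp)) (hv : v ≠ 0) {l : ℕ}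
    (hl : l.Prime) (hpair : NoPair G q l) :
    ∃ S : Sylow l H, (∀ g ∈ (S : Subgroup H), kernelRep M H q hexp g v = v) ∧
      (∀ g : H, kernelRep M H q hexp g v = v →
        ∀ s ∈ (S : Subgroup H), g * s * g⁻¹ ∈ (S : Subgroup H)) ∧
      ∀ a ∈ (S : Subgroup H), ∀ b ∈ (S : Subgroup H), a * b = b * a := by
  classical
  haveI := Fact.mk hl
  set ρ := kernelRep M H q hexp with hρ
  haveI : Group.IsSolvable H := Group.isSolvable_of_isSolvable_injective H.subtype_injective
  let Hs : Subgroup H :=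
    { carrier := {h | ρ h v = v}
      one_mem' := by show ρ 1 v = v; rw [map_one]; rfl
      mul_mem' := fun {a b} ha hb => by
        show ρ (a * b) v = v
        rw [map_mul, LinearEquiv.mul_apply, show ρ b v = v from hb, show ρ a v = v from ha]
      inv_mem' := fun {a} ha => by
        show ρ a⁻¹ v = v
        conv_lhs => rw [← show ρ a v = v from ha]
        rw [← LinearEquiv.mul_apply, ← map_mul, inv_mul_cancel, map_one]; rfl }
  haveI := Fintype.ofFinite Q
  haveI := Fintype.ofFinite M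
  -- an invariant character above
  let θm : IrrCharacter M := ⟨fun n => (v.char n : ℂ),
    isIrrCharacter_of_degree_one (isCharacter_monoidHom v.char) (by simp)⟩
  set S := Hs.map H.subtype with hSdef
  have hinv : Glauberman.Inv M S (θm : M → ℂ) := by
    rintro _ ⟨s, hs, rfl⟩ g g' e
    show (v.char g' : ℂ) = v.char g
    rw [← (kernelRep_fix M H q hexp s v).mp hs g]
    congr 2
    exact Subtype.ext (e.trans (conjAct_coe M H s g).symm)
  have hcop : (M.relIndex Q).Coprime (Nat.card S) := by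
    refine Nat.Coprime.coprime_dvd_left (Subgroup.relIndex_dvd_card M Q) ?_
    refine hS.coprime.coprime_dvd_right ?_
    rw [hS.index_eq.1, hSdef, Subgroup.card_map_of_injective H.subtype_injective]
    exact Subgroup.card_subgroup_dvd_card Hs
  obtain ⟨θ, hθ, hθinv⟩ := InvariantAbove.exists_invariant_abelian (N := M) (M := Q) (S := S) hS.le
    (fun x _ => by rw [Subgroup.normalizer_eq_top (H := M)]; trivial)
    (fun a ha b hb => by
      have := hS.mem_der a ha b hb
      rwa [commutatorElement_def] at this)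
    (fun x _ => by rw [Subgroup.normalizer_eq_top (H := Q)]; trivial)
    (fun x _ => by rw [Subgroup.normalizer_eq_top (H := M)]; trivial)
    hcop hinv
  have hres := central_res hS.le hS.cen θ v.char hθ
  obtain ⟨d, hd0, hd⟩ := exists_nat_degree_irr θ.2
  -- the degree is divisible by `q`
  have hqd : q ∣ d := by
    obtain ⟨d', hd', -, hdvd⟩ := exists_degree_dvd_card θ.2
    obtain rfl : d = d' := Nat.cast_injective (hd.symm.trans hd')
    obtain ⟨k, hk⟩ := IsPGroup.iff_card.mp hS.isp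
    rw [hk] at hdvd
    obtain ⟨i, -, hi⟩ := (Nat.dvd_prime_pow (Fact.out : q.Prime)).mp hdvd
    rcases i with _ | i
    · exfalso
      apply hv
      rw [← LinDual.char_eq_one_iff]
      have h1 : (θ : Q → ℂ) 1 = 1 := by rw [hd, hi, pow_zero, Nat.cast_one]
      refine MonoidHom.ext fun m => Units.ext ?_
      have h2 := hres m
      rw [h1, one_mul, ← linearHom_apply (isCharacter_of_isIrr θ.2) h1,
        hS.hom_M _ ⟨(m : G), hS.le m.2⟩ m.2] at h2
      exact h2.symm
    · exact hi ▸ dvd_pow_self q (Nat.succ_ne_zero i)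
  have hHs : ∀ h : H, h ∈ Hs ↔ conjBy Q (θ : Q → ℂ) (h : G) = θ := by
    intro h
    constructor
    · intro hh
      funext n
      exact hθinv _ ⟨h, hh, rfl⟩ n _ rfl
    · intro hh
      show ρ h v = v
      rw [hρ, kernelRep_fix]
      intro m
      refine Units.ext (mul_left_cancel₀ (irr_degree_ne_zero θ.2) ?_)
      rw [← hres, ← hres]
      have h1 := congrFun hh ⟨(m : G), hS.le m.2⟩
      refine Eq.trans ?_ h1
      rw [conjBy_apply]
      exact congrArg (θ : Q → ℂ) (Subtype.ext (conjAct_coe M H h m))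
  have hext : ∃ χ : inertia Q (θ : Q → ℂ) → ℂ, IsIrrCharacter _ χ ∧
      ∀ (n : Q) (hn : (n : G) ∈ inertia Q (θ : Q → ℂ)), χ ⟨n, hn⟩ = (θ : Q → ℂ) n :=
    det_extends Q _ (le_inertia Q (isClassFunction_of_isCharacter (isCharacter_of_isIrr θ.2))) θ
      (fun t ht => (mem_inertia Q).mp ht)
      (hS.coprime.symm.coprime_dvd_left (Subgroup.relIndex_dvd_index_of_normal Q _))
  have hdeg : ∀ ψ : IrrCharacter Hs, ∃ χ : IrrCharacter G,
      charDegree (χ : G → ℂ) = Hs.index * d * charDegree (ψ : Hs → ℂ) := by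
    intro ψ
    obtain ⟨χ, hχ⟩ := semidirect_degree Q H hS.sup hS.inf θ Hs hHs hext ψ
    exact ⟨χ, by rw [hχ, Extraspecial.charDegree_eq hd]⟩
  have hl' : ¬ l ∣ Hs.index ∧ ¬ HasDeg Hs l := by
    refine ⟨fun hld => ?_, fun ⟨ψ, hld⟩ => ?_⟩
    · obtain ⟨χ, hχ⟩ := hdeg ⟨fun _ => 1, isIrrCharacter_one⟩
      exact hpair χ (hχ ▸ (hqd.mul_left _).mul_right _) (hχ ▸ (hld.mul_right _).mul_right _)
    · obtain ⟨χ, hχ⟩ := hdeg ψ
      exact hpair χ (hχ ▸ (hqd.mul_left _).mul_right _) (hχ ▸ hld.mul_left _)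
  obtain ⟨T, hT, hTn, hTab⟩ := exists_sylow_stab Hs hl'.1 hl'.2
  exact ⟨T, fun g hg => hT hg, fun g hg => hTn g hg, hTab⟩

/-- A character above a nontrivial character of `M` is fixed by a normal `p`-subgroup of `H`. -/
theorem Setup.fix_nonlinear [M.Normal] [Q.Normal] [Fintype G] [Fact q.Prime] [Fintype Q] [Fintype M]
    (hS : Setup q M Q H) {p : ℕ} [Fact p.Prime] (hpair : NoPair G q p) (P : Subgroup H) [P.Normal]
    (hP : IsPGroup p P) (θ : IrrCharacter Q) (μ : M →* ℂˣ) (hμ : μ ≠ 1)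
    (hθ : classInner (Glauberman.res hS.le (θ : Q → ℂ)) (fun m => (μ m : ℂ)) ≠ 0) :
    ∀ x ∈ P, conjBy Q (θ : Q → ℂ) (x : G) = θ := by
  classical
  have hres := central_res hS.le hS.cen θ μ hθ
  obtain ⟨d, hd, -, hdvd⟩ := exists_degree_dvd_card θ.2
  have hqd : q ∣ d := by
    obtain ⟨k, hk⟩ := IsPGroup.iff_card.mp hS.isp
    rw [hk] at hdvd
    obtain ⟨i, -, hi⟩ := (Nat.dvd_prime_pow (Fact.out : q.Prime)).mp hdvd
    rcases i with _ | i
    · exfalso
      apply hμ
      have h1 : (θ : Q → ℂ) 1 = 1 := by rw [hd, hi, pow_zero, Nat.cast_one]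
      refine MonoidHom.ext fun m => Units.ext ?_
      have h2 := hres m
      rw [h1, one_mul, ← linearHom_apply (isCharacter_of_isIrr θ.2) h1,
        hS.hom_M _ ⟨(m : G), hS.le m.2⟩ m.2] at h2
      exact h2.symm
    · exact hi ▸ dvd_pow_self q (Nat.succ_ne_zero i)
  let Hs : Subgroup H := (inertia Q (θ : Q → ℂ)).subgroupOf H
  have hHs : ∀ h : H, h ∈ Hs ↔ conjBy Q (θ : Q → ℂ) (h : G) = θ := fun h => mem_inertia Q
  obtain ⟨χ, hχ⟩ := exists_degree_orbit Q θ d hd
  rw [inertia_index Q H hS.sup hS.inf _ Hs hHs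
    (isClassFunction_of_isCharacter (isCharacter_of_isIrr θ.2))] at hχ
  have hpi : ¬ p ∣ Hs.index := fun h =>
    hpair χ ((hqd.mul_left _).trans hχ) ((h.mul_right _).trans hχ)
  exact fun x hx => (hHs x).mp (le_of_not_dvd_index P Hs hP hpi hx)

/-- A linear character of `Q` gives a degree. -/
theorem Setup.linear_degree [Q.Normal] [Fintype G] (hS : Setup q M Q H) (μ : Q →* ℂˣ)
    (Hs : Subgroup H) (hHs : ∀ h : H, h ∈ Hs ↔ ∀ x : Q, μ (conjAct Q H h x) = μ x)
    (ψ : IrrCharacter Hs) :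
    ∃ χ : IrrCharacter G, charDegree (χ : G → ℂ) = Hs.index * charDegree (ψ : Hs → ℂ) := by
  let θ : IrrCharacter Q := ⟨fun n => (μ n : ℂ),
    isIrrCharacter_of_degree_one (isCharacter_monoidHom μ) (by simp)⟩
  have hHs' : ∀ h : H, h ∈ Hs ↔ conjBy Q (θ : Q → ℂ) (h : G) = θ := fun h =>
    (hHs h).trans (conjBy_eq_iff Q H μ h).symm
  obtain ⟨χ, hχ⟩ := semidirect_degree Q H hS.sup hS.inf θ Hs hHs'
    (linear_extends Q H hS.sup hS.inf μ Hs hHs') ψ
  refine ⟨χ, ?_⟩
  rw [hχ, Extraspecial.charDegree_eq (d := 1) (χ := (θ : Q → ℂ)) (by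
    show (μ 1 : ℂ) = _; simp), mul_one]

/-- The stabiliser in `H` of a linear character of `Q`. -/
noncomputable def linStab [Q.Normal] (μ : Q →* ℂˣ) (H : Subgroup G) : Subgroup H where
  carrier := {h | ∀ x : Q, μ (conjAct Q H h x) = μ x}
  one_mem' := fun x => by rw [map_one]; rfl
  mul_mem' := fun {a b} ha hb x => by
    rw [map_mul, MulAut.mul_apply]; exact (ha _).trans (hb x)
  inv_mem' := fun {a} ha x => by
    rw [← ha ((conjAct Q H a⁻¹) x), ← MulAut.mul_apply, ← map_mul, mul_inv_cancel, map_one]; rfl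

/-- Two normal Sylow subgroups centralising `M` are impossible. -/
theorem Setup.both_false [M.Normal] [Q.Normal] [Fintype G] [Fact q.Prime] (hS : Setup q M Q H)
    {p r : ℕ} [Fact p.Prime] [Fact r.Prime] (hpq : p ≠ q) (hrq : r ≠ q)
    (hdp : HasDeg G p) (hdr : HasDeg G r) (hpr : NoPair G p r) (P : Sylow p H) (R : Sylow r H)
    (hPn : (P : Subgroup H).Normal) (hRn : (R : Subgroup H).Normal)
    (hPab : ∀ a ∈ (P : Subgroup H), ∀ b ∈ (P : Subgroup H), a * b = b * a)
    (hRab : ∀ a ∈ (R : Subgroup H), ∀ b ∈ (R : Subgroup H), a * b = b * a)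
    (hPM : ∀ s ∈ (P : Subgroup H), ∀ m ∈ M, (s : G) * m = m * s)
    (hRM : ∀ s ∈ (R : Subgroup H), ∀ m ∈ M, (s : G) * m = m * s) : False := by
  classical
  haveI := hPn; haveI := hRn
  have hor : ∀ μ : Q →* ℂˣ, (P : Subgroup H) ≤ linStab μ H ∨ (R : Subgroup H) ≤ linStab μ H := by
    intro μ
    by_contra hcon
    push Not at hcon
    obtain ⟨χ, hχ⟩ := hS.linear_degree μ (linStab μ H) (fun h => Iff.rfl) ⟨fun _ => 1, isIrrCharacter_one⟩
    refine hpr χ ?_ ?_ <;> rw [hχ] <;> refine Dvd.dvd.mul_right ?_ _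
    · by_contra h; exact hcon.1 (le_of_not_dvd_index _ _ P.2 h)
    · by_contra h; exact hcon.2 (le_of_not_dvd_index _ _ R.2 h)
  have hall : (∀ μ : Q →* ℂˣ, (P : Subgroup H) ≤ linStab μ H) ∨
      ∀ μ : Q →* ℂˣ, (R : Subgroup H) ≤ linStab μ H := by
    by_contra hcon
    push Not at hcon
    obtain ⟨⟨a, ha⟩, b, hb⟩ := hcon
    have ha' := (hor a).resolve_left ha
    have hb' := (hor b).resolve_right hb
    rcases hor (a * b) with h | h
    · refine ha fun s hs x => ?_
      have h1 := h hs x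
      rw [MonoidHom.mul_apply, MonoidHom.mul_apply, hb' hs x] at h1
      exact mul_right_cancel h1
    · refine hb fun s hs x => ?_
      have h1 := h hs x
      rw [MonoidHom.mul_apply, MonoidHom.mul_apply, ha' hs x] at h1
      exact mul_left_cancel h1
  have main : ∀ l : ℕ, ∀ [Fact l.Prime], l ≠ q → HasDeg G l → ∀ S : Sylow l H, (S : Subgroup H).Normal →
      (∀ a ∈ (S : Subgroup H), ∀ b ∈ (S : Subgroup H), a * b = b * a) →
      (∀ s ∈ (S : Subgroup H), ∀ m ∈ M, (s : G) * m = m * s) →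
      (∀ μ : Q →* ℂˣ, (S : Subgroup H) ≤ linStab μ H) → False := by
    intro l _ hlq hdl S hSn hSab hSM hfix
    refine hS.sylow_false hlq hdl S hSn hSab ?_
    set S' := (S : Subgroup H).map H.subtype with hS'
    have hnorm : S' ≤ Subgroup.normalizer (Q : Set G) := by
      rw [Subgroup.normalizer_eq_top (H := Q)]; exact le_top
    have hcop : (Nat.card S').Coprime (Nat.card Q) := by
      refine (IsPGroup.coprime_card_of_ne l q hlq S' Q (S.2.map _) hS.isp)
    have h1 : ⁅Q, S'⁆ ≤ M := by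
      refine Subgroup.commutator_le.mpr fun x hx y hy => ?_
      obtain ⟨s, hs, rfl⟩ := hy
      have hmem : ⁅x, (s : G)⁆ ∈ Q := by
        rw [commutatorElement_def, show x * s * x⁻¹ * (s : G)⁻¹ = x * (s * x⁻¹ * (s : G)⁻¹) by group]
        exact mul_mem hx (Subgroup.Normal.conj_mem ‹Q.Normal› _ (inv_mem hx) _)
      refine hS.eq_of_forall_hom ⟨_, hmem⟩ fun μ => ?_
      have h2 := hfix μ hs ⟨x⁻¹, inv_mem hx⟩
      rw [show (⟨_, hmem⟩ : Q) = ⟨x, hx⟩ * conjAct Q H s ⟨x⁻¹, inv_mem hx⟩ from Subtype.ext (by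
        rw [Subgroup.coe_mul, conjAct_coe]
        show ⁅x, (s : G)⁆ = x * ((s : G) * x⁻¹ * (s : G)⁻¹)
        rw [commutatorElement_def]
        group), map_mul, h2, ← map_mul]
      rw [show (⟨x, hx⟩ : Q) * ⟨x⁻¹, inv_mem hx⟩ = 1 from Subtype.ext (mul_inv_cancel x), map_one]
    have h2 : ⁅⁅Q, S'⁆, S'⁆ = ⊥ := by
      rw [eq_bot_iff]
      refine (Subgroup.commutator_mono h1 le_rfl).trans (Subgroup.commutator_le.mpr ?_)
      rintro m hm _ ⟨s, hs, rfl⟩
      rw [Subgroup.mem_bot, commutatorElement_eq_one_iff_mul_comm]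
      exact (hSM s hs m hm).symm
    have h3 := Coprime.commutator_eq_bot_of_commutator_commutator hnorm hcop h2
    intro s hs x hx
    have h4 : ⁅x, (s : G)⁆ ∈ ⁅Q, S'⁆ :=
      Subgroup.commutator_mem_commutator hx (Subgroup.mem_map_of_mem H.subtype hs)
    rw [h3, Subgroup.mem_bot, commutatorElement_eq_one_iff_mul_comm] at h4
    exact h4.symm
  rcases hall with h | h
  · exact main p hpq hdp P hPn hPab hPM h
  · exact main r hrq hdr R hRn hRab hRM h

/-- The case of a normal Sylow subgroup centralising `M` while the other moves it. -/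
theorem Setup.one_false [M.Normal] [Q.Normal] [Fintype G] [Fact q.Prime] [Group.IsSolvable G]
    (hS : Setup q M Q H)
    (hexp : ∀ a ∈ M, a ^ q = 1) {p r : ℕ} [Fact p.Prime] [Fact r.Prime] (hpq : p ≠ q)
    (hqp : NoPair G q p) (hpr : NoPair G p r) (hqr : NoPair G q r) (hdp : HasDeg G p)
    (P : Sylow p H) (hPn : (P : Subgroup H).Normal)
    (hPab : ∀ a ∈ (P : Subgroup H), ∀ b ∈ (P : Subgroup H), a * b = b * a)
    (hPM : ∀ s ∈ (P : Subgroup H), ∀ m ∈ M, (s : G) * m = m * s)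
    (hmove : ∀ S : Sylow r H, fixSp (kernelRep M H q hexp) (S : Subgroup H) ≠ ⊤) : False := by
  classical
  haveI := hPn
  haveI := Fintype.ofFinite Q
  haveI := Fintype.ofFinite M
  haveI := finite_hom M hS.comm
  haveI := nontrivial_dual M hS.comm hS.ne hexp
  haveI : Group.IsSolvable H := Group.isSolvable_of_isSolvable_injective H.subtype_injective
  have hq : q.Prime := Fact.out
  set P' := (P : Subgroup H).map H.subtype with hP'
  set C := Q ⊓ Subgroup.centralizer (P' : Set G) with hC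
  have hMC : M ≤ C := fun m hm => Subgroup.mem_inf.mpr ⟨hS.le hm, by
    rintro _ ⟨s, hs, rfl⟩
    exact hPM s hs m hm⟩
  have hnorm : P' ≤ Subgroup.normalizer (Q : Set G) := by
    rw [Subgroup.normalizer_eq_top (H := Q)]; exact le_top
  have hcop : (Nat.card P').Coprime (Nat.card Q) :=
    IsPGroup.coprime_card_of_ne p q hpq P' Q (P.2.map _) hS.isp
  have hsolv : Group.IsSolvable P' ∨ Group.IsSolvable Q :=
    Or.inr (Group.isSolvable_of_isSolvable_injective Q.subtype_injective)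
  have hQW : ⁅Q, P'⁆ ⊔ C = Q := Coprime.commutator_sup_centralizer hnorm hcop hsolv
  have hWQ : ⁅Q, P'⁆ ≤ Q := Coprime.commutator_le_left_of_le_normalizer hnorm
  have hWC : ⁅⁅Q, P'⁆, C⁆ = ⊥ := by
    rw [Subgroup.commutator_comm Q P']
    refine Subgroup.commutator_commutator_eq_bot_of_rotate ?_ ?_
    · rw [eq_bot_iff]
      refine (Subgroup.commutator_mono ((Subgroup.commutator_mono le_rfl inf_le_left).trans
        hS.der.le) le_rfl).trans (Subgroup.commutator_le.mpr ?_)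
      rintro m hm _ ⟨s, hs, rfl⟩
      rw [Subgroup.mem_bot, commutatorElement_eq_one_iff_mul_comm]
      exact (hPM s hs m hm).symm
    · rw [show ⁅C, P'⁆ = ⊥ from Subgroup.commutator_eq_bot_iff_le_centralizer.mpr inf_le_right,
        Subgroup.commutator_bot_left]
  -- commutation with an element outside `C` covers `M`
  have hsurj : ∀ g ∈ Q, g ∉ C → ∀ μ : M →* ℂˣ,
      (∀ y : Q, ∀ hh : ⁅(y : G), g⁆ ∈ M, μ ⟨_, hh⟩ = 1) → μ = 1 := by
    intro g hg hgC μ hμker
    by_contra hμ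
    obtain ⟨θ, hθ⟩ := exists_above hS.le hS.cen μ
    have hne := value_ne_zero hS.le hS.cen hS.mem_der θ μ hθ ⟨g, hg⟩ fun y => hμker y _
    apply hgC
    refine Subgroup.mem_inf.mpr ⟨hg, ?_⟩
    rintro _ ⟨s, hs, rfl⟩
    have hfix := hS.fix_nonlinear hqp (P : Subgroup H) P.2 θ μ hμ hθ s hs
    have hmem : ⁅(s : G), g⁆ ∈ Q := by
      rw [commutatorElement_def]
      exact mul_mem (Subgroup.Normal.conj_mem ‹Q.Normal› _ hg _) (inv_mem hg)
    have hM' : ⁅(s : G), g⁆ ∈ M := by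
      refine hS.eq_of_forall_hom ⟨_, hmem⟩ fun ν => ?_
      let θ' : IrrCharacter Q := ⟨fun x => (ν x : ℂ) * (θ : Q → ℂ) x,
        isIrrCharacter_linear_mul θ.2 ν⟩
      have hθ' : classInner (Glauberman.res hS.le (θ' : Q → ℂ)) (fun m => (μ m : ℂ)) ≠ 0 := by
        have e : Glauberman.res hS.le (θ' : Q → ℂ) = Glauberman.res hS.le (θ : Q → ℂ) := by
          funext m
          show (ν _ : ℂ) * _ = _
          rw [hS.hom_M ν ⟨(m : G), hS.le m.2⟩ m.2, Units.val_one, one_mul]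
          rfl
        rwa [e]
      have hfix' := congrFun (hS.fix_nonlinear hqp (P : Subgroup H) P.2 θ' μ hμ hθ' s hs) ⟨g, hg⟩
      have hfix0 := congrFun hfix ⟨g, hg⟩
      rw [conjBy_apply] at hfix' hfix0
      simp only [θ'] at hfix'
      rw [hfix0] at hfix'
      have h1 := Units.ext (mul_right_cancel₀ hne hfix')
      have h2 : (⟨_, hmem⟩ : Q) = ⟨(s : G) * g * (s : G)⁻¹, Subgroup.Normal.conj_mem ‹Q.Normal› g hg _⟩
          * (⟨g, hg⟩ : Q)⁻¹ := Subtype.ext (by simp [commutatorElement_def])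
      rw [h2, map_mul, map_inv, h1, mul_inv_cancel]
    -- coprime orders
    set d := ⁅(s : G), g⁆ with hd
    have hds : (s : G) * d = d * s := hPM s hs d hM'
    have hk : (s : G) * g * (s : G)⁻¹ = d * g := by rw [hd, commutatorElement_def]; group
    have h1 := Coprime.pow_conj_eq hk hds (orderOf (s : G))
    rw [pow_orderOf_eq_one, one_mul, inv_one, mul_one] at h1
    have h2 : orderOf d ∣ orderOf (s : G) := orderOf_dvd_of_pow_eq_one (right_eq_mul.mp h1)
    have h3 := Subgroup.orderOf_dvd_natCard Q (hS.le hM')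
    have h4 := h2.trans (Subgroup.orderOf_dvd_natCard P' (Subgroup.mem_map_of_mem H.subtype hs))
    have h5 : d = 1 := orderOf_eq_one_iff.mp (Nat.eq_one_of_dvd_coprimes hcop h4 h3)
    rw [hd, commutatorElement_eq_one_iff_mul_comm] at h5
    exact h5
  -- `C` is normal in `Q` and `Q/C` has exponent `q`
  have hCn : ∀ x ∈ Q, ∀ c ∈ C, x * c * x⁻¹ ∈ C := by
    intro x hx c hc
    have h1 : ⁅x, c⁆ ∈ C := hMC (hS.mem_der x hx c (Subgroup.mem_inf.mp hc).1)
    rw [commutatorElement_def] at h1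
    simpa [mul_assoc] using mul_mem h1 hc
  have hexpC : ∀ g ∈ Q, g ^ q ∈ C := by
    intro g hg
    by_contra hgC
    obtain ⟨v₀, hv₀⟩ := exists_ne (0 : LinDual (⊤ : Subgroup (M →* ℂˣ)) (hom_pow_eq_one hexp))
    refine hv₀ (LinDual.char_eq_one_iff.mp (hsurj _ (pow_mem hg q) hgC v₀.char fun y hh => ?_))
    have hpow : ∀ i : ℕ, ⁅(y : G), g ^ i⁆ = ⁅(y : G), g⁆ ^ i := by
      intro i
      induction i with
      | zero => simp
      | succ i ih =>
        have hcc := hS.cen _ (hS.mem_der y y.2 _ (pow_mem hg i)) g hg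
        calc ⁅(y : G), g ^ (i + 1)⁆ = ⁅(y : G), g⁆ * (g * ⁅(y : G), g ^ i⁆ * g⁻¹) := by
              simp only [commutatorElement_def, pow_succ']; group
          _ = _ := by rw [← hcc, mul_inv_cancel_right, ih, pow_succ']
    rw [show (⟨_, hh⟩ : M) = 1 from Subtype.ext (by
      show ⁅(y : G), g ^ q⁆ = 1
      rw [hpow, hexp _ (hS.mem_der y y.2 _ hg)]), map_one]
  -- the group of linear characters trivial on `C`
  let U : Subgroup (Q →* ℂˣ) :=
    { carrier := {μ | ∀ c : Q, (c : G) ∈ C → μ c = 1}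
      one_mem' := fun c _ => rfl
      mul_mem' := fun {a b} ha hb c hc => by rw [MonoidHom.mul_apply, ha c hc, hb c hc, one_mul]
      inv_mem' := fun {a} ha c hc => by rw [MonoidHom.inv_apply, ha c hc, inv_one] }
  have hU : ∀ μ ∈ U, μ ^ q = 1 := fun μ hμ => MonoidHom.ext fun x => by
    rw [MonoidHom.pow_apply, ← map_pow, MonoidHom.one_apply]
    exact hμ _ (by rw [SubmonoidClass.coe_pow]; exact hexpC _ x.2)
  have hCH : ∀ (h : H) (c : G), c ∈ C → (h : G) * c * (h : G)⁻¹ ∈ C := by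
    intro h c hc
    obtain ⟨hcQ, hcc⟩ := Subgroup.mem_inf.mp hc
    refine Subgroup.mem_inf.mpr ⟨Subgroup.Normal.conj_mem ‹Q.Normal› c hcQ _, ?_⟩
    rintro _ ⟨s, hs, rfl⟩
    have h1 := hcc _ (Subgroup.mem_map_of_mem H.subtype (hPn.conj_mem s hs h⁻¹))
    simp only [Subgroup.coe_subtype, Subgroup.coe_mul, Subgroup.coe_inv, inv_inv] at h1
    show (s : G) * ((h : G) * c * (h : G)⁻¹) = (h : G) * c * (h : G)⁻¹ * s
    calc (s : G) * ((h : G) * c * (h : G)⁻¹)
        = (h : G) * ((h : G)⁻¹ * s * h * c) * (h : G)⁻¹ := by group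
      _ = (h : G) * (c * ((h : G)⁻¹ * s * h)) * (h : G)⁻¹ := by rw [h1]
      _ = _ := by group
  have hinvU : ∀ (h : H), ∀ μ ∈ U, μ.comp (conjAct Q H h).toMonoidHom ∈ U := by
    intro h μ hμ c hc
    exact hμ _ (by show ((conjAct Q H h c : Q) : G) ∈ C; rw [conjAct_coe]; exact hCH h _ hc)
  -- orders
  haveI hCQn : (C.subgroupOf Q).Normal := ⟨fun c hc x => hCn _ x.2 _ hc⟩
  have hcommQ : ∀ a b : ↥Q ⧸ C.subgroupOf Q, a * b = b * a := by
    intro a b
    obtain ⟨x, rfl⟩ := QuotientGroup.mk_surjective a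
    obtain ⟨y, rfl⟩ := QuotientGroup.mk_surjective b
    rw [← commutatorElement_eq_one_iff_mul_comm, ← QuotientGroup.mk'_apply,
      ← QuotientGroup.mk'_apply, ← map_commutatorElement, QuotientGroup.mk'_apply,
      QuotientGroup.eq_one_iff, Subgroup.mem_subgroupOf]
    exact hMC (hS.mem_der _ x.2 _ y.2)
  have hUcard : Nat.card U = C.relIndex Q := by
    letI : CommGroup (↥Q ⧸ C.subgroupOf Q) :=
      { (inferInstance : Group (↥Q ⧸ C.subgroupOf Q)) with mul_comm := hcommQ }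
    refine Eq.trans (Nat.card_congr ?_)
      (CommGroup.card_monoidHom_of_hasEnoughRootsOfUnity (↥Q ⧸ C.subgroupOf Q) ℂ)
    exact
      { toFun := fun μ => QuotientGroup.lift (C.subgroupOf Q) μ.1 fun c hc => μ.2 c hc
        invFun := fun φ => ⟨φ.comp (QuotientGroup.mk' _), fun c hc => by
          rw [MonoidHom.comp_apply, QuotientGroup.mk'_apply,
            (QuotientGroup.eq_one_iff c).mpr hc, map_one]⟩
        left_inv := fun μ => Subtype.ext (MonoidHom.ext fun x => rfl)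
        right_inv := fun φ => MonoidHom.ext fun x => by
          obtain ⟨y, rfl⟩ := QuotientGroup.mk_surjective x; rfl }
  -- `P` fixes no nontrivial element
  have hPfix : ∀ μ ∈ U, (P : Subgroup H) ≤ linStab μ H → μ = 1 := by
    intro μ hμ hle
    have hker : Q ≤ μ.ker.map Q.subtype := by
      conv_lhs => rw [← hQW]
      refine sup_le (Subgroup.commutator_le.mpr ?_) fun c hc =>
        ⟨⟨c, (Subgroup.mem_inf.mp hc).1⟩, hμ _ hc, rfl⟩
      rintro x hx _ ⟨s, hs, rfl⟩
      refine ⟨⟨x, hx⟩ * conjAct Q H s ⟨x⁻¹, inv_mem hx⟩, ?_, ?_⟩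
      · show μ _ = 1
        rw [map_mul, hle hs ⟨x⁻¹, inv_mem hx⟩, ← map_mul,
          show (⟨x, hx⟩ : Q) * ⟨x⁻¹, inv_mem hx⟩ = 1 from Subtype.ext (mul_inv_cancel x), map_one]
      · rw [Subgroup.coe_subtype, Subgroup.coe_mul, conjAct_coe, commutatorElement_def]
        show x * ((s : G) * x⁻¹ * (s : G)⁻¹) = x * (s : G) * x⁻¹ * (s : G)⁻¹
        group
    refine MonoidHom.ext fun x => ?_
    obtain ⟨y, hy, he⟩ := hker x.2
    rw [show x = y from (Subtype.ext he).symm]
    exact hy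
  -- `M` is smaller
  have hlt : Nat.card M < C.relIndex Q := by
    obtain ⟨g, hgW, hgC⟩ : ∃ g ∈ ⁅Q, P'⁆, g ∉ C := by
      by_contra hcon
      push Not at hcon
      refine hS.sylow_false hpq hdp P hPn hPab ?_
      have hQC : Q ≤ C := by
        conv_lhs => rw [← hQW]
        exact sup_le hcon le_rfl
      intro s hs x hx
      exact (Subgroup.mem_inf.mp (hQC hx)).2 _ (Subgroup.mem_map_of_mem H.subtype hs)
    have hgQ := hWQ hgW
    let c : Q →* M := MonoidHom.mk' (fun y => ⟨⁅(y : G), g⁆, hS.mem_der _ y.2 _ hgQ⟩) fun a b => by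
      refine Subtype.ext ?_
      show ⁅(a : G) * b, g⁆ = ⁅(a : G), g⁆ * ⁅(b : G), g⁆
      have h1 := hS.cen _ (hS.mem_der _ b.2 _ hgQ) a a.2
      have h2 := hS.comm _ (hS.mem_der _ a.2 _ hgQ) _ (hS.mem_der _ b.2 _ hgQ)
      calc ⁅(a : G) * b, g⁆ = ((a : G) * ⁅(b : G), g⁆ * (a : G)⁻¹) * ⁅(a : G), g⁆ := by
            simp only [commutatorElement_def]; group
        _ = _ := by rw [← h1, mul_inv_cancel_right, h2]
    have hrange : c.range = ⊤ := by
      by_contra hne
      letI : CommGroup M :=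
        { (inferInstance : Group M) with mul_comm := fun a b => Subtype.ext (hS.comm a a.2 b b.2) }
      obtain ⟨x, hx⟩ : ∃ x, x ∉ c.range := by
        by_contra h; push Not at h; exact hne (eq_top_iff.mpr fun y _ => h y)
      obtain ⟨φ, hφ⟩ := CommGroup.exists_apply_ne_one_of_hasEnoughRootsOfUnity (M ⧸ c.range) ℂ
        (a := (x : M ⧸ c.range)) (fun e => hx ((QuotientGroup.eq_one_iff x).mp e))
      have h1 := hsurj g hgQ hgC (φ.comp (QuotientGroup.mk' c.range)) fun y hh => by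
        rw [MonoidHom.comp_apply, QuotientGroup.mk'_apply,
          (QuotientGroup.eq_one_iff (⟨⁅(y : G), g⁆, hh⟩ : M)).mpr (show _ ∈ c.range from ⟨y, rfl⟩), map_one]
      exact hφ (DFunLike.congr_fun h1 x)
    have hCk : C.subgroupOf Q ≤ c.ker := fun y hy => Subtype.ext (by
      show ⁅(y : G), g⁆ = 1
      have h1 : ⁅g, (y : G)⁆ ∈ ⁅⁅Q, P'⁆, C⁆ := Subgroup.commutator_mem_commutator hgW hy
      rw [hWC, Subgroup.mem_bot, commutatorElement_eq_one_iff_mul_comm] at h1
      exact commutatorElement_eq_one_iff_mul_comm.mpr h1.symm)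
    have hgk : (⟨g, hgQ⟩ : Q) ∈ c.ker := Subtype.ext (commutatorElement_self g)
    have hltk : C.subgroupOf Q < c.ker := lt_of_le_of_ne hCk fun e => hgC (by
      have : (⟨g, hgQ⟩ : Q) ∈ C.subgroupOf Q := e ▸ hgk
      exact this)
    have hM : Nat.card M = c.ker.index := by
      rw [Subgroup.index_ker, hrange, Subgroup.card_top]
    rw [hM]
    show c.ker.index < (C.subgroupOf Q).index
    exact Subgroup.index_strictAnti hltk
  -- counting
  set ρ := kernelRep M H q hexp with hρ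
  haveI : Finite U := Nat.finite_of_card_ne_zero (by
    rw [hUcard]; exact Subgroup.index_ne_zero_of_finite)
  set ρU : H →* (LinDual U hU ≃ₗ[ZMod q] LinDual U hU) := dualRep (conjAct Q H) hinvU with hρU
  have hgM : Good ρ r := fun v hv => by
    obtain ⟨S, h1, h2, -⟩ := hS.key hexp v hv (Fact.out : r.Prime) hqr
    exact ⟨S, h1, h2⟩
  have hgU : Good ρU r := by
    intro v hv
    set μ := v.char with hμ
    have hμ1 : μ ≠ 1 := fun h => hv (LinDual.char_eq_one_iff.mp h)
    have hnle : ¬ (P : Subgroup H) ≤ linStab μ H := fun h => hμ1 (hPfix μ v.char_mem h)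
    have hpidx : p ∣ (linStab μ H).index := by
      by_contra h; exact hnle (le_of_not_dvd_index _ _ P.2 h)
    have hd : ∀ ψ : IrrCharacter (linStab μ H), ∃ χ : IrrCharacter G,
        charDegree (χ : G → ℂ) = (linStab μ H).index * charDegree (ψ : linStab μ H → ℂ) :=
      hS.linear_degree μ (linStab μ H) fun h => Iff.rfl
    obtain ⟨S, hS1, hS2, -⟩ := exists_sylow_stab (l := r) (linStab μ H)
      (fun h => by
        obtain ⟨χ, hχ⟩ := hd ⟨fun _ => 1, isIrrCharacter_one⟩
        exact hpr χ (hχ ▸ hpidx.mul_right _) (hχ ▸ h.mul_right _))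
      (fun ⟨ψ, h⟩ => by
        obtain ⟨χ, hχ⟩ := hd ψ
        exact hpr χ (hχ ▸ hpidx.mul_right _) (hχ ▸ h.mul_left _))
    exact ⟨S, fun g hg => (dualRep_fix _ hinvU g v).mpr (hS1 hg),
      fun g hg => hS2 g ((dualRep_fix _ hinvU g v).mp hg)⟩
  obtain ⟨m, hm⟩ : ∃ m, Nat.card M = q ^ m := IsPGroup.iff_card.mp (hS.isp.to_le hS.le)
  obtain ⟨n, hn⟩ : ∃ n, C.relIndex Q = q ^ n := by
    obtain ⟨k, hk⟩ := IsPGroup.iff_card.mp hS.isp
    obtain ⟨i, -, hi⟩ := (Nat.dvd_prime_pow hq).mp (hk ▸ Subgroup.relIndex_dvd_card C Q)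
    exact ⟨i, hi⟩
  have hVM : Nat.card (LinDual (⊤ : Subgroup (M →* ℂˣ)) (hom_pow_eq_one hexp)) = q ^ m := by
    rw [Nat.card_congr LinDual.equiv, Subgroup.card_top, card_hom_eq M hS.comm, hm]
  have hVU : Nat.card (LinDual U hU) = q ^ n := by
    rw [Nat.card_congr LinDual.equiv, hUcard, hn]
  obtain ⟨j, hj0, hjm, -, hj⟩ := good_data hgM hmove hVM
  obtain ⟨S₀⟩ : Nonempty (Sylow r H) := inferInstance
  have hc := good_count hgU S₀
  rw [hVU, card_pow_finrank] at hc
  set k := Module.finrank (ZMod q) (fixSp ρU (S₀ : Subgroup H))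
  have hn0 : 0 < n := by
    by_contra h
    rw [show n = 0 by omega, pow_zero] at hn
    rw [hn] at hlt
    have := Nat.card_pos (α := M)
    omega
  have hk0 : 0 < k := by
    by_contra h
    rw [show k = 0 by omega, pow_zero, Nat.sub_self, mul_zero] at hc
    have := Nat.one_lt_pow hn0.ne' hq.one_lt
    omega
  have hkn : k ≤ n := by
    haveI : Module.Finite (ZMod q) (LinDual U hU) := Module.Finite.of_finite
    have h := Module.natCard_eq_pow_finrank (K := ZMod q) (V := LinDual U hU)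
    rw [hVU, Nat.card_zmod] at h
    rw [Nat.pow_right_injective hq.two_le h]
    exact Submodule.finrank_le _
  have hmn := same_count hq hj0 hjm hk0 hkn hj hc.symm
  rw [hm, hn, hmn] at hlt
  exact lt_irrefl _ hlt

end CfsgLib.ThreePrimes
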