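import Mathlib

/-!
# Linear groups in which every vector stabiliser has a normal Sylow subgroup of the group
-/

set_option autoImplicit false
set_option linter.style.haveILetI false
set_option linter.unusedSectionVars false

namespace CfsgLib.ThreePrimes

variable {q : ℕ} [hq : Fact q.Prime] {V : Type*} [AddCommGroup V] [Module (ZMod q) V] [Finite V]
  {G : Type*} [Group G] [Finite G] (ρ : G →* (V ≃ₗ[ZMod q] V))

/-- The stabiliser of every nonzero vector contains, as a normal subgroup, a Sylow subgroup of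
the whole group. -/
def Good (l : ℕ) : Prop :=
  ∀ v : V, v ≠ 0 → ∃ S : Sylow l G, (∀ g ∈ (S : Subgroup G), ρ g v = v) ∧
    ∀ g : G, ρ g v = v → ∀ s ∈ (S : Subgroup G), g * s * g⁻¹ ∈ (S : Subgroup G)

/-- The fixed space of a subgroup. -/
def fixSp (S : Subgroup G) : Submodule (ZMod q) V where
  carrier := {v | ∀ g ∈ S, ρ g v = v}
  add_mem' {a b} ha hb := fun g hg => by rw [map_add, ha g hg, hb g hg]
  zero_mem' := fun g _ => map_zero _
  smul_mem' c {a} ha := fun g hg => by rw [map_smul, ha g hg]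

theorem mem_fixSp {S : Subgroup G} {v : V} : v ∈ fixSp ρ S ↔ ∀ g ∈ S, ρ g v = v := Iff.rfl

variable {ρ} {l : ℕ}

theorem sylow_unique [Fact l.Prime] (hgood : Good ρ l) {v : V} (hv : v ≠ 0) (S T : Sylow l G)
    (hS : ∀ g ∈ (S : Subgroup G), ρ g v = v) (hT : ∀ g ∈ (T : Subgroup G), ρ g v = v) : S = T := by
  obtain ⟨S₀, hS₀, hn⟩ := hgood v hv
  suffices key : ∀ U : Sylow l G, (∀ g ∈ (U : Subgroup G), ρ g v = v) → U = S₀ by
    rw [key S hS, key T hT]
  intro U hU
  have hnorm : (U : Subgroup G) ≤ Subgroup.normalizer ((S₀ : Subgroup G) : Set G) := by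
    intro u hu
    rw [Subgroup.mem_normalizer_iff]
    refine fun s => ⟨fun hs => hn u (hU u hu) s hs, fun hs => ?_⟩
    have h := hn u⁻¹ (hU u⁻¹ (inv_mem hu)) _ hs
    simpa [mul_assoc] using h
  have hpg : IsPGroup l ((U : Subgroup G) ⊔ (S₀ : Subgroup G) : Subgroup G) :=
    U.2.to_sup_of_normal_right' S₀.2 hnorm
  have h1 := U.3 hpg le_sup_left
  have h2 : (S₀ : Subgroup G) ≤ (U : Subgroup G) := le_sup_right.trans h1.le
  exact Sylow.ext (S₀.3 U.2 h2)

theorem fix_card_eq [Fact l.Prime] (S T : Sylow l G) :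
    Nat.card (fixSp ρ (S : Subgroup G)) = Nat.card (fixSp ρ (T : Subgroup G)) := by
  obtain ⟨g, rfl⟩ := MulAction.exists_smul_eq G S T
  refine Nat.card_congr ((ρ g).toEquiv.subtypeEquiv fun v => ?_)
  show (∀ s ∈ (S : Subgroup G), ρ s v = v) ↔
    ∀ t ∈ ((g • S : Sylow l G) : Subgroup G), ρ t (ρ g v) = ρ g v
  rw [Sylow.coe_subgroup_smul]
  constructor
  · intro h t ht
    rw [Subgroup.mem_pointwise_smul_iff_inv_smul_mem, ← map_inv, MulAut.smul_def,
      MulAut.conj_apply] at ht
    have h' := congrArg (ρ g) (h _ ht)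
    rw [← LinearEquiv.mul_apply, ← map_mul] at h'
    rw [← LinearEquiv.mul_apply, ← map_mul]
    simpa [mul_assoc] using h'
  · intro h s hs
    have h' := h (g * s * g⁻¹) (by
      rw [Subgroup.mem_pointwise_smul_iff_inv_smul_mem, ← map_inv, MulAut.smul_def,
        MulAut.conj_apply]
      simpa [mul_assoc] using hs)
    rw [← LinearEquiv.mul_apply, ← map_mul, inv_mul_cancel_right, map_mul,
      LinearEquiv.mul_apply] at h'
    exact (ρ g).injective h'

/-- Counting nonzero vectors by the Sylow subgroup fixing them. -/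
theorem good_count [Fact l.Prime] (hgood : Good ρ l) (S₀ : Sylow l G) :
    Nat.card V - 1 = Nat.card (Sylow l G) * (Nat.card (fixSp ρ (S₀ : Subgroup G)) - 1) := by
  classical
  haveI : Fintype V := Fintype.ofFinite V
  haveI : Fintype (Sylow l G) := Fintype.ofFinite _
  choose σ hσ using fun v : {v : V // v ≠ 0} => hgood v.1 v.2
  let e : {v : V // v ≠ 0} ≃ Σ S : Sylow l G, {v : fixSp ρ (S : Subgroup G) // v ≠ 0} :=
    { toFun := fun v => ⟨σ v, ⟨v.1, (hσ v).1⟩, fun h => v.2 (congrArg Subtype.val h)⟩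
      invFun := fun x => ⟨x.2.1.1, fun h => x.2.2 (Subtype.ext h)⟩
      left_inv := fun v => rfl
      right_inv := by
        rintro ⟨S, ⟨v, hv⟩, hv0⟩
        have hne : v ≠ 0 := fun h => hv0 (Subtype.ext h)
        obtain rfl : σ ⟨v, hne⟩ = S := sylow_unique hgood hne _ S (hσ ⟨v, hne⟩).1 hv
        rfl }
  have h := Nat.card_congr e
  rw [Nat.card_sigma] at h
  have hsub : ∀ (X : Type _) [Finite X] [Zero X], Nat.card {x : X // x ≠ 0} = Nat.card X - 1 := by
    intro X _ _
    haveI := Fintype.ofFinite X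
    rw [Nat.card_eq_fintype_card, Fintype.card_subtype_compl, Fintype.card_subtype_eq,
      Nat.card_eq_fintype_card]
  rw [hsub] at h
  rw [h, Finset.sum_congr rfl fun S _ => by rw [hsub, fix_card_eq (ρ := ρ) S S₀], Finset.sum_const,
    smul_eq_mul, Finset.card_univ, ← Nat.card_eq_fintype_card]

/-- The numerical consequence. -/
theorem good_data [Fact l.Prime] [Nontrivial V] (hgood : Good ρ l)
    (hmove : ∀ S : Sylow l G, fixSp ρ (S : Subgroup G) ≠ ⊤) {n : ℕ} (hV : Nat.card V = q ^ n) :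
    ∃ k, 0 < k ∧ k < n ∧ (∀ S : Sylow l G, Nat.card (fixSp ρ (S : Subgroup G)) = q ^ k) ∧
      Nat.card (Sylow l G) * (q ^ k - 1) = q ^ n - 1 := by
  obtain ⟨v, hv⟩ := exists_ne (0 : V)
  obtain ⟨S, hS, -⟩ := hgood v hv
  refine ⟨Module.finrank (ZMod q) (fixSp ρ (S : Subgroup G)), ?_, ?_, fun T => ?_, ?_⟩
  · rw [Module.finrank_pos_iff]
    exact ⟨⟨v, hS⟩, 0, fun h => hv (congrArg Subtype.val h)⟩
  · haveI : Module.Finite (ZMod q) V := Module.Finite.of_finite
    have hn : Module.finrank (ZMod q) V = n := by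
      have h := Module.natCard_eq_pow_finrank (K := ZMod q) (V := V)
      rw [hV, Nat.card_zmod] at h
      exact (Nat.pow_right_injective hq.out.two_le h).symm
    rw [← hn]
    exact Submodule.finrank_lt (hmove S)
  · rw [fix_card_eq (ρ := ρ) T S, Module.natCard_eq_pow_finrank (K := ZMod q), Nat.card_zmod]
  · have h := good_count hgood S
    rw [hV, Module.natCard_eq_pow_finrank (K := ZMod q) (V := fixSp ρ (S : Subgroup G)), Nat.card_zmod] at h
    exact h.symm

end CfsgLib.ThreePrimes
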