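import Cfsg.Agent.Lib.ThreePrimes.Count
import Mathlib

/-!
# A group acting on a group of linear characters of prime exponent
-/

set_option autoImplicit false
set_option linter.style.haveILetI false
set_option linter.unusedSectionVars false

namespace CfsgLib.ThreePrimes

variable {u : ℕ} {X : Type*} [Group X]

/-- A group of linear characters of exponent dividing `u`, written additively. -/
def LinDual (U : Subgroup (X →* ℂˣ)) (_h : ∀ μ ∈ U, μ ^ u = 1) : Type _ := Additive U

variable {U : Subgroup (X →* ℂˣ)} {hU : ∀ μ ∈ U, μ ^ u = 1}

noncomputable instance : AddCommGroup (LinDual U hU) :=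
  inferInstanceAs (AddCommGroup (Additive U))

noncomputable instance [Finite U] : Finite (LinDual U hU) := inferInstanceAs (Finite (Additive U))

noncomputable instance : Module (ZMod u) (LinDual U hU) :=
  AddCommGroup.zmodModule fun x => Additive.toMul.injective (Subtype.ext (hU _ (Additive.toMul x).2))

/-- The linear character underlying an element. -/
def LinDual.char (v : LinDual U hU) : X →* ℂˣ := ((Additive.toMul (α := U) v : U) : X →* ℂˣ)

/-- The element given by a linear character. -/
def LinDual.mk (μ : X →* ℂˣ) (hμ : μ ∈ U) : LinDual U hU := Additive.ofMul (⟨μ, hμ⟩ : U)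

theorem LinDual.char_mk {μ : X →* ℂˣ} (hμ : μ ∈ U) :
    (LinDual.mk (hU := hU) μ hμ).char = μ := rfl

theorem LinDual.char_mem (v : LinDual U hU) : v.char ∈ U := (Additive.toMul (α := U) v).2

theorem LinDual.ext {v w : LinDual U hU} (h : v.char = w.char) : v = w :=
  Additive.toMul.injective (Subtype.ext h)

theorem LinDual.char_add (v w : LinDual U hU) : (v + w).char = v.char * w.char := rfl

theorem LinDual.char_eq_one_iff {v : LinDual U hU} : v.char = 1 ↔ v = 0 :=
  ⟨fun h => LinDual.ext h, fun h => by rw [h]; rfl⟩

/-- The bijection with the group of characters. -/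
def LinDual.equiv : LinDual U hU ≃ U := Additive.toMul

variable {H : Type*} [Group H]

/-- The action on linear characters. -/
noncomputable def dualRep [Fact u.Prime] (act : H →* MulAut X)
    (hinv : ∀ (h : H), ∀ μ ∈ U, μ.comp (act h).toMonoidHom ∈ U) :
    H →* (LinDual U hU ≃ₗ[ZMod u] LinDual U hU) where
  toFun h :=
    let e : LinDual U hU ≃+ LinDual U hU :=
      { toFun := fun v => LinDual.mk _ (hinv h⁻¹ _ v.char_mem)
        invFun := fun v => LinDual.mk _ (hinv h _ v.char_mem)
        left_inv := fun v => LinDual.ext (MonoidHom.ext fun x => by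
          simp [LinDual.char_mk, map_inv])
        right_inv := fun v => LinDual.ext (MonoidHom.ext fun x => by
          simp [LinDual.char_mk, map_inv])
        map_add' := fun v w => LinDual.ext (MonoidHom.ext fun x => by
          simp [LinDual.char_mk, LinDual.char_add]) }
    { e.toAddMonoidHom.toZModLinearMap u with
      invFun := e.invFun
      left_inv := e.left_inv
      right_inv := e.right_inv }
  map_one' := LinearEquiv.ext fun v => LinDual.ext (MonoidHom.ext fun x => by
    show v.char ((act (1 : H)⁻¹) x) = v.char x
    simp)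
  map_mul' g h := LinearEquiv.ext fun v => LinDual.ext (MonoidHom.ext fun x => by
    show v.char ((act (g * h)⁻¹) x) = v.char ((act h⁻¹) ((act g⁻¹) x))
    simp [mul_inv_rev])

theorem dualRep_char [Fact u.Prime] (act : H →* MulAut X)
    (hinv : ∀ (h : H), ∀ μ ∈ U, μ.comp (act h).toMonoidHom ∈ U) (h : H) (v : LinDual U hU) (x : X) :
    ((dualRep act hinv h v).char) x = v.char ((act h⁻¹) x) := rfl

theorem dualRep_fix [Fact u.Prime] (act : H →* MulAut X)
    (hinv : ∀ (h : H), ∀ μ ∈ U, μ.comp (act h).toMonoidHom ∈ U) (h : H) (v : LinDual U hU) :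
    dualRep act hinv h v = v ↔ ∀ x : X, v.char (act h x) = v.char x := by
  constructor
  · intro e x
    have h1 := dualRep_char act hinv h v (act h x)
    rw [e] at h1
    rw [h1, map_inv]
    simp
  · intro e
    refine LinDual.ext (MonoidHom.ext fun x => ?_)
    rw [dualRep_char]
    have h1 := e (act h⁻¹ x)
    rw [← h1, map_inv]
    simp

end CfsgLib.ThreePrimes
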