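import Mathlib
import Cfsg.Agent.Lib.TransLinear.Transitive

/-!
# Linear groups whose normal abelian subgroups generate fields
-/

set_option autoImplicit false
set_option linter.style.haveILetI false
set_option linter.unusedSectionVars false
set_option linter.unusedSimpArgs false

open scoped commutatorElement

namespace CfsgLib.ThreePrimes

open CfsgLib.TransLinear

variable {q : ℕ} [hq : Fact q.Prime] {V : Type*} [AddCommGroup V] [Module (ZMod q) V] [Finite V]

/-- Nonzero elements of the algebra of every normal abelian subgroup are injective. -/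
def Dom {G : Type*} [Group G] (ρ : G →* (V ≃ₗ[ZMod q] V)) : Prop :=
  ∀ C : Subgroup G, C.Normal → (∀ x ∈ C, ∀ y ∈ C, x * y = y * x) →
    ∀ ⦃a : Module.End (ZMod q) V⦄, a ∈ algOf ρ C → ∀ ⦃v : V⦄, v ≠ 0 → a v = 0 → a = 0

section Field

variable {G : Type*} [Group G] (ρ : G →* (V ≃ₗ[ZMod q] V))

/-- The data of the field attached to a normal abelian subgroup. -/
theorem exists_field_data [Nontrivial V] [Finite G] (hρ : Function.Injective ρ)
    (hdom : Dom ρ) (C : Subgroup G) [C.Normal]
    (hC : ∀ x ∈ C, ∀ y ∈ C, x * y = y * x) :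
    ∃ d t : ℕ, 0 < d ∧ 0 < t ∧ Nat.card V = q ^ (d * t) ∧ Nat.card (algOf ρ C) = q ^ d ∧
      Nat.card C ∣ q ^ d - 1 ∧
      (∃ f : G →* Multiplicative (ZMod d), f.ker = Subgroup.centralizer (C : Set G)) ∧
      (t = 1 → (∃ (F : Type) (_ : Field F) (_ : Fintype F) (e : V ≃+ F),
          ∀ g : G, ∃ (a : F) (σ : F ≃+* F), ∀ v : V, e (ρ g v) = a * σ (e v)) ∧
        (∀ x ∈ Subgroup.centralizer (C : Set G), ∀ y ∈ Subgroup.centralizer (C : Set G),
          x * y = y * x) ∧
        ∀ W : Submodule (ZMod q) V, (∀ c ∈ C, ∀ w ∈ W, ρ c w ∈ W) → W = ⊥ ∨ W = ⊤) := by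
  classical
  haveI : Finite (Module.End (ZMod q) V) := Finite.of_injective _ DFunLike.coe_injective
  let A := algOf ρ C
  letI iA : CommRing A := { (inferInstance : Ring A) with
    mul_comm := fun a b => Subtype.ext (algOf_comm ρ hC a.2 b.2) }
  haveI : Nontrivial A := ⟨⟨0, 1, fun h => by
    obtain ⟨v, hv⟩ := exists_ne (0 : V)
    exact hv (LinearMap.congr_fun (congrArg Subtype.val h) v).symm⟩⟩
  haveI : NoZeroDivisors A := ⟨fun {a b} h => by
    by_contra hne
    push Not at hne
    obtain ⟨v, hv⟩ : ∃ v, b.1 v ≠ 0 := by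
      by_contra h'
      push Not at h'
      exact hne.2 (Subtype.ext (LinearMap.ext fun v => by rw [h' v]; rfl))
    have hv0 : b.1 v ≠ 0 := hv
    exact hne.1 (Subtype.ext (hdom C ‹_› hC a.2 hv0
      (LinearMap.congr_fun (congrArg Subtype.val h) v)))⟩
  haveI : IsDomain A := NoZeroDivisors.to_isDomain A
  letI : Field A := (Finite.isDomain_to_isField A).toField
  haveI : Fintype A := Fintype.ofFinite A
  set d := Module.finrank (ZMod q) A with hd
  set t := Module.finrank A V with ht
  haveI : Module.Finite A V := Module.Finite.of_finite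
  have hAcard : Nat.card A = q ^ d := by
    rw [Module.natCard_eq_pow_finrank (K := ZMod q) (V := A), Nat.card_zmod]
  have hVcard : Nat.card V = q ^ (d * t) := by
    rw [Module.natCard_eq_pow_finrank (K := A) (V := V), hAcard, ← pow_mul]
  have hd0 : 0 < d := Module.finrank_pos
  have ht0 : 0 < t := Module.finrank_pos
  -- the subgroup `C` inside the units of the field
  have hCdvd : Nat.card C ∣ q ^ d - 1 := by
    let j : C →* A :=
      { toFun := fun c => ⟨endHom ρ c, mem_algOf ρ c.2⟩
        map_one' := Subtype.ext (map_one (endHom ρ))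
        map_mul' := fun x y => Subtype.ext (map_mul (endHom ρ) (x : G) y) }
    have hj : Function.Injective j := fun x y h => Subtype.ext (hρ (LinearEquiv.ext fun v =>
      LinearMap.congr_fun (congrArg Subtype.val h) v))
    have hinj : Function.Injective j.toHomUnits := fun x y h => hj (congrArg Units.val h)
    rw [← hAcard, ← Nat.card_units]
    exact Subgroup.card_dvd_of_injective _ hinj
  -- conjugation gives field automorphisms
  let σ : G → (A ≃ₐ[ZMod q] A) := fun g =>
    { toFun := fun a => ⟨_, conj_mem_algOf ρ g a.2⟩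
      invFun := fun a => ⟨_, conj_mem_algOf ρ g⁻¹ a.2⟩
      left_inv := fun a => Subtype.ext (LinearMap.ext fun v => by
        simp [Module.End.mul_apply, inv_apply_apply])
      right_inv := fun a => Subtype.ext (LinearMap.ext fun v => by
        simp [Module.End.mul_apply, apply_inv_apply])
      map_mul' := fun a b => Subtype.ext (LinearMap.ext fun v => by
        simp [Module.End.mul_apply, inv_apply_apply])
      map_add' := fun a b => Subtype.ext (LinearMap.ext fun v => by
        simp [Module.End.mul_apply, LinearMap.add_apply])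
      commutes' := fun r => Subtype.ext (LinearMap.ext fun v => by
        simp [Module.End.mul_apply, Module.algebraMap_end_apply, apply_inv_apply]) }
  have hσ : ∀ (g : G) (a : A) (v : V), (σ g a).1 (ρ g v) = ρ g (a.1 v) := fun g a v => by
    simp [σ, Module.End.mul_apply, inv_apply_apply]
  let σh : G →* (A ≃ₐ[ZMod q] A) := MonoidHom.mk' σ fun g h => AlgEquiv.ext fun a =>
    Subtype.ext (LinearMap.ext fun v => by simp [σ, Module.End.mul_apply, mul_inv_rev, map_mul])
  have hker : σh.ker = Subgroup.centralizer (C : Set G) := by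
    ext g
    rw [MonoidHom.mem_ker, Subgroup.mem_centralizer_iff]
    constructor
    · intro h c hc
      refine hρ (LinearEquiv.ext fun v => ?_)
      have h1 := hσ g ⟨_, mem_algOf ρ hc⟩ v
      rw [show σ g = 1 from h, AlgEquiv.one_apply] at h1
      simpa [map_mul] using h1
    · intro h
      refine AlgEquiv.ext fun a => Subtype.ext ?_
      have hh : ∀ a ∈ algOf ρ C, endHom ρ g * a = a * endHom ρ g := by
        intro a ha
        induction ha using Algebra.adjoin_induction with
        | mem x hx =>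
          obtain ⟨x, hx, rfl⟩ := hx
          rw [← map_mul, ← h x hx, map_mul]
        | algebraMap r => exact (Algebra.commutes r _).symm
        | add u v _ _ hu hv => rw [mul_add, add_mul, hu, hv]
        | mul u v _ _ hu hv => rw [← mul_assoc, hu, mul_assoc, hv, ← mul_assoc]
      show endHom ρ g * a.1 * endHom ρ g⁻¹ = a.1
      rw [hh _ a.2, mul_assoc, ← map_mul, mul_inv_cancel, map_one, mul_one]
  refine ⟨d, t, hd0, ht0, hVcard, hAcard, hCdvd, ?_, fun ht1 => ⟨?_, ?_, ?_⟩⟩
  · have hcard : Nat.card (A ≃ₐ[ZMod q] A) = d := IsGalois.card_aut_eq_finrank (ZMod q) A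
    haveI : IsCyclic (A ≃ₐ[ZMod q] A) := inferInstance
    let e : (A ≃ₐ[ZMod q] A) ≃* Multiplicative (ZMod d) :=
      mulEquivOfCyclicCardEq (by rw [hcard, Nat.card_congr Multiplicative.toAdd, Nat.card_zmod])
    refine ⟨e.toMonoidHom.comp σh, ?_⟩
    rw [← hker]
    ext g
    simp [MonoidHom.mem_ker]
  · -- one-dimensional: semilinear
    obtain ⟨v₀, hv₀⟩ := exists_ne (0 : V)
    have hbij : Function.Bijective fun a : A => a.1 v₀ := by
      rw [Nat.bijective_iff_injective_and_card]
      refine ⟨fun a b h => ?_, by rw [hAcard, hVcard, ht1, mul_one]⟩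
      have : (a - b : A).1 v₀ = 0 := by
        show a.1 v₀ - b.1 v₀ = 0
        rw [show a.1 v₀ = b.1 v₀ from h, sub_self]
      exact sub_eq_zero.mp (Subtype.ext (hdom C ‹_› hC (a - b).2 hv₀ this))
    let eA : A ≃+ V := { Equiv.ofBijective _ hbij with map_add' := fun _ _ => rfl }
    have hfin : Fintype (GaloisField q d) := Fintype.ofFinite _
    let r : A ≃+* GaloisField q d := FiniteField.ringEquivOfCardEq (K := A) (K' := GaloisField q d) (by
      rw [← Nat.card_eq_fintype_card, ← Nat.card_eq_fintype_card, hAcard,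
        GaloisField.card q d hd0.ne'])
    refine ⟨GaloisField q d, inferInstance, hfin, eA.symm.trans r.toAddEquiv, fun g => ?_⟩
    refine ⟨r (eA.symm (ρ g v₀)), (r.symm.trans (σ g).toRingEquiv).trans r, fun v => ?_⟩
    obtain ⟨a, rfl⟩ := eA.surjective v
    simp only [AddEquiv.trans_apply, AddEquiv.symm_apply_apply, RingEquiv.toAddEquiv_eq_coe,
      RingEquiv.coe_toAddEquiv, RingEquiv.trans_apply, RingEquiv.symm_apply_apply]
    rw [← map_mul]
    congr 1
    rw [AddEquiv.symm_apply_eq]
    show ρ g (a.1 v₀) = (eA.symm (ρ g v₀) * σ g a).1 v₀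
    rw [mul_comm, ← hσ]
    show _ = (σ g a).1 (eA (eA.symm (ρ g v₀)))
    rw [AddEquiv.apply_symm_apply]
  · intro x hx y hy
    obtain ⟨v₀, hv₀⟩ := exists_ne (0 : V)
    have hsurj : ∀ w : V, ∃ a : A, a.1 v₀ = w := by
      have hbij : Function.Bijective fun a : A => a.1 v₀ := by
        rw [Nat.bijective_iff_injective_and_card]
        refine ⟨fun a b h => ?_, by rw [hAcard, hVcard, ht1, mul_one]⟩
        have : (a - b : A).1 v₀ = 0 := by
          show a.1 v₀ - b.1 v₀ = 0
          rw [show a.1 v₀ = b.1 v₀ from h, sub_self]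
        exact sub_eq_zero.mp (Subtype.ext (hdom C ‹_› hC (a - b).2 hv₀ this))
      exact hbij.2
    have hone : ∀ g ∈ Subgroup.centralizer (C : Set G), ∀ a : A, ρ g (a.1 v₀) = a.1 (ρ g v₀) := by
      intro g hg a
      have h1 := hσ g a v₀
      rw [show σ g = 1 from (hker ▸ hg : g ∈ σh.ker), AlgEquiv.one_apply] at h1
      exact h1.symm
    refine hρ (LinearEquiv.ext fun v => ?_)
    obtain ⟨a, rfl⟩ := hsurj v
    obtain ⟨b, hb⟩ := hsurj (ρ x v₀)
    obtain ⟨c, hc⟩ := hsurj (ρ y v₀)
    have hm : ∀ (g : G), g ∈ Subgroup.centralizer (C : Set G) → ∀ (a d : A), d.1 v₀ = ρ g v₀ →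
        ρ g (a.1 v₀) = (a * d).1 v₀ := fun g hg a d hd => by
      rw [hone g hg a, ← hd]; rfl
    simp only [map_mul, LinearEquiv.mul_apply]
    rw [hm y hy a c hc, hm x hx _ b hb, hm x hx a b hb, hm y hy _ c hc, mul_right_comm]
  · intro W hW
    by_cases hW0 : W = ⊥
    · exact Or.inl hW0
    right
    obtain ⟨w, hw, hw0⟩ := (Submodule.ne_bot_iff W).mp hW0
    have hbij : Function.Bijective fun a : A => a.1 w := by
      rw [Nat.bijective_iff_injective_and_card]
      refine ⟨fun a b h => ?_, by rw [hAcard, hVcard, ht1, mul_one]⟩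
      have : (a - b : A).1 w = 0 := by
        show a.1 w - b.1 w = 0
        rw [show a.1 w = b.1 w from h, sub_self]
      exact sub_eq_zero.mp (Subtype.ext (hdom C ‹_› hC (a - b).2 hw0 this))
    have hinv : ∀ a ∈ algOf ρ C, ∀ u ∈ W, a u ∈ W := by
      intro a ha
      induction ha using Algebra.adjoin_induction with
      | mem x hx =>
        obtain ⟨c, hc, rfl⟩ := hx
        exact hW c hc
      | algebraMap r =>
        intro u hu
        rw [Module.algebraMap_end_apply]
        exact W.smul_mem r hu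
      | add x y _ _ hx hy => exact fun u hu => W.add_mem (hx u hu) (hy u hu)
      | mul x y _ _ hx hy => exact fun u hu => hx _ (hy u hu)
    refine eq_top_iff.mpr fun v _ => ?_
    obtain ⟨a, rfl⟩ := hbij.2 v
    exact hinv _ a.2 w hw

end Field

section Linear

variable [Nontrivial V] {G : Type*} [Group G] [Finite G] {ρ : G →* (V ≃ₗ[ZMod q] V)}

theorem algOf_isDomain (hdom : Dom ρ) (C : Subgroup G)
    [C.Normal] (hC : ∀ x ∈ C, ∀ y ∈ C, x * y = y * x) : IsDomain (algOf ρ C) := by
  haveI : Nontrivial (algOf ρ C) := ⟨⟨0, 1, fun h => by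
    obtain ⟨v, hv⟩ := exists_ne (0 : V)
    exact hv (LinearMap.congr_fun (congrArg Subtype.val h) v).symm⟩⟩
  haveI : NoZeroDivisors (algOf ρ C) := ⟨fun {a b} h => by
    by_contra hne
    push Not at hne
    obtain ⟨v, hv⟩ : ∃ v, b.1 v ≠ 0 := by
      by_contra h'
      push Not at h'
      exact hne.2 (Subtype.ext (LinearMap.ext fun v => by rw [h' v]; rfl))
    exact hne.1 (Subtype.ext (hdom C ‹_› hC a.2 hv
      (LinearMap.congr_fun (congrArg Subtype.val h) v)))⟩
  exact NoZeroDivisors.to_isDomain _

/-- Normal abelian subgroups of a faithful linear group are cyclic. -/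
theorem isCyclic_of_normal_comm (hρ : Function.Injective ρ)
    (hdom : Dom ρ) (C : Subgroup G) [C.Normal]
    (hC : ∀ x ∈ C, ∀ y ∈ C, x * y = y * x) : IsCyclic C := by
  letI iA : CommRing (algOf ρ C) := { (inferInstance : Ring (algOf ρ C)) with
    mul_comm := fun a b => Subtype.ext (algOf_comm ρ hC a.2 b.2) }
  haveI : IsDomain (algOf ρ C) := algOf_isDomain hdom C hC
  let j : C →* algOf ρ C :=
    { toFun := fun c => ⟨endHom ρ c, mem_algOf ρ c.2⟩
      map_one' := Subtype.ext (map_one (endHom ρ))
      map_mul' := fun x y => Subtype.ext (map_mul (endHom ρ) (x : G) y) }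
  refine isCyclic_of_subgroup_isDomain j fun x y h => Subtype.ext (hρ (LinearEquiv.ext fun v => ?_))
  exact LinearMap.congr_fun (congrArg Subtype.val h) v

set_option synthInstance.maxHeartbeats 200000 in
set_option maxHeartbeats 1000000 in
/-- The index of `C` in `E` is at most the square of the dimension over the field of `C`. -/
theorem relIndex_le_sq (hρ : Function.Injective ρ)
    (hdom : Dom ρ) (C E : Subgroup G) [C.Normal]
    (hC : ∀ x ∈ C, ∀ y ∈ C, x * y = y * x) (hEC : E ≤ Subgroup.centralizer (C : Set G))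
    (hder : ∀ x ∈ E, ∀ y ∈ E, ⁅x, y⁆ ∈ C) (hrad : E ⊓ Subgroup.centralizer (E : Set G) ≤ C)
    {d t : ℕ} (hd : 0 < d) (hA : Nat.card (algOf ρ C) = q ^ d) (hV : Nat.card V = q ^ (d * t)) :
    C.relIndex E ≤ t * t := by
  classical
  haveI : Finite (Module.End (ZMod q) V) := Finite.of_injective _ DFunLike.coe_injective
  let A := algOf ρ C
  letI iA : CommRing A := { (inferInstance : Ring A) with
    mul_comm := fun a b => Subtype.ext (algOf_comm ρ hC a.2 b.2) }
  haveI : IsDomain A := algOf_isDomain hdom C hC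
  letI : Field A := (Finite.isDomain_to_isField A).toField
  haveI : Module.Finite A V := Module.Finite.of_finite
  have ht : Module.finrank A V = t := by
    have h := Module.natCard_eq_pow_finrank (K := A) (V := V)
    rw [hV, hA, ← pow_mul] at h
    exact (Nat.eq_of_mul_eq_mul_left hd (Nat.pow_right_injective hq.out.two_le h)).symm
  -- elements of `E` are `A`-linear
  have hlin : ∀ e : E, ∀ a ∈ A, ∀ v : V, ρ (e : G) (a v) = a (ρ (e : G) v) := by
    intro e a ha
    induction ha using Algebra.adjoin_induction with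
    | mem x hx =>
      obtain ⟨c, hc, rfl⟩ := hx
      intro v
      rw [endHom_apply, endHom_apply, ← LinearEquiv.mul_apply, ← map_mul, ← LinearEquiv.mul_apply,
        ← map_mul, hEC e.2 c hc]
    | algebraMap r =>
      intro v
      simp only [Module.algebraMap_end_apply]
      exact map_smul (ρ (e : G)) r v
    | add u w _ _ hu hw =>
      intro v
      rw [LinearMap.add_apply, LinearMap.add_apply, map_add, hu, hw]
    | mul u w _ _ hu hw =>
      intro v
      rw [Module.End.mul_apply, Module.End.mul_apply, hu, hw]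
  let L : E → Module.End A V := fun e =>
    { toFun := fun v => ρ (e : G) v
      map_add' := fun v w => map_add _ v w
      map_smul' := fun a v => hlin e a.1 a.2 v }
  let Q := (↥E ⧸ C.subgroupOf E)
  let rep : Q → E := Quotient.out
  have hindep : LinearIndependent A (fun x : Q => L (rep x)) := by
    rw [linearIndependent_iff']
    intro s
    induction s using Finset.induction_on with
    | empty => simp
    | insert b s hbs ih =>
      intro c hc
      have hsum : ∀ v : V, ∑ x ∈ insert b s, c x • ρ (rep x : G) v = 0 := fun v => by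
        have := LinearMap.congr_fun hc v
        simpa [L] using this
      have hzero : ∀ x ∈ s, c x = 0 := by
        intro a ha
        have hab : a ≠ b := fun h => hbs (h ▸ ha)
        obtain ⟨y, hy, hne⟩ : ∃ y ∈ E, ⁅y, (rep a : G)⁆ ≠ ⁅y, (rep b : G)⁆ := by
          by_contra h
          push Not at h
          refine hab ?_
          rw [← Quotient.out_eq a, ← Quotient.out_eq b]
          refine QuotientGroup.eq.mpr (Subgroup.mem_subgroupOf.mpr (hrad ?_))
          refine ⟨E.mul_mem (E.inv_mem (rep a).2) (rep b).2, fun z hz => ?_⟩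
          have h1 := h z hz
          rw [commutatorElement_def, commutatorElement_def] at h1
          have h2 : z * (rep a : G) * z⁻¹ * (rep a : G)⁻¹ = z * (rep b : G) * z⁻¹ * (rep b : G)⁻¹ := h1
          show z * ((rep a : G)⁻¹ * rep b) = (rep a : G)⁻¹ * rep b * z
          calc z * ((rep a : G)⁻¹ * rep b)
              = (rep a : G)⁻¹ * (z * rep a * z⁻¹ * (rep a : G)⁻¹)⁻¹ * (z * rep b * z⁻¹ * (rep b : G)⁻¹) * rep b * z := by group
            _ = _ := by rw [h2]; group
        let σ : Q → A := fun x => ⟨endHom ρ ⁅y, (rep x : G)⁆, mem_algOf ρ (hder y hy _ (rep x).2)⟩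
        -- conjugate the relation by `y`
        have hy' : ∀ v : V, ∑ x ∈ insert b s, (c x * σ x) • ρ (rep x : G) v = 0 := by
          intro v
          have h := congrArg (ρ y) (hsum (ρ y⁻¹ v))
          rw [map_zero, map_sum] at h
          refine Eq.trans (Finset.sum_congr rfl fun x _ => ?_) h
          show (c x).1 ((σ x).1 (ρ (rep x : G) v)) = ρ y ((c x).1 (ρ (rep x : G) (ρ y⁻¹ v)))
          rw [hlin ⟨y, hy⟩ _ (c x).2]
          congr 1
          show ρ ⁅y, (rep x : G)⁆ (ρ (rep x : G) v) = _
          rw [← LinearEquiv.mul_apply, ← map_mul, ← LinearEquiv.mul_apply, ← map_mul,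
            ← LinearEquiv.mul_apply, ← map_mul, commutatorElement_def]
          congr 2
          group
        have hdiff : ∑ x ∈ s, (c x * (σ x - σ b)) • L (rep x) = 0 := by
          refine LinearMap.ext fun v => ?_
          rw [LinearMap.zero_apply, LinearMap.sum_apply]
          have h1 := hy' v
          have h2 : ∑ x ∈ insert b s, (c x * σ b) • ρ (rep x : G) v = 0 := by
            rw [← smul_zero (σ b), ← hsum v, Finset.smul_sum]
            exact Finset.sum_congr rfl fun x _ => by rw [smul_smul, mul_comm]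
          rw [Finset.sum_insert hbs] at h1 h2
          calc ∑ x ∈ s, ((c x * (σ x - σ b)) • L (rep x)) v
              = (∑ x ∈ s, (c x * σ x) • ρ (rep x : G) v) - ∑ x ∈ s, (c x * σ b) • ρ (rep x : G) v := by
                rw [← Finset.sum_sub_distrib]
                refine Finset.sum_congr rfl fun x _ => ?_
                rw [LinearMap.smul_apply, mul_sub, sub_smul]; rfl
            _ = 0 := by
                rw [eq_neg_of_add_eq_zero_right h1, eq_neg_of_add_eq_zero_right h2]; abel
        have := ih _ hdiff a ha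
        rcases mul_eq_zero.mp this with h | h
        · exact h
        · exfalso
          apply hne
          rw [sub_eq_zero] at h
          exact hρ (LinearEquiv.ext fun v => LinearMap.congr_fun (congrArg Subtype.val h) v)
      intro x hx
      rcases Finset.mem_insert.mp hx with rfl | hx
      · obtain ⟨v, hv⟩ := exists_ne (0 : V)
        have h := hsum v
        rw [Finset.sum_insert hbs, Finset.sum_eq_zero (fun z hz => by rw [hzero z hz, zero_smul]),
          add_zero] at h
        rcases smul_eq_zero.mp h with h | h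
        · exact h
        · exact absurd ((ρ (rep x : G)).map_eq_zero_iff.mp h) hv
      · exact hzero x hx
  haveI : Fintype Q := Fintype.ofFinite Q
  have h := hindep.fintype_card_le_finrank
  rw [Module.finrank_linearMap, ht, ← Nat.card_eq_fintype_card] at h
  exact h

/-- A maximal class two normal subgroup over `C` inside its centralizer. -/
theorem exists_class_two [Group.IsSolvable G] (hρ : Function.Injective ρ)
    (hdom : Dom ρ) (C : Subgroup G) [C.Normal]
    [IsCyclic C] (hmax : ∀ K : Subgroup G, K.Normal → C ≤ K → IsCyclic K → K = C)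
    (hns : ¬ Subgroup.centralizer (C : Set G) ≤ C) :
    ∃ E : Subgroup G, E.Normal ∧ C ≤ E ∧ ¬ E ≤ C ∧ E ≤ Subgroup.centralizer (C : Set G) ∧
      (∀ x ∈ E, ∀ y ∈ E, ⁅x, y⁆ ∈ C) ∧
      Subgroup.centralizer (C : Set G) ⊓ Subgroup.centralizer (E : Set G) ≤ C := by
  classical
  have hCc : C ≤ Subgroup.centralizer (C : Set G) := fun x hx y hy =>
    congrArg Subtype.val (mul_comm' (⟨y, hy⟩ : C) ⟨x, hx⟩)
  obtain ⟨E, hCE, hE⟩ := Finite.exists_le_maximal
    (p := fun K : Subgroup G => K.Normal ∧ K ≤ Subgroup.centralizer (C : Set G) ∧ ⁅K, K⁆ ≤ C)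
    (a := C) ⟨inferInstance, hCc, Subgroup.commutator_le_self C⟩
  obtain ⟨hEn, hEM, hEd⟩ := hE.prop
  haveI := hEn
  have hX : Subgroup.centralizer (C : Set G) ⊓ Subgroup.centralizer (E : Set G) ≤ C := by
    by_contra hnot
    set X := Subgroup.centralizer (C : Set G) ⊓ Subgroup.centralizer (E : Set G) with hXdef
    have hCX : C ≤ X := le_inf hCc fun c hc e he => ((hEM he) c hc).symm
    obtain ⟨E', hle, ⟨hEn', hCE', hne'⟩, hmin⟩ : ∃ E' ≤ X, (E'.Normal ∧ C ≤ E' ∧ E' ≠ C) ∧
        ∀ K : Subgroup G, K.Normal → C ≤ K → K ≠ C → K ≤ E' → K = E' := by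
      obtain ⟨E', hle, hE'⟩ := Finite.exists_le_minimal
        (p := fun K : Subgroup G => K.Normal ∧ C ≤ K ∧ K ≠ C) (a := X)
        ⟨inferInstance, hCX, fun h => hnot h.le⟩
      exact ⟨E', hle, hE'.prop, fun K hK hCK hKne hKE => le_antisymm hKE (hE'.2 ⟨hK, hCK, hKne⟩ hKE)⟩
    haveI := hEn'
    have hd' : ⁅E', E'⁆ ≤ C := derived_le_of_minimal C E' hCE' (hle.trans inf_le_left) hmin
    have hEE' : E' ≤ Subgroup.centralizer (E : Set G) := hle.trans inf_le_right
    have hbot : ⁅E', E⁆ = ⊥ := Subgroup.commutator_eq_bot_iff_le_centralizer.mpr hEE'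
    have hsup : ⁅E ⊔ E', E ⊔ E'⁆ ≤ C := by
      refine Subgroup.commutator_le.mpr fun x hx y hy => ?_
      obtain ⟨a, ha, a', ha', rfl⟩ := Subgroup.mem_sup_of_normal_right.mp hx
      obtain ⟨b, hb, b', hb', rfl⟩ := Subgroup.mem_sup_of_normal_right.mp hy
      have h1 : Commute a' b := (hEE' ha' b hb).symm
      have h2 : Commute b' a := (hEE' hb' a ha).symm
      have h3 := hd' (Subgroup.commutator_mem_commutator ha' hb')
      have h4 := hEd (Subgroup.commutator_mem_commutator ha hb)
      have h5 : Commute ⁅a', b'⁆ a := (hEM ha) _ h3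
      have h6 : Commute ⁅a', b'⁆ b := (hEM hb) _ h3
      have : ⁅a * a', b * b'⁆ = ⁅a, b⁆ * ⁅a', b'⁆ := by
        rw [commutatorElement_def, commutatorElement_def, commutatorElement_def]
        calc a * a' * (b * b') * (a * a')⁻¹ * (b * b')⁻¹
            = a * (a' * b) * b' * a'⁻¹ * a⁻¹ * b'⁻¹ * b⁻¹ := by group
          _ = a * b * (a' * b' * a'⁻¹) * (a⁻¹ * b'⁻¹) * b⁻¹ := by rw [h1.eq]; group
          _ = a * b * ((a' * b' * a'⁻¹ * b'⁻¹) * a⁻¹) * b⁻¹ := by
              rw [show a⁻¹ * b'⁻¹ = b'⁻¹ * a⁻¹ from (h2.inv_inv).symm.eq]; group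
          _ = a * b * a⁻¹ * ((a' * b' * a'⁻¹ * b'⁻¹) * b⁻¹) := by
              rw [show (a' * b' * a'⁻¹ * b'⁻¹) * a⁻¹ = a⁻¹ * (a' * b' * a'⁻¹ * b'⁻¹) from
                h5.inv_right.eq]; group
          _ = _ := by
              rw [show (a' * b' * a'⁻¹ * b'⁻¹) * b⁻¹ = b⁻¹ * (a' * b' * a'⁻¹ * b'⁻¹) from
                h6.inv_right.eq]; group
      rw [this]
      exact mul_mem h4 h3
    have heq : E ⊔ E' ≤ E :=
      hE.2 ⟨inferInstance, sup_le hEM (hle.trans inf_le_left), hsup⟩ le_sup_left
    haveI : (E ⊓ Subgroup.centralizer (E : Set G)).Normal := Subgroup.normal_inf_normal _ _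
    have hcyc := isCyclic_of_normal_comm hρ hdom (E ⊓ Subgroup.centralizer (E : Set G))
      (fun x hx y hy => hy.2 x hx.1)
    have hC' : E ⊓ Subgroup.centralizer (E : Set G) = C :=
      hmax _ inferInstance (le_inf hCE (hCX.trans inf_le_right)) hcyc
    exact hne' (le_antisymm (fun x hx => hC'.le ⟨heq (Subgroup.mem_sup_right hx), hEE' hx⟩) hCE')
  refine ⟨E, hEn, hCE, fun hle => hns fun g hg => hX ⟨hg, fun e he => hg e (hle he)⟩, hEM,
    fun x hx y hy => hEd (Subgroup.commutator_mem_commutator hx hy), hX⟩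

end Linear

end CfsgLib.ThreePrimes
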