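import Mathlib
import Cfsg.Agent.Lib.ThreePrimes.Field
import Cfsg.Agent.Lib.ThreePrimes.Count

/-!
# An irreducible element of large prime order
-/

set_option autoImplicit false
set_option linter.style.haveILetI false
set_option linter.unusedSectionVars false

namespace CfsgLib.ThreePrimes

open CfsgLib.TransLinear

variable {q : ℕ} [hq : Fact q.Prime] {V : Type*} [AddCommGroup V] [Module (ZMod q) V] [Finite V]
  {G : Type*} [Group G] [Finite G] {ρ : G →* (V ≃ₗ[ZMod q] V)}

/-- Counting fixed vectors of an element of prime order in an invariant subspace. -/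
theorem card_fix_modEq {g : G} {z : ℕ} [Fact z.Prime] (hg : g ^ z = 1) (W : Submodule (ZMod q) V)
    (hW : ∀ w ∈ W, ρ g w ∈ W) :
    Nat.card W ≡ Nat.card {w : W // ρ g w = w} [MOD z] := by
  classical
  have hall : ∀ x ∈ Subgroup.zpowers g, ∀ w ∈ W, ρ x w ∈ W := by
    intro x hx w hw
    obtain ⟨k, rfl⟩ := (isOfFinOrder_of_finite g).mem_powers_iff_mem_zpowers.mpr hx
    show ρ (g ^ k) w ∈ W
    clear hx
    induction k with
    | zero => simpa using hw
    | succ k ih =>
      rw [pow_succ', map_mul, LinearEquiv.mul_apply]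
      exact hW _ ih
  letI : MulAction (Subgroup.zpowers g) W :=
    { smul := fun x w => ⟨ρ (x : G) w.1, hall x x.2 w.1 w.2⟩
      one_smul := fun w => Subtype.ext (by
        show ρ ((1 : Subgroup.zpowers g) : G) w.1 = w.1
        rw [OneMemClass.coe_one, map_one]; rfl)
      mul_smul := fun x y w => Subtype.ext (by
        show ρ (((x * y : Subgroup.zpowers g)) : G) w.1 = ρ (x : G) (ρ (y : G) w.1)
        rw [Subgroup.coe_mul, map_mul]; rfl) }
  have hP : IsPGroup z (Subgroup.zpowers g) := fun x => ⟨1, by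
    obtain ⟨_, k, rfl⟩ := x
    refine Subtype.ext ?_
    show (g ^ k) ^ (z ^ 1) = 1
    rw [pow_one, ← zpow_natCast, ← zpow_mul, mul_comm, zpow_mul, zpow_natCast, hg, one_zpow]⟩
  refine (hP.card_modEq_card_fixedPoints W).trans ?_
  refine congrArg (· % z) (Nat.card_congr (Equiv.subtypeEquivRight fun w => ?_))
  refine ⟨fun h => congrArg Subtype.val (h ⟨g, Subgroup.mem_zpowers g⟩), fun h x => ?_⟩
  obtain ⟨k, hk⟩ := (isOfFinOrder_of_finite g).mem_powers_iff_mem_zpowers.mpr x.2
  refine Subtype.ext ?_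
  show ρ (x : G) w.1 = w.1
  rw [← hk]
  show ρ (g ^ k) w.1 = w.1
  clear hk
  induction k with
  | zero => simp
  | succ k ih => rw [pow_succ', map_mul, LinearEquiv.mul_apply, ih, h]

theorem card_pow_finrank (W : Submodule (ZMod q) V) :
    Nat.card W = q ^ Module.finrank (ZMod q) W := by
  rw [Module.natCard_eq_pow_finrank (K := ZMod q), Nat.card_zmod]

/-- An element of order a primitive prime divisor leaves no proper subspace invariant. -/
theorem irreducible_of_primitive (hρ : Function.Injective ρ) {n z : ℕ} [Fact z.Prime]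
    (hV : Nat.card V = q ^ n) (hzn : z ∣ q ^ n - 1)
    (hprim : ∀ k, 0 < k → k < n → ¬ z ∣ q ^ k - 1) {h : G} (ho : orderOf h = z)
    (W : Submodule (ZMod q) V) (hW : ∀ w ∈ W, ρ h w ∈ W) : W = ⊥ ∨ W = ⊤ := by
  classical
  haveI : Module.Finite (ZMod q) V := Module.Finite.of_finite
  have hz : z.Prime := Fact.out
  have hh : h ^ z = 1 := by rw [← ho]; exact pow_orderOf_eq_one h
  have hq1 : ∀ k, 1 ≤ q ^ k := fun k => Nat.one_le_pow _ _ hq.out.pos
  have hn : Module.finrank (ZMod q) V = n := by
    have h := Module.natCard_eq_pow_finrank (K := ZMod q) (V := V)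
    rw [hV, Nat.card_zmod] at h
    exact (Nat.pow_right_injective hq.out.two_le h).symm
  -- the only invariant orders congruent to one
  have hdim : ∀ k, k ≤ n → q ^ k ≡ 1 [MOD z] → k = 0 ∨ k = n := by
    intro k hk hmod
    by_contra hne
    push Not at hne
    exact hprim k (by omega) (by omega) ((Nat.modEq_iff_dvd' (hq1 k)).mp hmod.symm)
  have hVmod : q ^ n ≡ 1 [MOD z] := ((Nat.modEq_iff_dvd' (hq1 n)).mpr hzn).symm
  let F : Submodule (ZMod q) V :=
    { carrier := {v | ρ h v = v}
      add_mem' := fun {a b} ha hb => by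
        show ρ h (a + b) = a + b
        rw [map_add, show ρ h a = a from ha, show ρ h b = b from hb]
      zero_mem' := map_zero _
      smul_mem' := fun c {a} ha => by
        show ρ h (c • a) = c • a
        rw [map_smul, show ρ h a = a from ha] }
  have hF : F = ⊥ := by
    have h1 := card_fix_modEq (ρ := ρ) hh ⊤ (fun w _ => Submodule.mem_top)
    have e1 : Nat.card (⊤ : Submodule (ZMod q) V) = q ^ n := by
      rw [card_pow_finrank, finrank_top, hn]
    have e2 : Nat.card {w : (⊤ : Submodule (ZMod q) V) // ρ h w = w} = q ^ Module.finrank (ZMod q) F := by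
      rw [← card_pow_finrank F]
      exact Nat.card_congr ⟨fun w => ⟨w.1.1, w.2⟩, fun v => ⟨⟨v.1, Submodule.mem_top⟩, v.2⟩,
        fun w => rfl, fun v => rfl⟩
    rw [e1, e2] at h1
    rcases hdim _ ((Submodule.finrank_le F).trans hn.le) (h1.symm.trans hVmod) with h0 | h0
    · exact Submodule.finrank_eq_zero.mp h0
    · exfalso
      have htop : F = ⊤ := Submodule.eq_top_of_finrank_eq (h0.trans hn.symm)
      have : h = 1 := hρ (LinearEquiv.ext fun v => by
        rw [map_one]; exact (htop ▸ Submodule.mem_top : v ∈ F))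
      rw [this, orderOf_one] at ho
      exact hz.one_lt.ne ho
  have h1 := card_fix_modEq (ρ := ρ) hh W hW
  have e2 : Nat.card {w : W // ρ h w = w} = 1 := by
    refine Nat.card_eq_one_iff_unique.mpr ⟨⟨fun a b => ?_⟩, ⟨⟨0, map_zero _⟩⟩⟩
    have key : ∀ c : {w : W // ρ h w = w}, (c.1 : V) = 0 := fun c =>
      (Submodule.mem_bot _).mp (hF ▸ (show (c.1 : V) ∈ F from c.2))
    exact Subtype.ext (Subtype.ext ((key a).trans (key b).symm))
  rw [card_pow_finrank, e2] at h1
  rcases hdim _ ((Submodule.finrank_le W).trans hn.le) h1 with h0 | h0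
  · exact Or.inl (Submodule.finrank_eq_zero.mp h0)
  · exact Or.inr (Submodule.eq_top_of_finrank_eq (h0.trans hn.symm))

/-- With an irreducible element of prime order exceeding the dimension, the algebra of every
normal abelian subgroup is a field. -/
theorem dom_of_element {n z : ℕ} [Fact z.Prime] (hV : Nat.card V = q ^ n) (hnz : n < z) {h : G}
    (ho : orderOf h = z)
    (hirr : ∀ W : Submodule (ZMod q) V, (∀ w ∈ W, ρ h w ∈ W) → W = ⊥ ∨ W = ⊤) : Dom ρ := by
  classical
  intro C hCn hC a ha v hv hav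
  haveI := hCn
  haveI : Module.Finite (ZMod q) V := Module.Finite.of_finite
  haveI : Finite (Module.End (ZMod q) V) := Finite.of_injective _ DFunLike.coe_injective
  have hn : Module.finrank (ZMod q) V = n := by
    have h := Module.natCard_eq_pow_finrank (K := ZMod q) (V := V)
    rw [hV, Nat.card_zmod] at h
    exact (Nat.pow_right_injective hq.out.two_le h).symm
  set A := algOf ρ C with hA
  have hcomm : ∀ b ∈ A, ∀ c ∈ C, ∀ x : V, b (ρ c x) = ρ c (b x) := fun b hb c hc x =>
    LinearMap.congr_fun (algOf_comm ρ hC hb (mem_algOf ρ hc)) x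
  have hkerinv : ∀ b ∈ A, ∀ c ∈ C, ∀ x ∈ LinearMap.ker b, ρ c x ∈ LinearMap.ker b := by
    intro b hb c hc x hx
    rw [LinearMap.mem_ker] at hx ⊢
    rw [hcomm b hb c hc, hx, map_zero]
  obtain ⟨W, hWker, hWmin⟩ := Finite.exists_le_minimal
    (p := fun W : Submodule (ZMod q) V => W ≠ ⊥ ∧ ∀ c ∈ C, ∀ w ∈ W, ρ c w ∈ W)
    (a := LinearMap.ker a)
    ⟨fun hb => hv ((Submodule.mem_bot _).mp (hb ▸ (LinearMap.mem_ker.mpr hav))), hkerinv a ha⟩
  obtain ⟨hW0, hWinv⟩ := hWmin.prop
  have hAW : ∀ b ∈ A, ∀ w ∈ W, b w ∈ W := by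
    intro b hb
    induction hb using Algebra.adjoin_induction with
    | mem x hx =>
      obtain ⟨c, hc, rfl⟩ := hx
      exact hWinv c hc
    | algebraMap r =>
      intro w hw
      rw [Module.algebraMap_end_apply]
      exact W.smul_mem r hw
    | add x y _ _ hx hy => exact fun w hw => W.add_mem (hx w hw) (hy w hw)
    | mul x y _ _ hx hy => exact fun w hw => hx _ (hy w hw)
  -- a member of the algebra is zero or injective on `W`
  have hdich : ∀ b ∈ A, ∀ w ∈ W, w ≠ 0 → b w = 0 → ∀ w' ∈ W, b w' = 0 := by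
    intro b hb w hw hw0 hbw w' hw'
    have hle : W ≤ W ⊓ LinearMap.ker b := hWmin.2
      ⟨fun hbot => hw0 ((Submodule.mem_bot _).mp (hbot ▸ (show w ∈ W ⊓ LinearMap.ker b from ⟨hw, LinearMap.mem_ker.mpr hbw⟩))),
        fun c hc x hx => ⟨hWinv c hc x hx.1, hkerinv b hb c hc x hx.2⟩⟩ inf_le_left
    exact LinearMap.mem_ker.mp (hle hw').2
  let kills : Set (Module.End (ZMod q) V) := {b | b ∈ A ∧ ∀ w ∈ W, b w = 0}
  let cj : G → Module.End (ZMod q) V → Module.End (ZMod q) V := fun g b =>
    endHom ρ g * b * endHom ρ g⁻¹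
  have hcjmul : ∀ g g' b, cj (g * g') b = cj g (cj g' b) := fun g g' b => by
    simp only [cj, mul_inv_rev, map_mul, mul_assoc]
  have hcjapp : ∀ g b x, cj g b (ρ g x) = ρ g (b x) := fun g b x => by
    simp only [cj, Module.End.mul_apply, endHom_apply, inv_apply_apply]
  have hcjinj : ∀ g, Function.Injective (cj g) := by
    intro g b b' he
    refine LinearMap.ext fun x => (ρ g).injective ?_
    rw [← hcjapp, ← hcjapp, he]
  have hcjA : ∀ g, ∀ b ∈ A, cj g b ∈ A := fun g b hb => conj_mem_algOf ρ g hb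
  -- the stabiliser of the annihilator
  let S : Subgroup G :=
    { carrier := {g | cj g '' kills = kills}
      one_mem' := by
        show cj 1 '' kills = kills
        have : cj 1 = id := funext fun b => by simp [cj]
        rw [this, Set.image_id]
      mul_mem' := fun {x y} hx hy => by
        show cj (x * y) '' kills = kills
        rw [funext (hcjmul x y) (f := cj (x * y)), ← Set.image_image, show cj y '' kills = kills from hy,
          show cj x '' kills = kills from hx]
      inv_mem' := fun {x} hx => by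
        show cj x⁻¹ '' kills = kills
        conv_lhs => rw [← show cj x '' kills = kills from hx]
        rw [Set.image_image]
        have : (fun b => cj x⁻¹ (cj x b)) = id := funext fun b => by
          rw [← hcjmul, inv_mul_cancel]; simp [cj]
        rw [this, Set.image_id] }
  by_cases hS : h ∈ S
  · -- the annihilator is invariant: `a` kills everything
    let U : Submodule (ZMod q) V :=
      { carrier := {x | ∀ b ∈ kills, b x = 0}
        add_mem' := fun {x y} hx hy b hb => by rw [map_add, hx b hb, hy b hb, add_zero]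
        zero_mem' := fun b _ => map_zero _
        smul_mem' := fun c {x} hx b hb => by rw [map_smul, hx b hb, smul_zero] }
    have hWU : W ≤ U := fun w hw b hb => hb.2 w hw
    rcases hirr U (fun x hx b hb => by
        rw [← show cj h '' kills = kills from hS] at hb
        obtain ⟨b', hb', rfl⟩ := hb
        rw [hcjapp, hx b' hb', map_zero]) with h0 | h0
    · exact absurd (le_bot_iff.mp (hWU.trans h0.le)) hW0
    · refine LinearMap.ext fun x => ?_
      exact (h0 ▸ Submodule.mem_top : x ∈ U) a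
        ⟨ha, fun w hw => LinearMap.mem_ker.mp (hWker hw)⟩
  -- otherwise the translates are independent
  exfalso
  have hgen : ∀ i j : Fin z, i ≠ j → (h ^ (i : ℕ))⁻¹ * h ^ (j : ℕ) ∉ S := by
    intro i j hij hmem
    apply hS
    set x := (h ^ (i : ℕ))⁻¹ * h ^ (j : ℕ) with hx
    have hxz : x ∈ Subgroup.zpowers h :=
      mul_mem (inv_mem (pow_mem (Subgroup.mem_zpowers h) _)) (pow_mem (Subgroup.mem_zpowers h) _)
    have hx1 : x ≠ 1 := fun e => hij (Fin.ext (pow_injOn_Iio_orderOf
      (by rw [ho]; exact i.2) (by rw [ho]; exact j.2) (inv_mul_eq_one.mp e)))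
    haveI : Fact (Nat.card (Subgroup.zpowers h)).Prime := ⟨by rw [Nat.card_zpowers, ho]; exact Fact.out⟩
    rcases (Subgroup.zpowers x |>.subgroupOf (Subgroup.zpowers h)).eq_bot_or_eq_top_of_prime_card
      with e | e
    · rw [Subgroup.subgroupOf_eq_bot, disjoint_iff] at e
      exact absurd (Subgroup.mem_bot.mp (e ▸ (show x ∈ Subgroup.zpowers x ⊓ Subgroup.zpowers h from ⟨Subgroup.mem_zpowers x, hxz⟩))) hx1
    · rw [Subgroup.subgroupOf_eq_top] at e
      exact (Subgroup.zpowers_le.mpr hmem) (e (Subgroup.mem_zpowers h))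
  have hsep : ∀ i j : Fin z, i ≠ j →
      ∃ b ∈ A, (∀ w ∈ W, b (ρ (h ^ (j : ℕ)) w) = 0) ∧ ∀ w ∈ W, b (ρ (h ^ (i : ℕ)) w) = 0 → w = 0 := by
    intro i j hij
    set gi := h ^ (i : ℕ) with hgi
    set gj := h ^ (j : ℕ) with hgj
    obtain ⟨b, hb, hbn⟩ : ∃ b ∈ kills, cj (gi⁻¹ * gj) b ∉ kills := by
      by_contra hcon
      push Not at hcon
      refine hgen i j hij (Set.eq_of_subset_of_ncard_le ?_ ?_ (Set.toFinite _))
      · rintro _ ⟨b, hb, rfl⟩; exact hcon b hb
      · rw [Set.ncard_image_of_injective _ (hcjinj _)]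
    refine ⟨cj gj b, hcjA _ _ hb.1, fun w hw => by rw [hcjapp, hb.2 w hw, map_zero],
      fun w hw hz => ?_⟩
    by_contra hw0
    refine hbn ⟨hcjA _ _ hb.1, hdich _ (hcjA _ _ hb.1) w hw hw0 ?_⟩
    have h1 : cj gj b = cj gi (cj (gi⁻¹ * gj) b) := by rw [← hcjmul, mul_inv_cancel_left]
    rw [h1, hcjapp] at hz
    exact (ρ gi).map_eq_zero_iff.mp hz
  choose! bb hbA hbj hbi using hsep
  letI iA : CommRing A := { (inferInstance : Ring A) with
    mul_comm := fun x y => Subtype.ext (algOf_comm ρ hC x.2 y.2) }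
  let B : Fin z → Fin z → A := fun i j => if hij : i ≠ j then ⟨bb i j, hbA i j hij⟩ else 1
  have hBi : ∀ i, ∀ s : Finset (Fin z), ∀ w ∈ W, (∏ j ∈ s, B i j).1 (ρ (h ^ (i : ℕ)) w) = 0 → w = 0 := by
    intro i s
    induction s using Finset.induction_on with
    | empty =>
      intro w _ hz
      rw [Finset.prod_empty] at hz
      exact (ρ _).map_eq_zero_iff.mp hz
    | insert j s hjs ih =>
      intro w hw hz
      rw [Finset.prod_insert hjs, mul_comm] at hz
      have hmem : (B i j).1 (ρ (h ^ (i : ℕ)) w) ∈ W.map ((ρ (h ^ (i : ℕ))).toLinearMap) := by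
        refine ⟨cj (h ^ (i : ℕ))⁻¹ (B i j).1 w, hAW _ (hcjA _ _ (B i j).2) w hw, ?_⟩
        show ρ (h ^ (i : ℕ)) _ = _
        rw [← hcjapp (h ^ (i : ℕ)), ← hcjmul, mul_inv_cancel]
        simp [cj]
      obtain ⟨w', hw', he⟩ := hmem
      have hw'0 : w' = 0 := ih w' hw' (by
        show _ = (0 : V)
        rw [show ρ (h ^ (i : ℕ)) w' = (B i j).1 (ρ (h ^ (i : ℕ)) w) from he]
        exact hz)
      rw [hw'0, map_zero] at he
      by_cases hij : i ≠ j
      · simp only [B, dif_pos hij] at he
        exact hbi i j hij w hw he.symm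
      · simp only [B, dif_neg hij] at he
        exact (ρ _).map_eq_zero_iff.mp he.symm
  obtain ⟨w₀, hw₀, hw₀0⟩ := (Submodule.ne_bot_iff W).mp hW0
  have hind : LinearIndependent (ZMod q) fun i : Fin z => ρ (h ^ (i : ℕ)) w₀ := by
    rw [Fintype.linearIndependent_iff]
    intro c hc i
    set e := ∏ j ∈ Finset.univ.erase i, B i j with he
    have h1 := congrArg e.1 hc
    rw [map_zero, map_sum, Finset.sum_eq_single i] at h1
    · rw [map_smul, smul_eq_zero] at h1
      exact h1.resolve_right fun h0 => hw₀0 (hBi i _ w₀ hw₀ h0)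
    · intro j _ hji
      rw [map_smul]
      refine smul_eq_zero_of_right _ ?_
      rw [he, ← Finset.prod_erase_mul _ _ (Finset.mem_erase.mpr ⟨hji, Finset.mem_univ j⟩)]
      show (∏ x ∈ (Finset.univ.erase i).erase j, B i x).1 ((B i j).1 (ρ (h ^ (j : ℕ)) w₀)) = 0
      simp only [B, dif_pos (Ne.symm hji)]
      rw [hbj i j (Ne.symm hji) w₀ hw₀, map_zero]
    · exact fun hi => absurd (Finset.mem_univ i) hi
  have := hind.fintype_card_le_finrank
  rw [Fintype.card_fin, hn] at this
  omega

end CfsgLib.ThreePrimes
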