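import Cfsg.Agent.Lib.ThreePrimes.Basic
import Cfsg.Agent.Lib.Hall.Chief
import Cfsg.Agent.Lib.PSolvable.Core
import Cfsg.Agent.Lib.Char.Gallagher

/-!
# Characters of a group with a complemented normal subgroup
-/

set_option autoImplicit false
set_option linter.style.haveILetI false
set_option linter.unusedSectionVars false

open scoped commutatorElement

namespace CfsgLib.ThreePrimes

open Cfsg CfsgLib.Char
open scoped CfsgLib.Char

variable {G : Type*} [Group G] [Finite G]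

theorem exists_normal_abelian_sylow [Group.IsSolvable G] {p : ℕ} [Fact p.Prime]
    (h : ¬ HasDeg G p) :
    ∃ P : Subgroup G, P.Normal ∧ IsPGroup p P ∧ ¬ p ∣ P.index ∧
      ∀ a ∈ P, ∀ b ∈ P, a * b = b * a :=
  ItoMichler.aux p _ G rfl (PSolvable.isPSolvable_of_isSolvable ‹_›) fun χ d hd hpd =>
    h ⟨χ, by rwa [Extraspecial.charDegree_eq hd]⟩

theorem not_hasDeg {p : ℕ} (P : Subgroup G) [P.Normal]
    (hab : ∀ a ∈ P, ∀ b ∈ P, a * b = b * a) (hidx : ¬ p ∣ P.index) : ¬ HasDeg G p :=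
  fun ⟨χ, hχ⟩ => ItoMichler.not_dvd_of_normal_abelian P hab hidx χ hχ

theorem HasDeg.dvd_index {p : ℕ} (h : HasDeg G p) (A : Subgroup G) [A.Normal]
    (hab : ∀ a ∈ A, ∀ b ∈ A, a * b = b * a) : p ∣ A.index := by
  obtain ⟨χ, hχ⟩ := h
  obtain ⟨d, -, hd⟩ := exists_nat_degree_irr χ.2
  rw [Extraspecial.charDegree_eq hd] at hχ
  exact hχ.trans (Extraspecial.ito χ.2 A hab hd)

/-- A minimal normal subgroup below a nontrivial normal subgroup. -/
theorem exists_minimal [Group.IsSolvable G] (N : Subgroup G) [N.Normal] (hN : N ≠ ⊥) :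
    ∃ (M : Subgroup G) (u : ℕ), M.Normal ∧ M ≤ N ∧ M ≠ ⊥ ∧ u.Prime ∧ IsPGroup u M ∧
      (∀ a ∈ M, ∀ b ∈ M, a * b = b * a) ∧ (∀ a ∈ M, a ^ u = 1) ∧
      ∀ K : Subgroup G, K.Normal → K ≤ M → K = ⊥ ∨ K = M := by
  classical
  obtain ⟨M, hMN, hMmin⟩ := Finite.exists_le_minimal
    (p := fun K : Subgroup G => K.Normal ∧ K ≠ ⊥) (a := N) ⟨inferInstance, hN⟩
  obtain ⟨hMn, hM0⟩ := hMmin.prop
  haveI := hMn
  have hmin : ∀ K : Subgroup G, K.Normal → K ≤ M → K = ⊥ ∨ K = M := fun K hK hKM => by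
    by_cases h : K = ⊥
    · exact Or.inl h
    · exact Or.inr (le_antisymm hKM (hMmin.2 ⟨hK, h⟩ hKM))
  obtain ⟨u, hu, hMu⟩ := Hall.exists_prime_isPGroup_of_minimal hM0 hmin
  haveI := Fact.mk hu
  haveI : Nontrivial M := (Subgroup.nontrivial_iff_ne_bot M).mpr hM0
  have hab : ∀ a ∈ M, ∀ b ∈ M, a * b = b * a := by
    haveI : Group.IsSolvable M := Group.isSolvable_of_isSolvable_injective M.subtype_injective
    have hlt : ⁅M, M⁆ < M := by
      have h := Subgroup.map_lt_map_iff_of_injective (Subgroup.subtype_injective M) |>.mpr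
        (Group.IsSolvable.commutator_lt_top_of_nontrivial M)
      rwa [Subgroup.map_subtype_commutator, ← MonoidHom.range_eq_map, Subgroup.range_subtype] at h
    have hbot := (hmin ⁅M, M⁆ inferInstance hlt.le).resolve_right hlt.ne
    intro a ha b hb
    have h1 : ⁅a, b⁆ ∈ ⁅M, M⁆ := Subgroup.commutator_mem_commutator ha hb
    rw [hbot, Subgroup.mem_bot] at h1
    exact commutatorElement_eq_one_iff_mul_comm.mp h1
  let O : Subgroup G :=
    { carrier := {a | a ∈ M ∧ a ^ u = 1}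
      one_mem' := ⟨one_mem _, one_pow _⟩
      mul_mem' := fun {a b} ha hb => ⟨mul_mem ha.1 hb.1, by
        rw [Commute.mul_pow (hab a ha.1 b hb.1), ha.2, hb.2, one_mul]⟩
      inv_mem' := fun {a} ha => ⟨inv_mem ha.1, by rw [inv_pow, ha.2, inv_one]⟩ }
  have hOn : O.Normal := ⟨fun a ha g => ⟨hMn.conj_mem a ha.1 g, by
    rw [conj_pow, ha.2, mul_one, mul_inv_cancel]⟩⟩
  have hO0 : O ≠ ⊥ := by
    obtain ⟨k, hk⟩ := IsPGroup.iff_card.mp hMu
    obtain ⟨x, hx⟩ := exists_prime_orderOf_dvd_card' (G := M) u (by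
      rw [hk]
      refine dvd_pow_self u fun h0 => ?_
      rw [h0, pow_zero] at hk
      exact hM0 (Subgroup.card_eq_one.mp hk))
    intro h
    have hx1 : (x : G) ∈ O := ⟨x.2, by
      have := congrArg Subtype.val (pow_orderOf_eq_one x)
      rwa [hx] at this⟩
    rw [h, Subgroup.mem_bot] at hx1
    rw [show x = 1 from Subtype.ext hx1, orderOf_one] at hx
    exact hu.one_lt.ne hx
  have hOM : O = M := (hmin O hOn (fun a ha => ha.1)).resolve_left hO0
  exact ⟨M, u, hMn, hMN, hM0, hu, hMu, hab, fun a ha => ((hOM.symm ▸ ha : a ∈ O)).2, hmin⟩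

/-- A Sylow subgroup of a subgroup of index prime to `l` with a normal abelian Sylow
subgroup. -/
theorem exists_sylow_stab [Group.IsSolvable G] {l : ℕ} [Fact l.Prime] (T : Subgroup G)
    (hT : ¬ l ∣ T.index) (hdeg : ¬ HasDeg T l) :
    ∃ S : Sylow l G, (S : Subgroup G) ≤ T ∧
      (∀ g ∈ T, ∀ s ∈ (S : Subgroup G), g * s * g⁻¹ ∈ (S : Subgroup G)) ∧
      ∀ a ∈ (S : Subgroup G), ∀ b ∈ (S : Subgroup G), a * b = b * a := by
  haveI : Group.IsSolvable T := Group.isSolvable_of_isSolvable_injective T.subtype_injective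
  obtain ⟨P, hPn, hPp, hPi, hPab⟩ := exists_normal_abelian_sylow hdeg
  have hidx : ¬ l ∣ (P.map T.subtype).index := by
    rw [Subgroup.index_map, T.subtype.ker_eq_bot_iff.mpr T.subtype_injective, sup_bot_eq,
      Subgroup.range_subtype]
    exact fun h => ((Fact.out : l.Prime).dvd_mul.mp h).elim hPi hT
  refine ⟨IsPGroup.toSylow (hPp.map _) hidx, ?_, ?_, ?_⟩ <;> rw [IsPGroup.toSylow_coe]
  · exact Subgroup.map_subtype_le _
  · rintro g hg _ ⟨s, hs, rfl⟩
    exact ⟨⟨g, hg⟩ * s * ⟨g, hg⟩⁻¹, hPn.conj_mem s hs _, rfl⟩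
  · rintro _ ⟨a, ha, rfl⟩ _ ⟨b, hb, rfl⟩
    exact congrArg Subtype.val (hPab a ha b hb)

section Semidirect

variable [Fintype G] (N H : Subgroup G) [N.Normal] (hsup : N ⊔ H = ⊤) (hinf : N ⊓ H = ⊥)

include hsup hinf in
/-- The projection of the inertia group to the stabiliser. -/
theorem exists_proj (θ : N → ℂ) (Hs : Subgroup H)
    (hHs : ∀ h : H, h ∈ Hs ↔ conjBy N θ (h : G) = θ) (hθ : IsClassFunction N θ) :
    ∃ π : inertia N θ →* Hs, Function.Surjective π ∧
      ∀ t : inertia N θ, (t : G) * (((π t : Hs) : H) : G)⁻¹ ∈ N := by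
  classical
  have hmk : ∀ t : inertia N θ, ∃ h : Hs, (t : G) * (((h : Hs) : H) : G)⁻¹ ∈ N := by
    intro t
    obtain ⟨n, hn, h, hh, e⟩ := Subgroup.mem_sup_of_normal_left.mp
      (show (t : G) ∈ N ⊔ H by rw [hsup]; trivial)
    have hmem : h ∈ inertia N θ := by
      have : h = n⁻¹ * t := by rw [← e]; group
      rw [this]
      exact mul_mem (inv_mem (le_inertia N hθ hn)) t.2
    refine ⟨⟨⟨h, hh⟩, (hHs _).mpr ((mem_inertia N).mp hmem)⟩, ?_⟩
    show (t : G) * h⁻¹ ∈ N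
    rw [← e, mul_inv_cancel_right]
    exact hn
  choose f hf using hmk
  have huniq : ∀ (t : inertia N θ) (h : Hs), (t : G) * (((h : Hs) : H) : G)⁻¹ ∈ N → f t = h := by
    intro t h hh
    have h1 : (((h : Hs) : H) : G) * (((f t : Hs) : H) : G)⁻¹ ∈ N ⊓ H := by
      refine ⟨?_, H.mul_mem ((h : Hs) : H).2 (H.inv_mem ((f t : Hs) : H).2)⟩
      have := mul_mem (inv_mem hh) (hf t)
      simpa [mul_assoc] using this
    rw [hinf, Subgroup.mem_bot, mul_inv_eq_one] at h1
    exact (Subtype.ext (Subtype.ext h1)).symm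
  refine ⟨MonoidHom.mk' f fun a b => huniq _ _ ?_, fun h => ?_, hf⟩
  · have h1 := Subgroup.Normal.conj_mem ‹N.Normal› _ (hf b) (a : G)
    have h2 := hf a
    have h3 := mul_mem h1 h2
    simpa [mul_assoc] using h3
  · refine ⟨⟨((h : H) : G), (mem_inertia N).mpr ((hHs _).mp h.2)⟩, huniq _ _ ?_⟩
    show ((h : H) : G) * ((h : H) : G)⁻¹ ∈ N
    rw [mul_inv_cancel]; exact one_mem _

include hsup hinf in
/-- The index of the inertia group. -/
theorem inertia_index (θ : N → ℂ) (Hs : Subgroup H)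
    (hHs : ∀ h : H, h ∈ Hs ↔ conjBy N θ (h : G) = θ) (hθ : IsClassFunction N θ) :
    (inertia N θ).index = Hs.index := by
  have heq : Hs = (inertia N θ).subgroupOf H := Subgroup.ext fun h => by
    rw [Subgroup.mem_subgroupOf, mem_inertia, hHs]
  obtain ⟨π, hπ, hmem⟩ := exists_proj N H hsup hinf θ Hs hHs hθ
  have hker : π.ker = N.subgroupOf (inertia N θ) := by
    ext t
    rw [MonoidHom.mem_ker, Subgroup.mem_subgroupOf]
    constructor
    · intro h1
      have := hmem t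
      rw [h1] at this
      simpa using this
    · intro ht
      have h1 : (((π t : Hs) : H) : G) ∈ N ⊓ H := by
        refine ⟨?_, ((π t : Hs) : H).2⟩
        have := mul_mem (inv_mem (hmem t)) ht
        simpa [mul_assoc] using this
      rw [hinf, Subgroup.mem_bot] at h1
      exact Subtype.ext (Subtype.ext h1)
  have hcT : Nat.card (inertia N θ) = Nat.card Hs * Nat.card N := by
    have h := Subgroup.card_eq_card_quotient_mul_card_subgroup π.ker
    rw [Nat.card_congr (QuotientGroup.quotientKerEquivOfSurjective π hπ).toEquiv, hker,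
      Nat.card_congr (Subgroup.subgroupOfEquivOfLe (le_inertia N hθ)).toEquiv] at h
    exact h
  have hcG : Nat.card G = Nat.card H * Nat.card N := by
    have h := Coprime.card_sup_mul_card_inf (K := N) (S := H)
      (fun x _ => by rw [Subgroup.normalizer_eq_top (H := N)]; trivial)
    rw [hsup, hinf, Subgroup.card_bot, mul_one, Subgroup.card_top] at h
    rw [h, mul_comm]
  rw [← (inertia N θ).index_mul_card, hcT, ← Hs.index_mul_card] at hcG
  exact Nat.eq_of_mul_eq_mul_right (Nat.mul_pos Nat.card_pos Nat.card_pos)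
    (hcG.trans (mul_assoc _ _ _))

include hsup hinf in
/-- A degree from an extendible character of the kernel and a character of the stabiliser. -/
theorem semidirect_degree (θ : IrrCharacter N) (Hs : Subgroup H)
    (hHs : ∀ h : H, h ∈ Hs ↔ conjBy N (θ : N → ℂ) (h : G) = θ)
    (hext : ∃ χ : inertia N (θ : N → ℂ) → ℂ, IsIrrCharacter _ χ ∧
      ∀ (n : N) (hn : (n : G) ∈ inertia N (θ : N → ℂ)), χ ⟨n, hn⟩ = (θ : N → ℂ) n)
    (ψ : IrrCharacter Hs) :
    ∃ χ : IrrCharacter G, charDegree (χ : G → ℂ) =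
      Hs.index * charDegree (θ : N → ℂ) * charDegree (ψ : Hs → ℂ) := by
  classical
  have hcl := isClassFunction_of_isCharacter (isCharacter_of_isIrr θ.2)
  have hNT := le_inertia N hcl
  have hidx := inertia_index N H hsup hinf (θ : N → ℂ) Hs hHs hcl
  obtain ⟨π, hπ, hmem⟩ := exists_proj N H hsup hinf (θ : N → ℂ) Hs hHs hcl
  obtain ⟨χe, hχe, hres⟩ := hext
  haveI : Fintype (inertia N (θ : N → ℂ)) := Fintype.ofFinite (inertia N (θ : N → ℂ))
  haveI : Fintype N := Fintype.ofFinite N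
  set N' := N.subgroupOf (inertia N (θ : N → ℂ)) with hN'
  haveI : Fintype N' := Fintype.ofFinite N'
  set eN : N' ≃* N := Subgroup.subgroupOfEquivOfLe hNT
  set θ' : N' → ℂ := fun n => (θ : N → ℂ) (eN n) with hθ'
  have hθ'i : IsIrrCharacter N' θ' := isIrrCharacter_comp_mulEquiv eN θ.2
  have hθ'inv : ∀ t : (inertia N (θ : N → ℂ)), conjBy N' θ' t = θ' := by
    intro t
    funext n
    exact congrFun ((mem_inertia N).mp t.2) (eN n)
  set β : (inertia N (θ : N → ℂ)) → ℂ := fun t => (ψ : Hs → ℂ) (π t) with hβ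
  have hβi : IsIrrCharacter (inertia N (θ : N → ℂ)) β := isIrrCharacter_comp hπ ψ.2
  have hπN : ∀ n : N', π n = 1 := by
    intro n
    have h1 : (((π n : Hs) : H) : G) ∈ N ⊓ H := by
      refine ⟨?_, ((π n : Hs) : H).2⟩
      have := mul_mem (inv_mem (hmem n)) (show ((n : (inertia N (θ : N → ℂ))) : G) ∈ N from n.2)
      simpa [mul_assoc] using this
    rw [hinf, Subgroup.mem_bot] at h1
    exact Subtype.ext (Subtype.ext h1)
  have hβres : (fun n : N' => β n) = (ψ : Hs → ℂ) 1 • fun _ : N' => (1 : ℂ) := by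
    funext n
    simp [hβ, hπN n]
  have hone : (fun _ : N' => (1 : ℂ)) * θ' = θ' := funext fun n => one_mul _
  have hbij := gallagher N' (φ := fun _ => 1) (θ := θ') isIrrCharacter_one (fun t => rfl) hθ'inv
    (by rw [hone]; exact hθ'i) hχe (fun n => hres (eN n) ((n : (inertia N (θ : N → ℂ))).2))
  have hprod := hbij.mapsTo (show β ∈ {b : (inertia N (θ : N → ℂ)) → ℂ | IsIrrCharacter (inertia N (θ : N → ℂ)) b ∧
      classInner (indFun N' fun _ => (1 : ℂ)) b ≠ 0} from ⟨hβi, by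
    rw [frobenius_reciprocity N' _ (isClassFunction_of_isCharacter (isCharacter_of_isIrr hβi)),
      hβres, classInner_smul_right, classInner_irr_self isIrrCharacter_one, mul_one]
    exact fun h => irr_degree_ne_zero ψ.2 ((map_eq_zero _).mp h)⟩)
  obtain ⟨hφi, -⟩ := hprod
  have hφres : resTo N (inertia N (θ : N → ℂ)) hNT (β * χe) = (ψ : Hs → ℂ) 1 • (θ : N → ℂ) := by
    funext n
    show β ⟨n, hNT n.2⟩ * χe ⟨n, hNT n.2⟩ = (ψ : Hs → ℂ) 1 * (θ : N → ℂ) n
    rw [hres n (hNT n.2)]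
    congr 1
    exact congrArg (ψ : Hs → ℂ) (hπN ⟨⟨n, hNT n.2⟩, n.2⟩)
  obtain ⟨hirr, -, -⟩ := clifford_correspondence N (inertia N (θ : N → ℂ)) θ.2 (fun g => mem_inertia N) hNT hφi (by
    rw [hφres, classInner_smul_left, classInner_irr_self θ.2, mul_one]
    exact irr_degree_ne_zero ψ.2)
  refine ⟨⟨_, hirr⟩, Extraspecial.charDegree_eq ?_⟩
  have h1 := congrFun hφres 1
  show indFun (inertia N (θ : N → ℂ)) (β * χe) 1 = _
  rw [indFun_one, hidx]
  obtain ⟨a, -, ha⟩ := exists_nat_degree_irr ψ.2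
  obtain ⟨b, -, hb⟩ := exists_nat_degree_irr θ.2
  rw [Extraspecial.charDegree_eq ha, Extraspecial.charDegree_eq hb]
  have h2 : resTo N (inertia N (θ : N → ℂ)) hNT (β * χe) 1 = (β * χe) 1 := rfl
  rw [h2, Pi.smul_apply, smul_eq_mul, ha, hb] at h1
  rw [h1]
  push_cast
  ring

include hsup hinf in
/-- Linear characters of an abelian kernel extend to their inertia group. -/
theorem linear_extends (μ : N →* ℂˣ) (Hs : Subgroup H)
    (hHs : ∀ h : H, h ∈ Hs ↔ conjBy N (fun n => (μ n : ℂ)) (h : G) = fun n => (μ n : ℂ)) :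
    ∃ χ : inertia N (fun n => (μ n : ℂ)) → ℂ, IsIrrCharacter _ χ ∧
      ∀ (n : N) (hn : (n : G) ∈ inertia N (fun n => (μ n : ℂ))), χ ⟨n, hn⟩ = μ n := by
  classical
  have hcl := isClassFunction_of_isCharacter (isCharacter_monoidHom μ)
  obtain ⟨π, -, hmem⟩ := exists_proj N H hsup hinf _ Hs hHs hcl
  let nn : inertia N (fun n => (μ n : ℂ)) → N := fun t => ⟨_, hmem t⟩
  let η : inertia N (fun n => (μ n : ℂ)) →* ℂˣ := MonoidHom.mk' (fun t => μ (nn t)) (fun a b => by
    have hinv := (mem_inertia N).mp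
      (show (((π a : Hs) : H) : G) ∈ inertia N (fun n => (μ n : ℂ)) from
        (mem_inertia N).mpr ((hHs _).mp (π a).2))
    have h1 : μ ⟨(((π a : Hs) : H) : G) * nn b * (((π a : Hs) : H) : G)⁻¹,
        Subgroup.Normal.conj_mem ‹N.Normal› _ (nn b).2 _⟩ = μ (nn b) :=
      Units.ext (congrFun hinv (nn b))
    rw [← h1, ← map_mul]
    refine congrArg μ (Subtype.ext ?_)
    simp only [nn, Subgroup.coe_mul, map_mul, mul_inv_rev]
    group)
  refine ⟨fun t => (η t : ℂ),
    isIrrCharacter_of_degree_one (isCharacter_monoidHom η) (by simp), fun n hn => ?_⟩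
  show ((μ (nn ⟨n, hn⟩) : ℂˣ) : ℂ) = μ n
  congr 2
  refine Subtype.ext ?_
  have h1 : (((π ⟨n, hn⟩ : Hs) : H) : G) ∈ N ⊓ H := by
    refine ⟨?_, ((π ⟨n, hn⟩ : Hs) : H).2⟩
    have := mul_mem (inv_mem (hmem ⟨n, hn⟩)) n.2
    simpa [mul_assoc] using this
  rw [hinf, Subgroup.mem_bot] at h1
  show (n : G) * (((π ⟨n, hn⟩ : Hs) : H) : G)⁻¹ = n
  rw [h1, inv_one, mul_one]

end Semidirect

end CfsgLib.ThreePrimes
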