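import Mathlib
import Cfsg.Agent.Lib.Hall.Basic
import Cfsg.Agent.Lib.ThreePrimes.Element

/-!
# Six dimensions over the field with two elements
-/

set_option autoImplicit false
set_option linter.style.haveILetI false
set_option linter.unusedSectionVars false

namespace CfsgLib.ThreePrimes

variable {q : ℕ} [hq : Fact q.Prime] {V : Type*} [AddCommGroup V] [Module (ZMod q) V] [Finite V]
  {G : Type*} [Group G] [Finite G] {ρ : G →* (V ≃ₗ[ZMod q] V)}

theorem dvd_of_pow_sub_one_dvd {a k n : ℕ} (ha : 2 ≤ a) (_hk : 0 < k)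
    (h : a ^ k - 1 ∣ a ^ n - 1) : k ∣ n := by
  have h1 := Nat.pow_sub_one_gcd_pow_sub_one a k n
  rw [Nat.gcd_eq_left h] at h1
  have hp : ∀ i, 1 ≤ a ^ i := fun i => Nat.one_le_pow _ _ (by omega)
  have h2 : a ^ k = a ^ Nat.gcd k n := by
    have := hp k; have := hp (Nat.gcd k n); omega
  exact (Nat.pow_right_injective ha h2) ▸ Nat.gcd_dvd_right k n

/-- In a group whose order is `7 ^ a * l ^ b` with small exponents, elements of order `7` and `l`
commute. -/
theorem exists_commuting_pair {T : Type*} [Group T] [Finite T] {l a b : ℕ} (hl : l.Prime)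
    (hl5 : l = 5 ∨ l = 31) (hT : Nat.card T = 7 ^ a * l ^ b) (ha : 0 < a) (hb : 0 < b)
    (ha2 : a ≤ 2) (hb1 : b ≤ 1) :
    ∃ g y : T, orderOf g = 7 ∧ orderOf y = l ∧ g * y = y * g := by
  haveI := Fact.mk hl
  haveI : Fact (Nat.Prime 7) := ⟨by norm_num⟩
  obtain ⟨g, hg⟩ := exists_prime_orderOf_dvd_card' (G := T) 7
    (hT ▸ dvd_mul_of_dvd_left (dvd_pow_self 7 ha.ne') _)
  obtain ⟨y, hy⟩ := exists_prime_orderOf_dvd_card' (G := T) l
    (hT ▸ dvd_mul_of_dvd_right (dvd_pow_self l hb.ne') _)
  refine ⟨g, y, hg, hy, ?_⟩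
  have hcop : (7 ^ a).Coprime (l ^ b) :=
    Nat.Coprime.pow _ _ (by rcases hl5 with rfl | rfl <;> norm_num)
  have h7card : ∀ P : Sylow 7 T, Nat.card P = 7 ^ a := by
    intro P
    obtain ⟨i, hi⟩ := IsPGroup.iff_card.mp P.2
    have h1 : 7 ^ i ∣ 7 ^ a := by
      have h2 := Subgroup.card_subgroup_dvd_card (P : Subgroup T)
      rw [hT, show Nat.card (P : Subgroup T) = 7 ^ i from hi] at h2
      exact (Nat.Coprime.pow _ _ (show Nat.Coprime 7 l by rcases hl5 with rfl | rfl <;> norm_num)).dvd_of_dvd_mul_right h2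
    have h2 : 7 ^ a ∣ Nat.card (P : Subgroup T) :=
      P.pow_dvd_card_of_pow_dvd_card (hT ▸ dvd_mul_right _ _)
    exact Nat.dvd_antisymm (hi ▸ h1) h2
  have hlcard : ∀ P : Sylow l T, Nat.card P = l ^ b := by
    intro P
    obtain ⟨i, hi⟩ := IsPGroup.iff_card.mp P.2
    have h1 : l ^ i ∣ l ^ b := by
      have h2 := Subgroup.card_subgroup_dvd_card (P : Subgroup T)
      rw [hT, show Nat.card (P : Subgroup T) = l ^ i from hi] at h2
      exact (Nat.Coprime.pow _ _ (show Nat.Coprime l 7 by rcases hl5 with rfl | rfl <;> norm_num)).dvd_of_dvd_mul_left h2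
    have h2 : l ^ b ∣ Nat.card (P : Subgroup T) :=
      P.pow_dvd_card_of_pow_dvd_card (hT ▸ dvd_mul_left _ _)
    exact Nat.dvd_antisymm (hi ▸ h1) h2
  obtain ⟨P, hP⟩ := (IsPGroup.of_card (n := 1) (by rw [Nat.card_zpowers, hg, pow_one]) :
    IsPGroup 7 (Subgroup.zpowers g)).exists_le_sylow
  obtain ⟨L, hL⟩ := (IsPGroup.of_card (n := 1) (by rw [Nat.card_zpowers, hy, pow_one]) :
    IsPGroup l (Subgroup.zpowers y)).exists_le_sylow
  have hPn : (P : Subgroup T).Normal := by
    have h1 := card_sylow_modEq_one 7 T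
    have h2 := P.card_dvd_index
    have hidx : (P : Subgroup T).index = l ^ b := by
      have h3 := (P : Subgroup T).card_mul_index
      rw [h7card P, hT] at h3
      exact Nat.eq_of_mul_eq_mul_left (by positivity) h3
    rw [hidx] at h2
    have h4 : Nat.card (Sylow 7 T) = 1 := by
      obtain ⟨i, hi, he⟩ := (Nat.dvd_prime_pow hl).mp h2
      rw [he] at h1 ⊢
      interval_cases b
      interval_cases i
      · simp
      · rcases hl5 with rfl | rfl <;> exact absurd h1 (by decide)
    haveI : Subsingleton (Sylow 7 T) := (Nat.card_eq_one_iff_unique.mp h4).1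
    exact Sylow.normal_of_subsingleton P
  have hLn : (L : Subgroup T).Normal := by
    have h1 := card_sylow_modEq_one l T
    have h2 := L.card_dvd_index
    have hidx : (L : Subgroup T).index = 7 ^ a := by
      have h3 := (L : Subgroup T).card_mul_index
      rw [hlcard L, hT, mul_comm (7 ^ a)] at h3
      exact Nat.eq_of_mul_eq_mul_left (Nat.pos_of_ne_zero (pow_ne_zero _ hl.ne_zero)) h3
    rw [hidx] at h2
    have h4 : Nat.card (Sylow l T) = 1 := by
      obtain ⟨i, hi, he⟩ := (Nat.dvd_prime_pow (by norm_num : (7 : ℕ).Prime)).mp h2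
      rw [he] at h1 ⊢
      have hi2 : i ≤ 2 := hi.trans ha2
      interval_cases i
      · simp
      · rcases hl5 with rfl | rfl <;> exact absurd h1 (by decide)
      · rcases hl5 with rfl | rfl <;> exact absurd h1 (by decide)
    haveI : Subsingleton (Sylow l T) := (Nat.card_eq_one_iff_unique.mp h4).1
    exact Sylow.normal_of_subsingleton L
  refine Subgroup.commute_of_normal_of_disjoint _ _ hPn hLn ?_ g y
    (hP (Subgroup.mem_zpowers g)) (hL (Subgroup.mem_zpowers y))
  refine Subgroup.disjoint_of_coprime_natCard ?_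
  rw [h7card P, hlcard L]
  exact hcop

set_option maxHeartbeats 800000 in
/-- The exceptional dimension. -/
theorem two_six_false (hρ : Function.Injective ρ) [Group.IsSolvable G] [Nontrivial V] (hq2 : q = 2)
    (hV : Nat.card V = q ^ 6) {p r : ℕ} (hp : p.Prime) (hr : r.Prime) (hpr : p ≠ r)
    (hgp : Good ρ p) (hgr : Good ρ r)
    (hmp : ∀ S : Sylow p G, fixSp ρ (S : Subgroup G) ≠ ⊤)
    (hmr : ∀ S : Sylow r G, fixSp ρ (S : Subgroup G) ≠ ⊤) : False := by
  classical
  subst hq2
  -- the odd one of the two primes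
  have main : ∀ l : ℕ, l.Prime → l ≠ 2 → Good ρ l →
      (∀ S : Sylow l G, fixSp ρ (S : Subgroup G) ≠ ⊤) → False := by
    intro l hl hl2 hg hm
    haveI := Fact.mk hl
    obtain ⟨k, hk0, hk6, hfix, hcount⟩ := good_data hg hm hV
    have hkd : k ∣ 6 := dvd_of_pow_sub_one_dvd le_rfl hk0 (Dvd.intro_left _ hcount)
    have hmod := card_sylow_modEq_one l G
    replace hmod := (Nat.modEq_iff_dvd' Nat.card_pos).mp hmod.symm
    have hnG : Nat.card (Sylow l G) ∣ Nat.card G :=
      (default : Sylow l G).card_dvd_index.trans (Subgroup.index_dvd_card _)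
    have hcases : (l = 31 ∧ k = 1 ∨ l = 5 ∧ k = 2) ∧ 7 ∣ Nat.card (Sylow l G) := by
      generalize hN : Nat.card (Sylow l G) = N at hcount hmod hnG
      interval_cases k <;> norm_num at hkd <;> norm_num at hcount
      · obtain rfl : N = 63 := by omega
        norm_num at hmod
        have h62 : l ∣ 2 * 31 := hmod
        rcases hl.dvd_mul.mp h62 with h | h
        · exact absurd ((Nat.prime_dvd_prime_iff_eq hl Nat.prime_two).mp h) hl2
        · exact ⟨Or.inl ⟨(Nat.prime_dvd_prime_iff_eq hl (by norm_num)).mp h, rfl⟩, by norm_num⟩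
      · obtain rfl : N = 21 := by omega
        norm_num at hmod
        have h20 : l ∣ 2 ^ 2 * 5 := hmod
        rcases hl.dvd_mul.mp h20 with h | h
        · exact absurd ((Nat.prime_dvd_prime_iff_eq hl Nat.prime_two).mp (hl.dvd_of_dvd_pow h)) hl2
        · exact ⟨Or.inr ⟨(Nat.prime_dvd_prime_iff_eq hl (by norm_num)).mp h, rfl⟩, by norm_num⟩
      · obtain rfl : N = 9 := by omega
        norm_num at hmod
        have h8 : l ∣ 2 ^ 3 := hmod
        exact absurd ((Nat.prime_dvd_prime_iff_eq hl Nat.prime_two).mp (hl.dvd_of_dvd_pow h8)) hl2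
    obtain ⟨hlk, h7n⟩ := hcases
    have h7 : 7 ∣ Nat.card G := h7n.trans hnG
    have hlG : l ∣ Nat.card G := by
      by_contra hnd
      obtain ⟨S⟩ : Nonempty (Sylow l G) := inferInstance
      have : (S : Subgroup G) = ⊥ := by
        rw [← Subgroup.card_eq_one, S.card_eq_multiplicity, Nat.factorization_eq_zero_of_not_dvd hnd,
          pow_zero]
      exact hm S (eq_top_iff.mpr fun v _ g hg => by
        rw [this, Subgroup.mem_bot] at hg
        rw [hg, map_one]; rfl)
    have hl7 : l ≠ 7 := by rcases hlk with ⟨rfl, -⟩ | ⟨rfl, -⟩ <;> norm_num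
    -- the order of the group
    have hGdvd : Nat.card G ∣ 20158709760 := by
      haveI : Module.Finite (ZMod 2) V := Module.Finite.of_finite
      have hn : Module.finrank (ZMod 2) V = 6 := by
        have h := Module.natCard_eq_pow_finrank (K := ZMod 2) (V := V)
        rw [hV, Nat.card_zmod] at h
        exact (Nat.pow_right_injective le_rfl h).symm
      let e : V ≃ₗ[ZMod 2] (Fin 6 → ZMod 2) := (Module.finBasisOfFinrankEq (ZMod 2) V hn).equivFun
      have h1 : Nat.card G ∣ Nat.card (V ≃ₗ[ZMod 2] V) := Subgroup.card_dvd_of_injective ρ hρ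
      have h2 : Nat.card (V ≃ₗ[ZMod 2] V) = Nat.card (GL (Fin 6) (ZMod 2)) :=
        Nat.card_congr ((⟨fun f => e.symm.trans (f.trans e), fun f => e.trans (f.trans e.symm),
          fun f => by ext v; simp, fun f => by ext v; simp⟩ :
            (V ≃ₗ[ZMod 2] V) ≃ ((Fin 6 → ZMod 2) ≃ₗ[ZMod 2] (Fin 6 → ZMod 2))).trans
          ((LinearMap.GeneralLinearGroup.generalLinearEquiv _ _).symm.toEquiv.trans
            Matrix.GeneralLinearGroup.toLin.symm.toEquiv))
      rw [h2, Matrix.card_GL_field] at h1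
      simpa [Fin.prod_univ_six] using h1
    -- the Hall subgroup
    obtain ⟨T, hT, a, b, ha, hb, ha2, hb1, hTcard⟩ :
        ∃ T : Subgroup G, True ∧ ∃ a b, 0 < a ∧ 0 < b ∧ a ≤ 2 ∧ b ≤ 1 ∧
          Nat.card T = 7 ^ a * l ^ b := by
      set a := (Nat.card G).factorization 7 with hadef
      set b := (Nat.card G).factorization l with hbdef
      have h7p : (7 : ℕ).Prime := by norm_num
      have hda : 7 ^ a ∣ Nat.card G := Nat.ordProj_dvd _ _
      have hdb : l ^ b ∣ Nat.card G := Nat.ordProj_dvd _ _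
      have hcop : (7 ^ a).Coprime (l ^ b) :=
        Nat.Coprime.pow _ _ ((Nat.coprime_primes h7p hl).mpr (Ne.symm hl7))
      obtain ⟨c, hc⟩ := hcop.mul_dvd_of_dvd_of_dvd hda hdb
      have hc0 : c ≠ 0 := fun h => Nat.card_pos.ne' (by rw [hc, h, mul_zero])
      have hnot : ∀ s : ℕ, s.Prime → s ^ (Nat.card G).factorization s ∣ 7 ^ a * l ^ b → ¬ s ∣ c := by
        intro s hs hsd hsc
        have h1 : s ^ ((Nat.card G).factorization s + 1) ∣ Nat.card G := by
          rw [pow_succ]; exact (Nat.mul_dvd_mul hsd hsc).trans hc.symm.dvd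
        exact Nat.pow_succ_factorization_not_dvd Nat.card_pos.ne' hs h1
      have hcc : (7 ^ a * l ^ b).Coprime c := Nat.Coprime.mul_left
        ((h7p.coprime_iff_not_dvd.mpr (hnot 7 h7p (dvd_mul_right _ _))).pow_left a)
        ((hl.coprime_iff_not_dvd.mpr (hnot l hl (dvd_mul_left _ _))).pow_left b)
      obtain ⟨T, hT⟩ := Hall.exists_hall hc hcc
      refine ⟨T, trivial, a, b, h7p.factorization_pos_of_dvd Nat.card_pos.ne' h7,
        hl.factorization_pos_of_dvd Nat.card_pos.ne' hlG, ?_, ?_, hT⟩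
      · by_contra h3
        have := ((pow_dvd_pow 7 (show 3 ≤ a by omega)).trans hda).trans hGdvd
        norm_num at this
      · by_contra h3
        have := ((pow_dvd_pow l (show 2 ≤ b by omega)).trans hdb).trans hGdvd
        rcases hlk with ⟨rfl, -⟩ | ⟨rfl, -⟩ <;> norm_num at this
    obtain ⟨g', y', hg', hy', hcomm'⟩ := exists_commuting_pair hl
      (by rcases hlk with ⟨rfl, -⟩ | ⟨rfl, -⟩ <;> simp) hTcard ha hb ha2 hb1
    set g : G := g'.1
    set y : G := y'.1
    have hg : orderOf g = 7 := by rw [Subgroup.orderOf_coe]; exact hg'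
    have hy : orderOf y = l := by rw [Subgroup.orderOf_coe]; exact hy'
    have hcomm : g * y = y * g := congrArg Subtype.val hcomm'
    haveI : Fact (Nat.Prime 7) := ⟨by norm_num⟩
    have hg1 : g ^ 7 = 1 := by rw [← hg]; exact pow_orderOf_eq_one g
    have hy1 : y ^ l = 1 := by rw [← hy]; exact pow_orderOf_eq_one y
    -- the fixed space of `y` is that of a Sylow subgroup
    obtain ⟨L, hL⟩ := (IsPGroup.of_card (n := 1) (by rw [Nat.card_zpowers, hy, pow_one]) :
      IsPGroup l (Subgroup.zpowers y)).exists_le_sylow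
    have hLy : (L : Subgroup G) = Subgroup.zpowers y := by
      refine (Subgroup.eq_of_le_of_card_ge hL ?_).symm
      rw [Nat.card_zpowers, hy, L.card_eq_multiplicity]
      refine Nat.le_of_dvd hl.pos ?_
      by_contra hnd
      have h2 : 2 ≤ (Nat.card G).factorization l := by
        by_contra h2
        exact hnd ((pow_dvd_pow l (show (Nat.card G).factorization l ≤ 1 by omega)).trans (by rw [pow_one]))
      have := ((pow_dvd_pow l h2).trans (Nat.ordProj_dvd _ _)).trans hGdvd
      rcases hlk with ⟨rfl, -⟩ | ⟨rfl, -⟩ <;> norm_num at this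
    let F : G → Submodule (ZMod 2) V := fun x => fixSp ρ (Subgroup.zpowers x)
    have hFmem : ∀ (x : G) (v : V), v ∈ F x ↔ ρ x v = v := by
      intro x v
      refine ⟨fun h => h x (Subgroup.mem_zpowers x), fun h z hz => ?_⟩
      obtain ⟨i, rfl⟩ := (isOfFinOrder_of_finite x).mem_powers_iff_mem_zpowers.mpr hz
      show ρ (x ^ i) v = v
      clear hz
      induction i with
      | zero => simp
      | succ i ih => rw [pow_succ', map_mul, LinearEquiv.mul_apply, ih, h]
    have hFy : Nat.card (F y) = 2 ^ k := by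
      show Nat.card (fixSp ρ (Subgroup.zpowers y)) = _
      rw [← hLy]; exact hfix L
    have hinv : ∀ a b : G, a * b = b * a → ∀ v ∈ F b, ρ a v ∈ F b := by
      intro a b hab v hv
      rw [hFmem] at hv ⊢
      rw [← LinearEquiv.mul_apply, ← map_mul, ← hab, map_mul, LinearEquiv.mul_apply, hv]
    have h1 := card_fix_modEq (ρ := ρ) hg1 (F y) (hinv g y hcomm)
    -- `g` fixes the fixed space of `y`
    have hall : ∀ v ∈ F y, ρ g v = v := by
      have hle : Nat.card {w : F y // ρ g w = w} ≤ Nat.card (F y) :=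
        Nat.card_le_card_of_injective _ Subtype.val_injective
      have heq : Nat.card {w : F y // ρ g w = w} = Nat.card (F y) := by
        rw [hFy] at hle h1 ⊢
        have hk4 : 2 ^ k ≤ 4 := by rcases hlk with ⟨-, rfl⟩ | ⟨-, rfl⟩ <;> norm_num
        unfold Nat.ModEq at h1
        omega
      intro v hv
      obtain ⟨⟨w, hw⟩, he⟩ := ((Nat.bijective_iff_injective_and_card _).mpr
        ⟨Subtype.val_injective, heq⟩).2 (⟨v, hv⟩ : F y)
      obtain rfl : w = ⟨v, hv⟩ := he
      exact hw
    -- the fixed space of `g`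
    haveI : Module.Finite (ZMod 2) V := Module.Finite.of_finite
    have h2 := card_fix_modEq (ρ := ρ) hy1 (F g) (hinv y g hcomm.symm)
    have hsame : Nat.card {w : F g // ρ y w = w} = 2 ^ k := by
      rw [← hFy]
      exact Nat.card_congr ⟨fun w => ⟨w.1.1, (hFmem y _).mpr w.2⟩,
        fun v => ⟨⟨v.1, (hFmem g _).mpr (hall v.1 v.2)⟩, (hFmem y _).mp v.2⟩,
        fun w => rfl, fun v => rfl⟩
    rw [hsame, card_pow_finrank] at h2
    have h3 := card_fix_modEq (ρ := ρ) hg1 (⊤ : Submodule (ZMod 2) V) (fun w _ => Submodule.mem_top)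
    have e3 : Nat.card {w : (⊤ : Submodule (ZMod 2) V) // ρ g w = w} =
        2 ^ Module.finrank (ZMod 2) (F g) := by
      rw [← card_pow_finrank]
      exact Nat.card_congr ⟨fun w => ⟨w.1.1, (hFmem g _).mpr w.2⟩,
        fun v => ⟨⟨v.1, Submodule.mem_top⟩, (hFmem g _).mp v.2⟩, fun w => rfl, fun v => rfl⟩
    have e4 : Nat.card (⊤ : Submodule (ZMod 2) V) = 2 ^ 6 := by
      rw [Nat.card_congr Submodule.topEquiv.toEquiv, hV]
    rw [e3, e4] at h3
    have hjlt : Module.finrank (ZMod 2) (F g) < 6 := by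
      have hn : Module.finrank (ZMod 2) V = 6 := by
        have h := Module.natCard_eq_pow_finrank (K := ZMod 2) (V := V)
        rw [hV, Nat.card_zmod] at h
        exact (Nat.pow_right_injective le_rfl h).symm
      rw [← hn]
      refine Submodule.finrank_lt fun htop => ?_
      have : g = 1 := hρ (LinearEquiv.ext fun v => by
        rw [map_one]; exact (hFmem g v).mp (htop ▸ Submodule.mem_top))
      rw [this, orderOf_one] at hg
      norm_num at hg
    generalize Module.finrank (ZMod 2) (F g) = j at h2 h3 hjlt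
    unfold Nat.ModEq at h2 h3
    rcases hlk with ⟨rfl, rfl⟩ | ⟨rfl, rfl⟩ <;> interval_cases j <;> norm_num at h3 <;> norm_num at h2
  by_cases hp2 : p = 2
  · exact main r hr (by omega) hgr hmr
  · exact main p hp hp2 hgp hmp

end CfsgLib.ThreePrimes
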