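import Cfsg.Agent.Lib.ThreePrimes.Basic
import Cfsg.Agent.Lib.ThreePrimes.Small
import Cfsg.Agent.Lib.NumberTheory.Zsigmondy

/-!
# Linear groups with two primes fixing every vector
-/

set_option autoImplicit false
set_option linter.style.haveILetI false
set_option linter.unusedSectionVars false
set_option linter.unusedSimpArgs false

open scoped commutatorElement

namespace CfsgLib.ThreePrimes

open Cfsg CfsgLib.TransLinear

variable {q : ℕ} [hq : Fact q.Prime] {V : Type*} [AddCommGroup V] [Module (ZMod q) V] [Finite V]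
  [Nontrivial V] {G : Type*} [Group G] [Finite G] {ρ : G →* (V ≃ₗ[ZMod q] V)}

theorem core_bot (hρ : Function.Injective ρ) {l : ℕ} [Fact l.Prime] (hg : Good ρ l)
    (N : Subgroup G) [N.Normal] (hN : IsPGroup l N) : N = ⊥ := by
  refine (Subgroup.eq_bot_iff_forall N).mpr fun x hx => hρ (LinearEquiv.ext fun v => ?_)
  rw [map_one]
  show ρ x v = v
  by_cases hv : v = 0
  · rw [hv, map_zero]
  obtain ⟨S, hS, -⟩ := hg v hv
  refine hS x ?_
  rw [← S.3 (hN.to_sup_of_normal_left S.2) le_sup_right]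
  exact Subgroup.mem_sup_left hx

theorem not_dvd_nilpotent (hρ : Function.Injective ρ) {l : ℕ} [Fact l.Prime] (hg : Good ρ l)
    (N : Subgroup G) [N.Normal] [Group.IsNilpotent N] : ¬ l ∣ Nat.card N := by
  intro hd
  obtain ⟨S⟩ : Nonempty (Sylow l N) := inferInstance
  haveI : (S : Subgroup N).Normal := S.normal_of_normalizerCondition Group.normalizerCondition_of_isNilpotent
  haveI : (S : Subgroup N).Characteristic := S.characteristic_of_normal inferInstance
  have h := core_bot hρ hg ((S : Subgroup N).map N.subtype) (S.2.map _)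
  exact S.ne_bot_of_dvd_card hd ((Subgroup.map_eq_bot_iff_of_injective _ N.subtype_injective).mp h)

theorem not_dvd_fix (hρ : Function.Injective ρ) {l : ℕ} [Fact l.Prime] (hl : l ∣ Nat.card G)
    (S : Sylow l G) : fixSp ρ (S : Subgroup G) ≠ ⊤ := by
  intro h
  refine S.ne_bot_of_dvd_card hl ((Subgroup.eq_bot_iff_forall _).mpr fun x hx => hρ ?_)
  refine LinearEquiv.ext fun v => ?_
  rw [map_one]
  exact (h ▸ Submodule.mem_top : v ∈ fixSp ρ (S : Subgroup G)) x hx

/-- Sylow subgroups of `G` inside a normal subgroup of index prime to `l`. -/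
theorem sylow_le_normal {l : ℕ} [Fact l.Prime] (M : Subgroup G) [M.Normal] (h : ¬ l ∣ M.index)
    (S : Sylow l G) : (S : Subgroup G) ≤ M := by
  intro x hx
  rw [← QuotientGroup.eq_one_iff, ← orderOf_eq_one_iff]
  obtain ⟨k, hk⟩ := S.2 ⟨x, hx⟩
  have h1 : orderOf (x : G ⧸ M) ∣ l ^ k := orderOf_dvd_of_pow_eq_one (by
    rw [← QuotientGroup.mk_pow, show x ^ l ^ k = 1 from congrArg Subtype.val hk]; rfl)
  exact Nat.eq_one_of_dvd_coprimes (((Fact.out : l.Prime).coprime_iff_not_dvd.mpr h).pow_left k) h1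
    (orderOf_dvd_natCard _)

/-- Few Sylow subgroups for the prime three. -/
theorem three_sylow_bound (C M : Subgroup G) [C.Normal] [M.Normal] (hCM : C ≤ M)
    (hMC : M ≤ Subgroup.centralizer (C : Set G)) (hidx : ¬ 3 ∣ M.index) (h3M : 3 ∣ Nat.card M)
    (hC : ¬ 3 ∣ Nat.card C) (hM : Nat.card M ∣ 24 * Nat.card C) : Nat.card (Sylow 3 G) ≤ 4 := by
  classical
  haveI : Fact (Nat.Prime 3) := ⟨Nat.prime_three⟩
  have hle : ∀ S : Sylow 3 G, (S : Subgroup G) ≤ M := sylow_le_normal M hidx
  have h1 : Nat.card (Sylow 3 G) ≤ Nat.card (Sylow 3 M) :=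
    Nat.card_le_card_of_injective (fun S => S.subtype (hle S)) fun S T h =>
      Sylow.subtype_injective h
  refine h1.trans ?_
  obtain ⟨R⟩ : Nonempty (Sylow 3 M) := inferInstance
  set N := Subgroup.normalizer ((R : Subgroup M) : Set M) with hN
  have hCN : C.subgroupOf M ≤ N := by
    intro c hc
    rw [Subgroup.mem_normalizer_iff]
    intro s
    have hcs : c * s = s * c := Subtype.ext (hMC s.2 c hc)
    rw [hcs, mul_inv_cancel_right]
  have hd : 3 * Nat.card C ∣ Nat.card N := by
    refine (Nat.prime_three.coprime_iff_not_dvd.mpr hC).mul_dvd_of_dvd_of_dvd ?_ ?_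
    · refine dvd_trans ?_ (Subgroup.card_dvd_of_le (Subgroup.le_normalizer (H := (R : Subgroup M))))
      exact dvd_trans (by rw [pow_one]) (R.pow_dvd_card_of_pow_dvd_card (n := 1) (by rwa [pow_one]))
    · rw [← Nat.card_congr (Subgroup.subgroupOfEquivOfLe hCM).toEquiv]
      exact Subgroup.card_dvd_of_le hCN
  have h2 : Nat.card (Sylow 3 M) * (3 * Nat.card C) ∣ 8 * (3 * Nat.card C) := by
    rw [R.card_eq_index_normalizer]
    show N.index * _ ∣ _
    refine (Nat.mul_dvd_mul_left _ hd).trans ?_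
    rw [N.index_mul_card, show 8 * (3 * Nat.card C) = 24 * Nat.card C by ring]
    exact hM
  have h8 : Nat.card (Sylow 3 M) ∣ 2 ^ 3 :=
    Nat.dvd_of_mul_dvd_mul_right (Nat.mul_pos (by norm_num) Nat.card_pos) h2
  obtain ⟨i, hi, he⟩ := (Nat.dvd_prime_pow Nat.prime_two).mp h8
  have hmod := card_sylow_modEq_one 3 M
  rw [he] at hmod ⊢
  interval_cases i <;> simp_all (config := { decide := true }) [Nat.ModEq]

set_option maxHeartbeats 1000000 in
/-- No solvable linear group has the property. -/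
theorem linear_false (hρ : Function.Injective ρ) [Group.IsSolvable G] {p r : ℕ} (hp : p.Prime)
    (hr : r.Prime) (hpr : p ≠ r) (hpG : p ∣ Nat.card G) (hrG : r ∣ Nat.card G) (hgp : Good ρ p)
    (hgr : Good ρ r) (hpair : NoPair G p r) : False := by
  classical
  haveI := Fact.mk hp
  haveI := Fact.mk hr
  haveI : Module.Finite (ZMod q) V := Module.Finite.of_finite
  obtain ⟨n, hV⟩ : ∃ n, Nat.card V = q ^ n := ⟨Module.finrank (ZMod q) V, by
    rw [Module.natCard_eq_pow_finrank (K := ZMod q), Nat.card_zmod]⟩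
  have hmp : ∀ S : Sylow p G, fixSp ρ (S : Subgroup G) ≠ ⊤ := not_dvd_fix hρ hpG
  have hmr : ∀ S : Sylow r G, fixSp ρ (S : Subgroup G) ≠ ⊤ := not_dvd_fix hρ hrG
  obtain ⟨kp, hkp0, hkpn, -, hcp⟩ := good_data hgp hmp hV
  obtain ⟨kr, hkr0, hkrn, -, hcr⟩ := good_data hgr hmr hV
  have hq1 : 1 < q := hq.out.one_lt
  have hn2 : 2 ≤ n := by omega
  -- two dimensions
  by_cases hn : n = 2
  · subst hn
    have heq : ∀ l : ℕ, l.Prime → ∀ k, 0 < k → k < 2 →
        Nat.card (Sylow l G) * (q ^ k - 1) = q ^ 2 - 1 → l = q := by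
      intro l hl k hk0 hk2 hc
      haveI := Fact.mk hl
      obtain rfl : k = 1 := by omega
      rw [pow_one, show q ^ 2 - 1 = (q + 1) * (q - 1) by
        rw [← Nat.sq_sub_sq, one_pow]] at hc
      have hN := Nat.eq_of_mul_eq_mul_right (by omega) hc
      have hmod := (Nat.modEq_iff_dvd' Nat.card_pos).mp (card_sylow_modEq_one l G).symm
      rw [hN, Nat.add_sub_cancel] at hmod
      exact (Nat.prime_dvd_prime_iff_eq hl hq.out).mp hmod
    exact hpr ((heq p hp kp hkp0 hkpn hcp).trans (heq r hr kr hkr0 hkrn hcr).symm)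
  by_cases h26 : q = 2 ∧ n = 6
  · obtain ⟨h2, rfl⟩ := h26
    exact two_six_false hρ h2 hV hp hr hpr hgp hgr hmp hmr
  have hn3 : 3 ≤ n := by omega
  -- the primitive prime
  obtain ⟨z, hz, hzn, hzprim⟩ := NumberTheory.exists_primitive_prime hq1 (show 1 < n by omega) h26
    (by omega)
  haveI := Fact.mk hz
  have hnz : n < z := by
    have hpow := (NumberTheory.dvd_pow_sub_one_iff hq.out.pos).mp hzn
    have hne : (q : ZMod z) ≠ 0 := by
      intro h
      rw [h, zero_pow (by omega)] at hpow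
      exact zero_ne_one hpow
    have hk := orderOf_dvd_of_pow_eq_one hpow
    have hlt := NumberTheory.order_lt hne
    have hkn : orderOf (q : ZMod z) = n := by
      by_contra hne'
      have hle := Nat.le_of_dvd (by omega) hk
      refine hzprim _ (orderOf_pos_iff.mpr ?_) (by omega)
        ((NumberTheory.dvd_pow_sub_one_iff hq.out.pos).mpr (pow_orderOf_eq_one _))
      exact isOfFinOrder_iff_pow_eq_one.mpr ⟨n, by omega, hpow⟩
    omega
  have hzG : z ∣ Nat.card G := by
    rw [← hcp] at hzn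
    rcases hz.dvd_mul.mp hzn with h | h
    · exact h.trans ((default : Sylow p G).card_dvd_index.trans (Subgroup.index_dvd_card _))
    · exact absurd h (hzprim kp hkp0 hkpn)
  obtain ⟨h, ho⟩ := exists_prime_orderOf_dvd_card' (G := G) z hzG
  have hdom : Dom ρ :=
    dom_of_element hV hnz ho (irreducible_of_primitive hρ hV hzn hzprim ho)
  obtain ⟨C, -, hCmax⟩ := Finite.exists_le_maximal
    (p := fun K : Subgroup G => K.Normal ∧ IsCyclic K) (a := ⊥) ⟨inferInstance, inferInstance⟩
  haveI : C.Normal := hCmax.prop.1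
  haveI : IsCyclic C := hCmax.prop.2
  have hmax : ∀ E : Subgroup G, E.Normal → C ≤ E → IsCyclic E → E = C := fun E hn hle hc =>
    le_antisymm (hCmax.2 ⟨hn, hc⟩ hle) hle
  have hCcomm : ∀ x ∈ C, ∀ y ∈ C, x * y = y * x := fun x hx y hy =>
    congrArg Subtype.val (mul_comm' (⟨x, hx⟩ : C) ⟨y, hy⟩)
  have hCc : C ≤ Subgroup.centralizer (C : Set G) := fun x hx y hy => hCcomm y hy x hx
  haveI : Group.IsNilpotent C := by
    letI : CommGroup C := IsCyclic.commGroup
    infer_instance
  have hpC : ¬ p ∣ Nat.card C := not_dvd_nilpotent hρ hgp C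
  have hrC : ¬ r ∣ Nat.card C := not_dvd_nilpotent hρ hgr C
  have hidx : ∀ l : ℕ, l.Prime → l ∣ Nat.card G → ¬ l ∣ Nat.card (Subgroup.centralizer (C : Set G)) →
      l ∣ (Subgroup.centralizer (C : Set G)).index := by
    intro l hl hlG hlM
    rw [← (Subgroup.centralizer (C : Set G)).card_mul_index] at hlG
    exact (hl.dvd_mul.mp hlG).resolve_left hlM
  by_cases hself : Subgroup.centralizer (C : Set G) ≤ C
  · have hCeq : Subgroup.centralizer (C : Set G) = C := le_antisymm hself hCc
    refine not_both_dvd_index hpair C (hidx p hp hpG ?_) (hidx r hr hrG ?_) <;>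
      rwa [hCeq]
  obtain ⟨d, t, hd, ht, hVdt, hAq, hCd, ⟨f, hf⟩, hone⟩ := exists_field_data ρ hρ hdom C hCcomm
  have hndt : n = d * t := Nat.pow_right_injective hq.out.two_le (hV.symm.trans hVdt)
  obtain ⟨E, hEn, hCE, hEne, hEM, hder, hX⟩ := exists_class_two hρ hdom C hmax hself
  haveI := hEn
  have hrad : E ⊓ Subgroup.centralizer (E : Set G) ≤ C := fun x hx => hX ⟨hEM hx.1, hx.2⟩
  have hA2 := relIndex_le_sq hρ hdom C E hCcomm hEM hder hrad hd hAq hVdt
  have ht2 : 2 ≤ t := by
    by_contra h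
    apply hEne
    intro x hx
    exact hrad ⟨hx, fun y hy => (hone (by omega)).2.1 y (hEM hy) x (hEM hx)⟩
  obtain ⟨hnn, hcomm, hrest⟩ := exists_pairing C E hder (fun c hc x hx => (hEM hx) c hc) hCE hrad
  haveI := hnn
  letI : CommGroup (↥E ⧸ C.subgroupOf E) :=
    { (inferInstance : Group (↥E ⧸ C.subgroupOf E)) with mul_comm := hcomm }
  obtain ⟨j, hj, ω, hω, hval⟩ := hrest
  have hcardQ : Nat.card (↥E ⧸ C.subgroupOf E) = C.relIndex E := rfl
  have hQ1 : 1 < Nat.card (↥E ⧸ C.subgroupOf E) := by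
    rw [hcardQ]
    rcases Nat.lt_or_ge 1 (C.relIndex E) with h | h
    · exact h
    · exfalso
      have : C.relIndex E = 1 := by
        have hne : C.relIndex E ≠ 0 := Subgroup.index_ne_zero_of_finite
        omega
      exact hEne (Subgroup.relIndex_eq_one.mp this)
  have hQsq : IsSquare (Nat.card (↥E ⧸ C.subgroupOf E)) := by
    have := ω.isSquare_card ⊤ hω
    rwa [Subgroup.card_top] at this
  haveI : Group.IsNilpotent E := by
    refine Subgroup.isNilpotent_of_ker_le_center (QuotientGroup.mk' (C.subgroupOf E)) ?_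
    rw [QuotientGroup.ker_mk']
    intro c hc
    rw [Subgroup.mem_center_iff]
    exact fun g => Subtype.ext ((hEM g.2) c hc).symm
  have hpE : ¬ p ∣ Nat.card E := not_dvd_nilpotent hρ hgp E
  have hrE : ¬ r ∣ Nat.card E := not_dvd_nilpotent hρ hgr E
  -- the action on `E / C`
  have hinv : ∀ (g : G), ∀ x ∈ C.subgroupOf E, (MulAut.conjNormal g : MulAut E) x ∈ C.subgroupOf E := by
    intro g x hx
    rw [Subgroup.mem_subgroupOf, MulAut.conjNormal_apply]
    exact (inferInstance : C.Normal).conj_mem _ hx g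
  let φ : G →* MulAut (↥E ⧸ C.subgroupOf E) := MonoidHom.mk'
    (fun g => QuotientGroup.congr (C.subgroupOf E) (C.subgroupOf E) (MulAut.conjNormal g) (by
      refine le_antisymm (Subgroup.map_le_iff_le_comap.mpr fun x hx => hinv g x hx) fun x hx => ?_
      refine ⟨MulAut.conjNormal g⁻¹ x, hinv g⁻¹ x hx, ?_⟩
      simp [mul_assoc]))
    (fun g h => MulEquiv.ext fun a => by
      obtain ⟨x, rfl⟩ := QuotientGroup.mk_surjective a
      simp [map_mul])
  have hφ : ∀ (g : G) (x : E), φ g (QuotientGroup.mk x) = QuotientGroup.mk (MulAut.conjNormal g x) :=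
    fun g x => rfl
  -- kernel inside `C_G(C)`
  have hker : ∀ g ∈ Subgroup.centralizer (C : Set G), φ g = 1 → g ∈ E := by
    intro g hg h1
    have hmem : ∀ x : E, ⁅g, (x : G)⁆ ∈ C := by
      intro x
      have h2 := MulEquiv.congr_fun h1 (QuotientGroup.mk x)
      rw [hφ, MulAut.one_apply, QuotientGroup.eq, Subgroup.mem_subgroupOf] at h2
      simp only [Subgroup.coe_mul, Subgroup.coe_inv, MulAut.conjNormal_apply] at h2
      have h3 := (inferInstance : C.Normal).conj_mem _ (inv_mem h2) x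
      rw [commutatorElement_def]
      simpa [mul_assoc] using h3
    -- the homomorphism `x ↦ ⁅g, x⁆`
    let χ0 : E →* ℂˣ := MonoidHom.mk' (fun x => j ⟨_, hmem x⟩) fun x y => by
      rw [← map_mul]
      refine congrArg j (Subtype.ext ?_)
      have h := (hEM x.2) _ (hmem y)
      show ⁅g, (x : G) * y⁆ = ⁅g, (x : G)⁆ * ⁅g, (y : G)⁆
      calc ⁅g, (x : G) * y⁆ = ⁅g, (x : G)⁆ * ((x : G) * ⁅g, (y : G)⁆ * (x : G)⁻¹) := by
            simp only [commutatorElement_def]; group
        _ = _ := by rw [← h, mul_inv_cancel_right]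
    let χ : (↥E ⧸ C.subgroupOf E) →* ℂˣ := QuotientGroup.lift (C.subgroupOf E) χ0 fun c hc => by
      show j _ = 1
      rw [← map_one j]
      refine congrArg j (Subtype.ext ?_)
      show ⁅g, (c : G)⁆ = 1
      rw [commutatorElement_eq_one_iff_mul_comm]
      exact (hg _ hc).symm
    haveI : NeZero (Monoid.exponent (↥E ⧸ C.subgroupOf E)) := ⟨Monoid.exponent_ne_zero_of_finite⟩
    have hch := CommGroup.card_monoidHom_of_hasEnoughRootsOfUnity (↥E ⧸ C.subgroupOf E) ℂ
    haveI : Finite ((↥E ⧸ C.subgroupOf E) →* ℂˣ) :=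
      Nat.finite_of_card_ne_zero (hch ▸ Nat.card_pos.ne')
    have hbij : Function.Bijective ω.toHom := by
      rw [Nat.bijective_iff_injective_and_card]
      refine ⟨(injective_iff_map_eq_one ω.toHom).mpr fun a ha => ?_, hch.symm⟩
      have : a ∈ (⊤ : Subgroup _) ⊓ ω.perp ⊤ :=
        ⟨Subgroup.mem_top _, fun b _ => by rw [ha, MonoidHom.one_apply]⟩
      rw [hω] at this
      exact Subgroup.mem_bot.mp this
    obtain ⟨a, ha⟩ := hbij.2 χ
    obtain ⟨e, rfl⟩ := QuotientGroup.mk_surjective a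
    have heg : (e : G)⁻¹ * g ∈ C := by
      refine hX ⟨(Subgroup.centralizer (C : Set G)).mul_mem
        ((Subgroup.centralizer (C : Set G)).inv_mem (hEM e.2)) hg, fun x hx => ?_⟩
      have h2 := DFunLike.congr_fun ha (QuotientGroup.mk ⟨x, hx⟩)
      rw [hval e ⟨x, hx⟩ (hder _ e.2 _ hx)] at h2
      have h3 : ⁅(e : G), x⁆ = ⁅g, x⁆ := congrArg Subtype.val (hj h2)
      rw [commutatorElement_def, commutatorElement_def, mul_left_inj] at h3
      show x * ((e : G)⁻¹ * g) = (e : G)⁻¹ * g * x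
      calc x * ((e : G)⁻¹ * g) = (e : G)⁻¹ * ((e : G) * x * (e : G)⁻¹) * g := by group
        _ = (e : G)⁻¹ * g * x := by rw [h3]; group
    have := mul_mem e.2 (hCE heg)
    rwa [mul_inv_cancel_left] at this
  have hM : Nat.card (Subgroup.centralizer (C : Set G)) ∣
      Nat.card E * Nat.card (φ.comp (Subgroup.centralizer (C : Set G)).subtype).range := by
    rw [← Subgroup.index_ker, ← Subgroup.card_mul_index
      (φ.comp (Subgroup.centralizer (C : Set G)).subtype).ker]
    refine Nat.mul_dvd_mul_right ?_ _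
    rw [← Subgroup.card_map_of_injective (f := (Subgroup.centralizer (C : Set G)).subtype)
      (Subgroup.subtype_injective _)]
    refine Subgroup.card_dvd_of_le ?_
    rintro _ ⟨x, hx, rfl⟩
    exact hker x x.2 hx
  have hEcard : Nat.card E = Nat.card C * Nat.card (↥E ⧸ C.subgroupOf E) := by
    rw [← Nat.card_congr (Subgroup.subgroupOfEquivOfLe hCE).toEquiv, mul_comm]
    exact Subgroup.card_eq_card_quotient_mul_card_subgroup _
  haveI : NeZero d := ⟨hd.ne'⟩
  have hrd : Nat.card f.range ∣ d := by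
    have := Subgroup.card_subgroup_dvd_card f.range
    rwa [Nat.card_congr Multiplicative.toAdd, Nat.card_zmod] at this
  have hG : Nat.card G = Nat.card (Subgroup.centralizer (C : Set G)) * Nat.card f.range := by
    rw [← Subgroup.index_ker, hf, Subgroup.card_mul_index]
  have hp2r2 : 2 ∣ Nat.card (↥E ⧸ C.subgroupOf E) → p ≠ 2 ∧ r ≠ 2 := by
    intro h2
    have h2E : 2 ∣ Nat.card E := by rw [hEcard]; exact h2.mul_left _
    exact ⟨fun h => hpE (h ▸ h2E), fun h => hrE (h ▸ h2E)⟩
  by_cases htwo : t = 2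
  · subst htwo
    obtain ⟨s, hs⟩ := hQsq
    have hs2 : s = 2 := by
      rw [hs] at hQ1
      have : s * s ≤ 2 * 2 := by rw [← hs, hcardQ]; exact hA2
      have := Nat.mul_self_le_mul_self_iff.mp this
      rcases s with _ | _ | s <;> omega
    subst hs2
    have hAut : Nat.card (φ.comp (Subgroup.centralizer (C : Set G)).subtype).range ∣ 6 := by
      refine (Subgroup.card_subgroup_dvd_card _).trans ?_
      let X := {a : ↥E ⧸ C.subgroupOf E // a ≠ 1}
      let P : MulAut (↥E ⧸ C.subgroupOf E) →* Equiv.Perm X :=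
        { toFun := fun σ => σ.toEquiv.subtypeEquiv fun a => by simp
          map_one' := by ext; rfl
          map_mul' := fun σ τ => by ext; rfl }
      have hP : Function.Injective P := by
        intro σ τ h
        refine MulEquiv.ext fun a => ?_
        by_cases ha : a = 1
        · rw [ha, map_one, map_one]
        · exact congrArg Subtype.val (Equiv.congr_fun h ⟨a, ha⟩)
      refine (Subgroup.card_dvd_of_injective P hP).trans (dvd_of_eq ?_)
      haveI : Fintype (↥E ⧸ C.subgroupOf E) := Fintype.ofFinite _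
      rw [Nat.card_perm, Nat.card_eq_fintype_card, Fintype.card_subtype_compl,
        Fintype.card_subtype_eq, ← Nat.card_eq_fintype_card, hs]
      rfl
    have hM24 : Nat.card (Subgroup.centralizer (C : Set G)) ∣ 24 * Nat.card C := by
      refine hM.trans ?_
      rw [hEcard, hs, show 24 * Nat.card C = Nat.card C * (2 * 2) * 6 by ring]
      exact Nat.mul_dvd_mul_left _ hAut
    obtain ⟨hp2, hr2⟩ := hp2r2 (hs ▸ dvd_mul_right 2 2)
    have h3 : ∀ l : ℕ, l.Prime → l ≠ 2 → ¬ l ∣ Nat.card C →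
        l ∣ Nat.card (Subgroup.centralizer (C : Set G)) → l = 3 := by
      intro l hl hl2 hlC hlM
      have h24 : l ∣ 2 ^ 3 * 3 := (hl.dvd_mul.mp (hlM.trans hM24)).resolve_right hlC
      rcases hl.dvd_mul.mp h24 with h | h
      · exact absurd ((Nat.prime_dvd_prime_iff_eq hl Nat.prime_two).mp (hl.dvd_of_dvd_pow h)) hl2
      · exact (Nat.prime_dvd_prime_iff_eq hl Nat.prime_three).mp h
    have main : ∀ p r : ℕ, p.Prime → r.Prime → NoPair G p r → p ∣ Nat.card G → r = 3 →
        ¬ p ∣ Nat.card (Subgroup.centralizer (C : Set G)) →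
        r ∣ Nat.card (Subgroup.centralizer (C : Set G)) → ¬ r ∣ Nat.card C →
        (∀ k, 0 < k → k < n → Nat.card (Sylow r G) * (q ^ k - 1) = q ^ n - 1 → False) ∨ False := by
      intro p r hp hr hpair hpG hr3 hpM hrM hrC
      subst hr3
      left
      intro k hk0 hkn hc
      have hne : ¬ 3 ∣ (Subgroup.centralizer (C : Set G)).index := fun h =>
        not_both_dvd_index hpair C (hidx p hp hpG hpM) h
      have hb := three_sylow_bound C _ hCc le_rfl hne hrM hrC hM24
      have hkd : k ≤ d := by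
        obtain ⟨i, hi⟩ := dvd_of_pow_sub_one_dvd hq.out.two_le hk0 (Dvd.intro_left _ hc)
        rcases i with _ | _ | i <;> [omega; omega; nlinarith]
      have hd2 : 2 ≤ d := by omega
      have h1 : q ^ k ≤ q ^ d := Nat.pow_le_pow_right hq.out.pos hkd
      have h4 : 4 ≤ q ^ d := le_trans (by norm_num) ((Nat.pow_le_pow_right (by norm_num) hd2).trans
        (Nat.pow_le_pow_left hq.out.two_le d))
      rw [hndt, pow_mul] at hc
      have h5 : 1 ≤ (q ^ d) ^ 2 := Nat.one_le_pow _ _ (by omega)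
      have h6 : 1 ≤ q ^ k := Nat.one_le_pow _ _ hq.out.pos
      obtain ⟨x, hx⟩ : ∃ x, q ^ d = x + 1 := ⟨q ^ d - 1, by omega⟩
      obtain ⟨y, hy⟩ : ∃ y, q ^ k = y + 1 := ⟨q ^ k - 1, by omega⟩
      rw [hx] at hc h1 h4
      rw [hy] at hc h1
      simp only [Nat.add_sub_cancel] at hc
      have h7 : Nat.card (Sylow 3 G) * y ≤ 4 * x :=
        Nat.mul_le_mul hb (by omega)
      have h8 : (x + 1) ^ 2 - 1 = x * x + 2 * x := by
        rw [show (x + 1) ^ 2 = x * x + 2 * x + 1 by ring]; omega
      rw [h8] at hc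
      nlinarith
    by_cases hpM : p ∣ Nat.card (Subgroup.centralizer (C : Set G))
    · have hp3 := h3 p hp hp2 hpC hpM
      have hrM : ¬ r ∣ Nat.card (Subgroup.centralizer (C : Set G)) := fun h =>
        hpr (hp3.trans (h3 r hr hr2 hrC h).symm)
      exact (main r p hr hp hpair.symm hrG hp3 hrM hpM hpC).elim
        (fun H => H kp hkp0 hkpn hcp) id
    · by_cases hrM : r ∣ Nat.card (Subgroup.centralizer (C : Set G))
      · exact (main p r hp hr hpair hpG (h3 r hr hr2 hrC hrM) hpM hrM hrC).elim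
          (fun H => H kr hkr0 hkrn hcr) id
      · exact not_both_dvd_index hpair C (hidx p hp hpG hpM) (hidx r hr hrG hrM)
  have ht3 : 3 ≤ t := by omega
  -- consequences of a large prime
  have key : ∀ r : ℕ, r.Prime → r ∣ Nat.card G → ¬ r ∣ q ^ d - 1 → n + 1 ≤ r →
      d = 1 ∧ r = t + 1 ∧ Nat.card (↥E ⧸ C.subgroupOf E) = t * t ∧
        (2 ∣ t → ∀ a : ↥E ⧸ C.subgroupOf E, a ^ 2 = 1) ∧ ¬ r * r ∣ Nat.card G := by
    intro r hr hrG hrd' hrn
    haveI := Fact.mk hr
    have hdt : d + 2 ≤ n := by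
      have := Nat.mul_le_mul_left d ht3
      omega
    have htn : t ≤ n := hndt ▸ Nat.le_mul_of_pos_left t hd
    have hrC : ¬ r ∣ Nat.card C := fun h => hrd' (h.trans hCd)
    have hrQ : ¬ r ∣ Nat.card (↥E ⧸ C.subgroupOf E) := by
      intro h
      obtain ⟨s, hs⟩ := hQsq
      have hst : s ≤ t := Nat.mul_self_le_mul_self_iff.mp (hs ▸ hcardQ ▸ hA2)
      have hrs : r ∣ s := by rcases hr.dvd_mul.mp (hs ▸ h) with h | h <;> exact h
      have hs0 : 0 < s := by
        rcases Nat.eq_zero_or_pos s with h0 | h0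
        · rw [hs, h0] at hQ1; omega
        · exact h0
      have := Nat.le_of_dvd hs0 hrs
      omega
    obtain ⟨R⟩ : Nonempty (Sylow r G) := inferInstance
    have hRne : (R : Subgroup G) ≠ ⊥ := R.ne_bot_of_dvd_card hrG
    have hRM : (R : Subgroup G) ≤ Subgroup.centralizer (C : Set G) := by
      rw [← hf]
      intro x hx
      rw [MonoidHom.mem_ker, ← orderOf_eq_one_iff]
      obtain ⟨k, hk⟩ := R.2 ⟨x, hx⟩
      have h1 : orderOf (f x) ∣ r ^ k := orderOf_dvd_of_pow_eq_one (by
        rw [← map_pow, show x ^ r ^ k = 1 from congrArg Subtype.val hk, map_one])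
      have h2 : orderOf (f x) ∣ d := by
        have := orderOf_dvd_natCard (f x)
        rwa [Nat.card_congr Multiplicative.toAdd, Nat.card_zmod] at this
      exact Nat.eq_one_of_dvd_coprimes ((hr.coprime_iff_not_dvd.mpr fun h => by
        have := Nat.le_of_dvd hd h; omega).pow_left k) h1 h2
    let P := (R : Subgroup G).map φ
    have hinj : Function.Injective (φ.subgroupMap (R : Subgroup G)) := by
      refine (injective_iff_map_eq_one _).mpr fun x hx => Subtype.ext ?_
      have hxE : (x : G) ∈ E := hker x (hRM x.2) (congrArg Subtype.val hx)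
      rw [OneMemClass.coe_one, ← orderOf_eq_one_iff]
      obtain ⟨k, hk⟩ := R.2 x
      have h1 : orderOf (x : G) ∣ r ^ k := orderOf_dvd_of_pow_eq_one (congrArg Subtype.val hk)
      have h2 : orderOf (x : G) ∣ Nat.card E := by
        have := orderOf_dvd_natCard (⟨x, hxE⟩ : E)
        rwa [← Subgroup.orderOf_coe] at this
      refine Nat.eq_one_of_dvd_coprimes ((hr.coprime_iff_not_dvd.mpr ?_).pow_left k) h1 h2
      rw [hEcard]
      intro h
      rcases hr.dvd_mul.mp h with h | h
      · exact hrC h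
      · exact hrQ h
    have hPcard : Nat.card P = Nat.card (R : Subgroup G) :=
      (Nat.card_congr (Equiv.ofBijective _ ⟨hinj, φ.subgroupMap_surjective _⟩)).symm
    have hPne : P ≠ ⊥ := fun h => hRne (Subgroup.card_eq_one.mp (by
      rw [← hPcard, h, Subgroup.card_bot]))
    obtain ⟨hrt, hQt, hPr, hsq⟩ := ω.prime_eq hω (ρ := r) (t := t) hr (by omega) (hcardQ ▸ hA2)
      (by omega) (R.2.map φ) hPne (by
        rintro _ ⟨g, hg, rfl⟩ a b
        obtain ⟨x, rfl⟩ := QuotientGroup.mk_surjective a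
        obtain ⟨y, rfl⟩ := QuotientGroup.mk_surjective b
        rw [hφ, hφ, hval _ _ (hder _ (MulAut.conjNormal g x).2 _ (MulAut.conjNormal g y).2),
          hval x y (hder _ x.2 _ y.2)]
        refine congrArg j (Subtype.ext ?_)
        show ⁅((MulAut.conjNormal g x : E) : G), ((MulAut.conjNormal g y : E) : G)⁆ = ⁅(x : G), (y : G)⁆
        have hc : (⁅(x : G), (y : G)⁆) * g = g * ⁅(x : G), (y : G)⁆ :=
          (hRM hg) _ (hder _ x.2 _ y.2)
        calc ⁅((MulAut.conjNormal g x : E) : G), ((MulAut.conjNormal g y : E) : G)⁆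
            = g * ⁅(x : G), (y : G)⁆ * g⁻¹ := by
              simp only [MulAut.conjNormal_apply, commutatorElement_def]; group
          _ = _ := by rw [← hc, mul_inv_cancel_right])
    refine ⟨?_, hrt, hQt, hsq, ?_⟩
    · by_contra hd1
      have := Nat.mul_le_mul_right t (show 2 ≤ d by omega)
      omega
    · intro h2
      have h3 : r ^ 2 ∣ Nat.card (R : Subgroup G) :=
        R.pow_dvd_card_of_pow_dvd_card (by rwa [pow_two])
      rw [← hPcard, hPr, pow_two] at h3
      have := Nat.le_of_dvd hr.pos h3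
      nlinarith [hr.two_le]
  have hdn : d < n := by
    have := Nat.mul_le_mul_left d ht3
    omega
  obtain ⟨hd1, hzt, hQt, hsq, hz2⟩ := key z hz hzG (hzprim d hd hdn) hnz
  subst hd1
  have hnt : n = t := hndt.trans (one_mul t)
  have hteven : 2 ∣ t := by
    have hodd := hz.odd_of_ne_two (by omega)
    rw [hzt] at hodd
    rcases Nat.even_or_odd t with h | h
    · exact even_iff_two_dvd.mp h
    · exact absurd hodd (by simp [Nat.odd_add_one, h])
  have hexp2 := hsq hteven
  obtain ⟨i, hi⟩ := IsPGroup.iff_card.mp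
    (show IsPGroup 2 (↥E ⧸ C.subgroupOf E) from fun a => ⟨1, by rw [pow_one]; exact hexp2 a⟩)
  haveI := Fact.mk Nat.prime_two
  obtain ⟨m, -, hm⟩ := (Nat.dvd_prime_pow Nat.prime_two).mp
    (show t ∣ 2 ^ i by rw [← hi, hQt]; exact dvd_mul_right t t)
  subst hm
  have hm2 : 2 ≤ m := by
    by_contra h
    interval_cases m <;> norm_num at ht3
  have hodd2 : p ≠ 2 ∧ r ≠ 2 := hp2r2 (by rw [hQt]; exact hteven.mul_right _)
  have hq2 : ¬ 2 ∣ q := by
    intro h2
    have hq2' : q = 2 := ((Nat.prime_dvd_prime_iff_eq Nat.prime_two hq.out).mp h2).symm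
    subst hq2'
    norm_num at hCd
    have hbot : C = ⊥ := hCd
    apply hEne
    intro x hx
    exact hrad ⟨hx, fun y hy => by
      have := hder y hy x hx
      rw [hbot, Subgroup.mem_bot, commutatorElement_eq_one_iff_mul_comm] at this
      exact this⟩
  have hq3 : 3 ≤ q := by
    have := hq.out.two_le
    by_contra h
    exact hq2 ⟨1, by omega⟩
  set H := 2 ^ (m - 1) with hH
  have hn2' : n = H + H := by
    rw [hnt, hH, show 2 ^ m = 2 ^ (m - 1) * 2 by rw [← pow_succ]; congr 1; omega]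
    ring
  have hN : q ^ H + 1 ∣ Nat.card (Sylow p G) := by
    have hkn : kp ∣ n := dvd_of_pow_sub_one_dvd hq.out.two_le hkp0 (Dvd.intro_left _ hcp)
    have hkH : kp ∣ H := by
      rw [hnt] at hkn hkpn
      obtain ⟨i, hi, rfl⟩ := (Nat.dvd_prime_pow Nat.prime_two).mp hkn
      rw [hH]
      refine pow_dvd_pow 2 ?_
      by_contra hcon
      rw [show i = m by omega] at hkpn
      exact lt_irrefl _ hkpn
    obtain ⟨w, hw⟩ := hkH
    have hdv : q ^ kp - 1 ∣ q ^ H - 1 := by
      have := Nat.sub_dvd_pow_sub_pow (q ^ kp) 1 w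
      rwa [one_pow, ← pow_mul, ← hw] at this
    have hpos : 1 ≤ q ^ H := Nat.one_le_pow _ _ hq.out.pos
    obtain ⟨c, hc⟩ := hdv
    have hkpos : 0 < q ^ kp - 1 := Nat.sub_pos_of_lt (Nat.one_lt_pow hkp0.ne' hq1)
    refine ⟨c, Nat.eq_of_mul_eq_mul_right hkpos ?_⟩
    rw [hcp, mul_assoc, mul_comm c, ← hc, hn2', pow_add]
    obtain ⟨y, hy⟩ : ∃ y, q ^ H = y + 1 := ⟨q ^ H - 1, by omega⟩
    rw [hy, Nat.add_sub_cancel, show (y + 1) * (y + 1) = (y + 1 + 1) * y + 1 by ring,
      Nat.add_sub_cancel]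
  have hNG : q ^ H + 1 ∣ Nat.card G :=
    hN.trans ((default : Sylow p G).card_dvd_index.trans (Subgroup.index_dvd_card _))
  have heven : Even H := by
    rw [hH]; exact (Nat.even_pow).mpr ⟨even_two, by omega⟩
  have hodd : ∀ l : ℕ, l.Prime → l ∣ q ^ H + 1 → l = 2 ∨ l = z := by
    intro l hl hld
    by_cases hl2 : l = 2
    · exact Or.inl hl2
    right
    haveI := Fact.mk hl
    have hneg : (q : ZMod l) ^ H = -1 := by
      have := (ZMod.natCast_eq_zero_iff _ _).mpr hld
      push_cast at this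
      exact eq_neg_of_add_eq_zero_left this
    have h1 : (q : ZMod l) ^ H ≠ 1 := by
      rw [hneg]
      intro h'
      have h2' : ((2 : ℕ) : ZMod l) = 0 := by
        push_cast
        rw [show (2 : ZMod l) = 1 - (-1) by ring, h', sub_self]
      rw [ZMod.natCast_eq_zero_iff] at h2'
      exact hl2 ((Nat.prime_dvd_prime_iff_eq hl Nat.prime_two).mp h2')
    have hord : orderOf (q : ZMod l) = n := by
      rw [hnt, show m = m - 1 + 1 by omega]
      refine orderOf_eq_prime_pow (by rw [← hH]; exact h1) ?_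
      rw [pow_succ, pow_mul, ← hH, hneg, neg_one_sq]
    have hln : n + 1 ≤ l := by
      have hne : (q : ZMod l) ≠ 0 := by
        intro h0
        rw [h0, zero_pow (pow_ne_zero _ two_ne_zero)] at hneg
        exact one_ne_zero (neg_eq_zero.mp hneg.symm)
      have := NumberTheory.order_lt hne
      omega
    have hld' : ¬ l ∣ q ^ 1 - 1 := by
      rw [NumberTheory.dvd_pow_sub_one_iff hq.out.pos, pow_one]
      intro h0
      exact h1 (by rw [h0, one_pow])
    obtain ⟨-, hlt, -⟩ := key l hl (hld.trans hNG) hld' hln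
    omega
  have hbound : q ^ H + 1 ≤ 2 * (2 ^ m + 1) := by
    have hdvd : q ^ H + 1 ∣ 2 * z := by
      rw [Nat.dvd_iff_prime_pow_dvd_dvd]
      intro l i hl hli
      rcases Nat.eq_zero_or_pos i with rfl | hi
      · simp
      have hld : l ∣ q ^ H + 1 := (dvd_pow_self l hi.ne').trans hli
      have hi1 : i = 1 := by
        by_contra hi2
        have h2i : l ^ 2 ∣ q ^ H + 1 := (pow_dvd_pow l (by omega)).trans hli
        rcases hodd l hl hld with rfl | rfl
        · obtain ⟨h', hh'⟩ := heven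
          rw [hh'] at h2i
          have hqodd : q % 2 = 1 := Nat.two_dvd_ne_zero.mp hq2
          have hq4 : (q ^ (h' + h')) % 4 = 1 := by
            rw [← two_mul, pow_mul, Nat.pow_mod, Nat.pow_mod q 2 4]
            have : q % 4 = 1 ∨ q % 4 = 3 := by omega
            rcases this with e | e <;> simp [e]
          norm_num at h2i
          omega
        · exact hz2 (by rw [← pow_two]; exact h2i.trans hNG)
      rw [hi1, pow_one]
      rcases hodd l hl hld with rfl | rfl
      · exact dvd_mul_right 2 _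
      · exact dvd_mul_left _ _
    have := Nat.le_of_dvd (by omega) hdvd
    omega
  obtain ⟨rfl, rfl⟩ := arith_large hq3 hm2 hbound
  norm_num at hnt
  subst hnt
  -- the two primes are three and thirteen
  have hcase : ∀ l : ℕ, l.Prime → l ≠ 2 → ∀ k, 0 < k → k < 4 →
      Nat.card (Sylow l G) * (3 ^ k - 1) = 3 ^ 4 - 1 → l = 3 ∨ l = 13 := by
    intro l hl hl2 k hk0 hk4 hc
    haveI := Fact.mk hl
    have hkd : k ∣ 4 := dvd_of_pow_sub_one_dvd (by norm_num) hk0 (Dvd.intro_left _ hc)
    have hmod := (Nat.modEq_iff_dvd' Nat.card_pos).mp (card_sylow_modEq_one l G).symm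
    interval_cases k <;> norm_num at hkd <;> norm_num at hc ⊢
    · rw [show Nat.card (Sylow l G) = 40 by omega] at hmod
      have h39 : l ∣ 3 * 13 := hmod
      rcases hl.dvd_mul.mp h39 with h | h
      · exact Or.inl ((Nat.prime_dvd_prime_iff_eq hl Nat.prime_three).mp h)
      · exact Or.inr ((Nat.prime_dvd_prime_iff_eq hl (by norm_num)).mp h)
    · rw [show Nat.card (Sylow l G) = 10 by omega] at hmod
      have h9 : l ∣ 3 ^ 2 := hmod
      exact Or.inl ((Nat.prime_dvd_prime_iff_eq hl Nat.prime_three).mp (hl.dvd_of_dvd_pow h9))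
  have h13 : 13 ∣ Nat.card G := by
    rcases hcase p hp hodd2.1 kp hkp0 hkpn hcp with h | h
    · rcases hcase r hr hodd2.2 kr hkr0 hkrn hcr with h' | h'
      · exact absurd (h.trans h'.symm) hpr
      · exact h' ▸ hrG
    · exact h ▸ hpG
  haveI : Fact (Nat.Prime 13) := ⟨by norm_num⟩
  obtain ⟨x, hx⟩ := exists_prime_orderOf_dvd_card' (G := G) 13 h13
  have hxM : x ∈ Subgroup.centralizer (C : Set G) := by
    rw [← hf, MonoidHom.mem_ker]
    exact Subsingleton.elim _ _
  have hcard16 : Nat.card (↥E ⧸ C.subgroupOf E) = 16 := by rw [hQt]; norm_num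
  have hxE : x ∈ E := by
    refine hker x hxM (MulEquiv.ext fun a => ?_)
    rw [MulAut.one_apply]
    have hxp : (φ x) ^ 13 = 1 := by rw [← map_pow, ← hx, pow_orderOf_eq_one, map_one]
    have hP : IsPGroup 13 (Subgroup.zpowers (φ x)) := fun y => ⟨1, by
      obtain ⟨_, i, rfl⟩ := y
      refine Subtype.ext ?_
      show ((φ x) ^ i) ^ (13 ^ 1) = 1
      rw [pow_one, ← zpow_natCast, ← zpow_mul, mul_comm, zpow_mul, zpow_natCast, hxp, one_zpow]⟩
    let F : Subgroup (↥E ⧸ C.subgroupOf E) := (φ x).toMonoidHom.eqLocus (MonoidHom.id _)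
    have h1 := hP.card_modEq_card_fixedPoints (↥E ⧸ C.subgroupOf E)
    have h2 : Nat.card (MulAction.fixedPoints (Subgroup.zpowers (φ x)) (↥E ⧸ C.subgroupOf E)) =
        Nat.card F := by
      refine Nat.card_congr (Equiv.subtypeEquivRight fun b => ?_)
      refine ⟨fun hb => hb ⟨φ x, Subgroup.mem_zpowers _⟩, fun hb y => ?_⟩
      obtain ⟨i, hi⟩ := (isOfFinOrder_of_finite (φ x)).mem_powers_iff_mem_zpowers.mpr y.2
      show (y : MulAut _) b = b
      rw [← hi]
      show ((φ x) ^ i) b = b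
      clear hi
      induction i with
      | zero => rfl
      | succ i ih =>
        rw [pow_succ', MulAut.mul_apply, ih]
        exact hb
    rw [h2, hcard16] at h1
    have h3 : Nat.card F ∣ 2 ^ 4 := by
      have := Subgroup.card_subgroup_dvd_card F
      rwa [hcard16] at this
    obtain ⟨i, hi, he⟩ := (Nat.dvd_prime_pow Nat.prime_two).mp h3
    have htop : F = ⊤ := by
      refine Subgroup.eq_top_of_card_eq F ?_
      rw [hcard16]
      rw [he] at h1 ⊢
      unfold Nat.ModEq at h1
      interval_cases i <;> first | (norm_num at h1; done) | norm_num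
    exact (htop ▸ Subgroup.mem_top a : a ∈ F)
  have h13E : 13 ∣ Nat.card E := by
    have := orderOf_dvd_natCard (⟨x, hxE⟩ : E)
    rwa [← Subgroup.orderOf_coe, hx] at this
  rw [hEcard, hcard16] at h13E
  have := h13E.trans (Nat.mul_dvd_mul_right hCd 16)
  norm_num at this

end CfsgLib.ThreePrimes
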