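import Cfsg.Agent.Lib.ThreePrimes.CaseB

/-!
# Pálfy's three-prime theorem
-/

set_option autoImplicit false
set_option linter.style.haveILetI false
set_option linter.unusedSectionVars false

open scoped commutatorElement

namespace CfsgLib.ThreePrimes

open Cfsg CfsgLib.Char
open scoped CfsgLib.Char

universe v

variable {G : Type*} [Group G] [Finite G]

theorem exists_setup [Group.IsSolvable G] {q : ℕ} [Fact q.Prime] (M : Subgroup G) [M.Normal]
    (hM0 : M ≠ ⊥) (hMq : IsPGroup q M)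
    (hmin : ∀ K : Subgroup G, K.Normal → K ≤ M → K = ⊥ ∨ K = M)
    (hmiss : ¬ HasDeg (G ⧸ M) q) (hdq : HasDeg G q) :
    ∃ Q H : Subgroup G, Q.Normal ∧ Setup q M Q H := by
  classical
  obtain ⟨Pq, hPqn, hPqp, hPqi, hPqab⟩ := exists_normal_abelian_sylow hmiss
  haveI := hPqn
  obtain ⟨S⟩ : Nonempty (Sylow q G) := inferInstance
  obtain ⟨hX, hSX⟩ := comap_eq_sup M Pq hPqp hPqi S
  have hMS : M ≤ (S : Subgroup G) := le_of_not_dvd_index M _ hMq S.not_dvd_index
  rw [sup_eq_right.mpr hMS] at hX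
  have hn : (S : Subgroup G).Normal := hX ▸ (inferInstance : (Pq.comap (QuotientGroup.mk' M)).Normal)
  haveI := hn
  set Q : Subgroup G := (S : Subgroup G) with hQ
  have hle : ⁅Q, Q⁆ ≤ M := Subgroup.commutator_le.mpr fun a ha b hb => by
    rw [← QuotientGroup.eq_one_iff, ← QuotientGroup.mk'_apply, map_commutatorElement,
      commutatorElement_eq_one_iff_mul_comm]
    exact hPqab _ (hSX ha) _ (hSX hb)
  have hne : ⁅Q, Q⁆ ≠ ⊥ := fun h => not_hasDeg Q (fun a ha b hb => by
    have h1 : ⁅a, b⁆ ∈ ⁅Q, Q⁆ := Subgroup.commutator_mem_commutator ha hb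
    rw [h, Subgroup.mem_bot] at h1
    exact commutatorElement_eq_one_iff_mul_comm.mp h1) S.not_dvd_index hdq
  have hder : ⁅Q, Q⁆ = M := (hmin _ inferInstance hle).resolve_left hne
  -- `M` is central in `Q`
  have hcen : ∀ m ∈ M, ∀ x ∈ Q, m * x = x * m := by
    let Z := M ⊓ Subgroup.centralizer (Q : Set G)
    haveI : Z.Normal := Subgroup.normal_inf_normal _ _
    have hZ : Z ≠ ⊥ := by
      letI : MulAction Q M := MulAction.compHom M (conjAct M Q)
      have hq : q ∣ Nat.card M := by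
        obtain ⟨k, hk⟩ := IsPGroup.iff_card.mp hMq
        rw [hk]
        refine dvd_pow_self q fun h0 => hM0 (Subgroup.card_eq_one.mp ?_)
        rw [hk, h0, pow_zero]
      obtain ⟨b, hb, hb1⟩ := S.2.exists_fixed_point_of_prime_dvd_card_of_fixed_point M hq
        (a := 1) (fun x => map_one (conjAct M Q x))
      intro hZ
      refine hb1 (Subtype.ext ?_)
      have hmem : (b : G) ∈ Z := Subgroup.mem_inf.mpr ⟨b.2, fun x hx => by
        have h1 : (conjAct M Q ⟨x, hx⟩ b : M) = b := hb ⟨x, hx⟩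
        have h2 := congrArg Subtype.val h1
        rw [conjAct_coe] at h2
        exact mul_inv_eq_iff_eq_mul.mp h2⟩
      rw [hZ, Subgroup.mem_bot] at hmem
      exact hmem.symm
    have hZM : Z = M := (hmin Z inferInstance inf_le_left).resolve_left hZ
    intro m hm x hx
    exact ((Subgroup.mem_inf.mp (hZM.symm ▸ hm : m ∈ Z)).2 x hx).symm
  have hcop : (Nat.card Q).Coprime Q.index := by
    obtain ⟨k, hk⟩ := IsPGroup.iff_card.mp S.2
    rw [hk]
    exact ((Fact.out : q.Prime).coprime_iff_not_dvd.mpr S.not_dvd_index).pow_left k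
  obtain ⟨H, hH⟩ := Subgroup.exists_right_complement'_of_coprime hcop
  exact ⟨Q, H, hn, ⟨S.2, S.not_dvd_index, hMS, hder, hcen, hH.sup_eq_top, hH.disjoint.eq_bot,
    hM0⟩⟩

theorem caseB [Group.IsSolvable G] {p q r : ℕ} (hp : p.Prime) (hq : q.Prime) (hr : r.Prime)
    (hpq : p ≠ q) (hrq : r ≠ q) (hpr : p ≠ r) (M : Subgroup G) [M.Normal] (hM0 : M ≠ ⊥)
    (hMu : IsPGroup q M) (hexp : ∀ a ∈ M, a ^ q = 1)
    (hmin : ∀ K : Subgroup G, K.Normal → K ≤ M → K = ⊥ ∨ K = M)
    (hMq : ¬ HasDeg (G ⧸ M) q) (hdp : HasDeg G p) (hdq : HasDeg G q) (hdr : HasDeg G r)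
    (hqp : NoPair G q p) (hqr : NoPair G q r) (hpr' : NoPair G p r) : False := by
  classical
  haveI := Fact.mk hp; haveI := Fact.mk hq; haveI := Fact.mk hr
  haveI : Fintype G := Fintype.ofFinite G
  obtain ⟨Q, H, hQn, hS⟩ := exists_setup M hM0 hMu hmin hMq hdq
  haveI := hQn
  haveI : Group.IsSolvable H := Group.isSolvable_of_isSolvable_injective H.subtype_injective
  haveI := finite_hom M hS.comm
  haveI := nontrivial_dual M hS.comm hM0 hexp
  obtain ⟨hidx, f, hf, -⟩ := hS.index_eq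
  have hdvd : ∀ l : ℕ, l.Prime → l ≠ q → HasDeg G l → l ∣ Nat.card H := by
    intro l hl hlq hd
    have h1 := hd.dvd_index M hS.comm
    rw [← Subgroup.relIndex_mul_index hS.le, hidx] at h1
    refine (hl.dvd_mul.mp h1).resolve_left fun h2 => hlq ?_
    obtain ⟨k, hk⟩ := IsPGroup.iff_card.mp hS.isp
    have h3 := h2.trans (Subgroup.relIndex_dvd_card M Q)
    rw [hk] at h3
    exact (Nat.prime_dvd_prime_iff_eq hl hq).mp (hl.dvd_of_dvd_pow h3)
  have hHpr : NoPair H p r := hpr'.of_surjective f hf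
  set ρ := kernelRep M H q hexp with hρ
  have hmove : ∀ l : ℕ, ∀ [Fact l.Prime], l ∣ Nat.card ρ.range →
      ∀ S : Sylow l H, fixSp ρ (S : Subgroup H) ≠ ⊤ := by
    intro l _ hl S htop
    have hle : (S : Subgroup H) ≤ ρ.ker := fun s hs => LinearEquiv.ext fun v =>
      (htop ▸ Submodule.mem_top : v ∈ fixSp ρ (S : Subgroup H)) s hs
    exact S.not_dvd_index (hl.trans ((Subgroup.index_ker ρ) ▸ Subgroup.index_dvd_of_le hle))
  -- a prime dividing only the kernel
  have hker : ∀ l : ℕ, ∀ [Fact l.Prime], NoPair G q l → ¬ l ∣ Nat.card ρ.range →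
      ∃ S : Sylow l H, (S : Subgroup H).Normal ∧
        (∀ a ∈ (S : Subgroup H), ∀ b ∈ (S : Subgroup H), a * b = b * a) ∧
        ∀ s ∈ (S : Subgroup H), ∀ m ∈ M, (s : G) * m = m * s := by
    intro l _ hpair hl
    obtain ⟨v₀, hv₀⟩ := exists_ne (0 : LinDual (⊤ : Subgroup (M →* ℂˣ)) (hom_pow_eq_one hexp))
    obtain ⟨S, -, hn, hab⟩ := hS.key hexp v₀ hv₀ Fact.out hpair
    have hle : (S : Subgroup H) ≤ ρ.ker := sylow_le_normal ρ.ker (by rwa [Subgroup.index_ker]) S
    refine ⟨S, mem_sylow_conj_eq S ρ.ker hle ?_, hab, fun s hs => kernelRep_eq_one M hS.comm H hexp (hle hs)⟩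
    intro y hy
    have hfix : ∀ z ∈ ρ.ker, ρ z v₀ = v₀ := fun z hz => by
      rw [show ρ z = 1 from hz]; rfl
    rw [Subgroup.mem_normalizer_iff]
    intro s
    refine ⟨fun hs => hn y (hfix y hy) s hs, fun hs => ?_⟩
    have := hn y⁻¹ (hfix _ (inv_mem hy)) _ hs
    simpa [mul_assoc] using this
  by_cases hpd : p ∣ Nat.card ρ.range
  · by_cases hrd : r ∣ Nat.card ρ.range
    · -- both move `M`
      have hgood : ∀ l : ℕ, ∀ [Fact l.Prime], NoPair G q l → Good ρ.range.subtype l := by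
        intro l _ hpair v hv
        obtain ⟨S, h1, h2, -⟩ := hS.key hexp v hv (Fact.out : l.Prime) hpair
        refine ⟨S.mapSurjective ρ.rangeRestrict_surjective, ?_, ?_⟩
        · rintro g hg
          rw [Sylow.coe_mapSurjective] at hg
          obtain ⟨s, hs, rfl⟩ := hg
          exact h1 s hs
        · rintro ⟨_, h, rfl⟩ hg s hs
          rw [Sylow.coe_mapSurjective] at hs ⊢
          obtain ⟨s', hs', rfl⟩ := hs
          exact ⟨h * s' * h⁻¹, h2 h hg s' hs', by simp [map_mul, Subtype.ext_iff]⟩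
      haveI : Group.IsSolvable ρ.range := Group.isSolvable_of_surjective ρ.rangeRestrict_surjective
      exact linear_false (ρ := ρ.range.subtype) ρ.range.subtype_injective hp hr hpr hpd hrd
        (hgood p hqp) (hgood r hqr) (hHpr.of_surjective _ ρ.rangeRestrict_surjective)
    · obtain ⟨R, hRn, hRab, hRM⟩ := hker r hqr hrd
      exact hS.one_false hexp hrq hqr hpr'.symm hqp hdr R hRn hRab hRM (hmove p hpd)
  · obtain ⟨P, hPn, hPab, hPM⟩ := hker p hqp hpd
    by_cases hrd : r ∣ Nat.card ρ.range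
    · exact hS.one_false hexp hpq hqp hpr' hqr hdp P hPn hPab hPM (hmove r hrd)
    · obtain ⟨R, hRn, hRab, hRM⟩ := hker r hqr hrd
      exact hS.both_false hpq hrq hdp hdr hpr' P R hPn hRn hPab hRab hPM hRM

/-- No solvable group has three degree primes with no two joined. -/
theorem no_three : ∀ n : ℕ, ∀ (G : Type v) [Group G] [Finite G] [Group.IsSolvable G], Nat.card G = n →
    ∀ p q r : ℕ, p.Prime → q.Prime → r.Prime → p ≠ q → q ≠ r → p ≠ r → HasDeg G p → HasDeg G q →
      HasDeg G r → NoPair G p q → NoPair G q r → NoPair G p r → False := by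
  classical
  intro n
  induction n using Nat.strong_induction_on with
  | _ n ih =>
  intro G _ _ _ hn p q r hp hq hr hpq hqr hpr hdp hdq hdr npq nqr npr
  have hIH : ∀ (K : Subgroup G) [K.Normal], K ≠ ⊥ →
      ¬ HasDeg (G ⧸ K) p ∨ ¬ HasDeg (G ⧸ K) q ∨ ¬ HasDeg (G ⧸ K) r := by
    intro K _ hK
    by_contra hcon
    push Not at hcon
    obtain ⟨h1, h2, h3⟩ := hcon
    have hlt : Nat.card (G ⧸ K) < n := by
      rw [← hn, Subgroup.card_eq_card_quotient_mul_card_subgroup K]
      exact lt_mul_of_one_lt_right Nat.card_pos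
        (Finite.one_lt_card_iff_nontrivial.mpr ((Subgroup.nontrivial_iff_ne_bot K).mpr hK))
    exact ih _ hlt (G ⧸ K) rfl p q r hp hq hr hpq hqr hpr h1 h2 h3
      (npq.of_surjective _ (QuotientGroup.mk'_surjective K))
      (nqr.of_surjective _ (QuotientGroup.mk'_surjective K))
      (npr.of_surjective _ (QuotientGroup.mk'_surjective K))
  have hG : (⊤ : Subgroup G) ≠ ⊥ := by
    intro h
    haveI := Fact.mk hp
    refine not_hasDeg (⊤ : Subgroup G) (fun a ha b _ => ?_) (by rw [Subgroup.index_top]; exact hp.not_dvd_one) hdp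
    rw [h, Subgroup.mem_bot] at ha
    rw [ha, one_mul, mul_one]
  obtain ⟨M, u, hMn, -, hM0, hu, hMu, hab, hexp, hmin⟩ := exists_minimal (⊤ : Subgroup G) hG
  haveI := hMn
  have step : ∀ p q r : ℕ, p.Prime → q.Prime → r.Prime → p ≠ q → q ≠ r → p ≠ r →
      ¬ HasDeg (G ⧸ M) q → HasDeg G p → HasDeg G q → HasDeg G r → NoPair G q p → NoPair G q r →
      NoPair G p r → (∀ (K : Subgroup G) [K.Normal], K ≠ ⊥ →
        ¬ HasDeg (G ⧸ K) p ∨ ¬ HasDeg (G ⧸ K) q ∨ ¬ HasDeg (G ⧸ K) r) → False := by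
    intro p q r hp hq hr hpq hqr hpr hmiss hdp hdq hdr hqp hqr' hpr' hIH'
    by_cases huq : u = q
    · subst huq
      exact caseB hp hu hr hpq (Ne.symm hqr) hpr M hM0 hMu hexp hmin hmiss hdp hdq hdr hqp hqr' hpr'
    · exact caseA hp hq hr hu hpr huq M hM0 hMu hab hexp hmin hmiss hdp hdq hdr hqp hqr' hpr' hIH'
  rcases hIH M hM0 with h | h | h
  · exact step q p r hq hp hr (Ne.symm hpq) hpr hqr h hdq hdp hdr npq npr nqr
      fun K _ hK => by rcases hIH K hK with h | h | h <;> tauto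
  · exact step p q r hp hq hr hpq hqr hpr h hdp hdq hdr npq.symm nqr npr hIH
  · exact step p r q hp hr hq hpr (Ne.symm hqr) hpq h hdp hdr hdq npr.symm nqr.symm npq
      fun K _ hK => by rcases hIH K hK with h | h | h <;> tauto

end CfsgLib.ThreePrimes
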