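import Cfsg.Agent.Lib.ThreePrimes.Group
import Cfsg.Agent.Lib.ThreePrimes.Dual
import Cfsg.Agent.Lib.ThreePrimes.Linear

/-!
# Setting up the action of a complement
-/

set_option autoImplicit false
set_option linter.style.haveILetI false
set_option linter.unusedSectionVars false

open scoped commutatorElement

namespace CfsgLib.ThreePrimes

open Cfsg CfsgLib.Char
open scoped CfsgLib.Char

variable {G : Type*} [Group G] [Finite G]

/-- A normal `l`-subgroup lies in every subgroup of index prime to `l`. -/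
theorem le_of_not_dvd_index {l : ℕ} [Fact l.Prime] (N T : Subgroup G) [N.Normal] (hN : IsPGroup l N)
    (h : ¬ l ∣ T.index) : N ≤ T := by
  obtain ⟨S⟩ : Nonempty (Sylow l T) := inferInstance
  have hidx : ¬ l ∣ ((S : Subgroup T).map T.subtype).index := by
    rw [Subgroup.index_map, T.subtype.ker_eq_bot_iff.mpr T.subtype_injective, sup_bot_eq,
      Subgroup.range_subtype]
    exact fun h' => ((Fact.out : l.Prime).dvd_mul.mp h').elim S.not_dvd_index h
  let P := IsPGroup.toSylow (S.2.map T.subtype) hidx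
  have hP : N ≤ (P : Subgroup G) := by
    rw [← P.3 (hN.to_sup_of_normal_left P.2) le_sup_right]
    exact le_sup_left
  rw [IsPGroup.toSylow_coe] at hP
  exact hP.trans (Subgroup.map_subtype_le _)

/-- A normal subgroup is generated by a smaller one and a Sylow subgroup it contains. -/
theorem eq_sup_sylow {l : ℕ} [Fact l.Prime] (M X : Subgroup G) [M.Normal] [X.Normal] (hMX : M ≤ X)
    (hrel : ∃ k, M.relIndex X = l ^ k) (S : Sylow l G) (hS : (S : Subgroup G) ≤ X) :
    X = M ⊔ (S : Subgroup G) := by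
  obtain ⟨k, hk⟩ := hrel
  refine le_antisymm ?_ (sup_le hMX hS)
  rw [← Subgroup.relIndex_eq_one]
  have h1 : (M ⊔ (S : Subgroup G)).relIndex X ∣ l ^ k := by
    rw [← hk, ← Subgroup.relIndex_mul_relIndex M (M ⊔ (S : Subgroup G)) X le_sup_left (sup_le hMX hS)]
    exact dvd_mul_left _ _
  have h2 : (M ⊔ (S : Subgroup G)).relIndex X ∣ (S : Subgroup G).index :=
    (Dvd.intro _ (Subgroup.relIndex_mul_index (sup_le hMX hS))).trans
      (Subgroup.index_dvd_of_le le_sup_right)
  exact Nat.eq_one_of_dvd_coprimes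
    (((Fact.out : l.Prime).coprime_iff_not_dvd.mpr S.not_dvd_index).pow_left k) h1 h2

/-- The preimage of a normal `l`-subgroup of a quotient, with a Sylow subgroup. -/
theorem comap_eq_sup {l : ℕ} [Fact l.Prime] (M : Subgroup G) [M.Normal] (P : Subgroup (G ⧸ M))
    [P.Normal] (hP : IsPGroup l P) (hidx : ¬ l ∣ P.index) (S : Sylow l G) :
    P.comap (QuotientGroup.mk' M) = M ⊔ (S : Subgroup G) ∧
      (S : Subgroup G) ≤ P.comap (QuotientGroup.mk' M) := by
  have hMX : M ≤ P.comap (QuotientGroup.mk' M) := fun m hm => by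
    rw [Subgroup.mem_comap, QuotientGroup.mk'_apply, (QuotientGroup.eq_one_iff m).mpr hm]
    exact one_mem _
  have hS : (S : Subgroup G) ≤ P.comap (QuotientGroup.mk' M) :=
    sylow_le_normal _ (by rwa [Subgroup.index_comap_of_surjective _ (QuotientGroup.mk'_surjective M)]) S
  refine ⟨eq_sup_sylow M _ hMX ?_ S hS, hS⟩
  obtain ⟨k, hk⟩ := IsPGroup.iff_card.mp hP
  refine ⟨k, ?_⟩
  have h1 := Subgroup.relIndex_mul_index hMX
  rw [Subgroup.index_comap_of_surjective _ (QuotientGroup.mk'_surjective M),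
    Subgroup.index_eq_card M, ← P.card_mul_index, hk] at h1
  exact Nat.eq_of_mul_eq_mul_right (Nat.pos_of_ne_zero Subgroup.index_ne_zero_of_finite) h1

/-- The conjugation action of a subgroup on a normal subgroup. -/
noncomputable def conjAct (N H : Subgroup G) [N.Normal] : H →* MulAut N :=
  MulAut.conjNormal.comp H.subtype

theorem conjAct_coe (N H : Subgroup G) [N.Normal] (h : H) (n : N) :
    ((conjAct N H h n : N) : G) = (h : G) * n * (h : G)⁻¹ := MulAut.conjNormal_apply _ _

theorem conjBy_eq_iff (N H : Subgroup G) [N.Normal] (μ : N →* ℂˣ) (h : H) :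
    conjBy N (fun n => (μ n : ℂ)) (h : G) = (fun n => (μ n : ℂ)) ↔
      ∀ n : N, μ (conjAct N H h n) = μ n := by
  have he : ∀ n : N, conjAct N H h n =
      ⟨(h : G) * n * (h : G)⁻¹, Subgroup.Normal.conj_mem ‹N.Normal› _ n.2 _⟩ :=
    fun n => Subtype.ext (conjAct_coe N H h n)
  constructor
  · intro e n
    rw [he]
    exact Units.ext (congrFun e n)
  · intro e
    funext n
    have := congrArg (Units.val) (e n)
    rw [he] at this
    exact this

/-- The trivial bound on exponents of linear characters. -/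
theorem hom_pow_eq_one {M : Subgroup G} {u : ℕ} (hexp : ∀ a ∈ M, a ^ u = 1) :
    ∀ μ ∈ (⊤ : Subgroup (M →* ℂˣ)), μ ^ u = 1 := fun μ _ => MonoidHom.ext fun m => by
  rw [MonoidHom.pow_apply, ← map_pow, show m ^ u = 1 from Subtype.ext (by simpa using hexp m m.2),
    map_one, MonoidHom.one_apply]

/-- The dual of an elementary abelian normal subgroup as a module for a subgroup. -/
noncomputable def kernelRep (M H : Subgroup G) [M.Normal] (u : ℕ) [Fact u.Prime]
    (hexp : ∀ a ∈ M, a ^ u = 1) :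
    H →* (LinDual (⊤ : Subgroup (M →* ℂˣ)) (hom_pow_eq_one hexp) ≃ₗ[ZMod u]
      LinDual (⊤ : Subgroup (M →* ℂˣ)) (hom_pow_eq_one hexp)) :=
  dualRep (conjAct M H) fun _ _ _ => Subgroup.mem_top _

theorem kernelRep_fix (M H : Subgroup G) [M.Normal] (u : ℕ) [Fact u.Prime]
    (hexp : ∀ a ∈ M, a ^ u = 1) (h : H)
    (v : LinDual (⊤ : Subgroup (M →* ℂˣ)) (hom_pow_eq_one hexp)) :
    kernelRep M H u hexp h v = v ↔ ∀ n : M, v.char (conjAct M H h n) = v.char n :=
  dualRep_fix _ _ h v

section Dual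

variable (M : Subgroup G) (hab : ∀ a ∈ M, ∀ b ∈ M, a * b = b * a)
include hab

theorem card_hom_eq : Nat.card (M →* ℂˣ) = Nat.card M := by
  letI : CommGroup M :=
    { (inferInstance : Group M) with mul_comm := fun a b => Subtype.ext (hab a a.2 b b.2) }
  exact CommGroup.card_monoidHom_of_hasEnoughRootsOfUnity M ℂ

theorem finite_hom : Finite (M →* ℂˣ) :=
  Nat.finite_of_card_ne_zero (by rw [card_hom_eq M hab]; exact Nat.card_pos.ne')

theorem eq_one_of_forall_hom {m : M} (h : ∀ μ : M →* ℂˣ, μ m = 1) : m = 1 := by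
  letI : CommGroup M :=
    { (inferInstance : Group M) with mul_comm := fun a b => Subtype.ext (hab a a.2 b b.2) }
  by_contra hne
  obtain ⟨μ, hμ⟩ := CommGroup.exists_apply_ne_one_of_hasEnoughRootsOfUnity M ℂ hne
  exact hμ (h μ)

theorem nontrivial_dual {u : ℕ} (hM : M ≠ ⊥) (hexp : ∀ a ∈ M, a ^ u = 1) :
    Nontrivial (LinDual (⊤ : Subgroup (M →* ℂˣ)) (hom_pow_eq_one hexp)) := by
  haveI := finite_hom M hab
  haveI : Nontrivial M := (Subgroup.nontrivial_iff_ne_bot M).mpr hM
  rw [← Finite.one_lt_card_iff_nontrivial, Nat.card_congr LinDual.equiv, Subgroup.card_top,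
    card_hom_eq M hab]
  exact Finite.one_lt_card

theorem kernelRep_eq_one [M.Normal] (H : Subgroup G) {u : ℕ} [Fact u.Prime]
    (hexp : ∀ a ∈ M, a ^ u = 1) {h : H} (h1 : kernelRep M H u hexp h = 1) :
    ∀ m ∈ M, (h : G) * m = m * h := by
  intro m hm
  have key : ∀ μ : M →* ℂˣ, μ (conjAct M H h ⟨m, hm⟩ * (⟨m, hm⟩ : M)⁻¹) = 1 := by
    intro μ
    have h2 := (kernelRep_fix M H u hexp h (LinDual.mk μ (Subgroup.mem_top _))).mp
      (by rw [h1]; rfl) ⟨m, hm⟩
    rw [LinDual.char_mk] at h2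
    rw [map_mul, map_inv, h2, mul_inv_cancel]
  have h3 := congrArg Subtype.val (mul_inv_eq_one.mp (eq_one_of_forall_hom M hab key))
  rw [conjAct_coe] at h3
  exact mul_inv_eq_iff_eq_mul.mp h3

theorem kernelRep_of_centralize [M.Normal] (H : Subgroup G) {u : ℕ} [Fact u.Prime]
    (hexp : ∀ a ∈ M, a ^ u = 1) {h : H} (hc : ∀ m ∈ M, (h : G) * m = m * h)
    (v : LinDual (⊤ : Subgroup (M →* ℂˣ)) (hom_pow_eq_one hexp)) :
    kernelRep M H u hexp h v = v := by
  rw [kernelRep_fix]
  intro n
  congr 1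
  refine Subtype.ext ?_
  rw [conjAct_coe, hc n n.2, mul_inv_cancel_right]

end Dual

end CfsgLib.ThreePrimes
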